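import Cfsg.Agent.Fi23Mult.Words

/-! Generated: kernel checks of one rewriting certificate, in pieces. -/

set_option autoImplicit false
set_option maxRecDepth 100000
set_option maxHeartbeats 2000000
set_option Elab.async false

namespace CfsgLib.Fi23Mult.Four

open CfsgLib.Schur.CoxLift

/-- intermediate word -/
def mid0 : List ℕ := [3,2,1,3,4,5,3,7,8,3,2,1,3,4,5,3,7,8,3,2,1,3,4,5,3,7,8,3,2,1,3,4,5,3,7,8,3,2,1,3,4,5,3,7,8,3,2,1,3,4,5,3,7,8,3,2,1,3,4,5,3,7,8,3,2,1,3,4,5,3,7,8,3,2,1,3,4,5,3,7,8,3,2,1,3,4,5,3,7,8,3,1,3,2,1,3,4,5,3,7,8,3,2,1,3,4,5,3,7,8,3,2,1,3,4,5,3,7,8,3,2,1,3,4,5,3,7,8,3,2,1,3,4,5,3,7,8,3,2,1,3,4,5,3,7,8,3,2,1,3,4,5,3,7,8,3,2,1,3,4,5,3,7,8,3,2,1,3,4,5,3,7,8,3,2,1,3,4,5,3,7,8,1,3,7,8,5,2,3,3,2,1,3,4,5,3,7,8,3,2,1,3,4,5,3,7,8,3,2,1,3,4,5,3,7,8,3,2,1,3,4,5,3,7,8,3,2,1,3,4,5,3,7,8,3,2,1,3,4,5,3,7,8,3,2,1,3,4,5,3,4,7,3,8,7,4,2,3,7,8,1,2,3,7,4,3,7,2,3,4,5,4,3,2,7,3,4,1,2,3,4,7,3,2,5,4,3,8,7,3,4,2,3,7,5,4,3,2,1,2,8,3,4,5,7,8,3,2,1,3,4,5,3,7,8,3,2,1,3,4,5,3,7,8,3,2,1,3,4,5,3,7,8,3,2,1,3,4,5,3,7,8,3,2,1,3,4,5,3,7,8,3,2,1,3,4,5,3,7,3,2,1,3,4,3,2]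

/-- moves -/
def mv0 : List (ℕ × ℕ × ℕ) := [(381,7,8),(380,5,8),(379,2,8),(378,8,8),(379,5,7),(378,2,7),(377,7,7),(377,2,5),(376,3,5),(375,5,5),(376,2,8),(375,3,8),(374,4,8),(373,3,8),(372,1,8),(371,2,8),(370,3,8),(369,8,8),(291,1,3),(289,3,2),(288,2,2),(283,7,7),(282,8,8),(282,7,5),(281,5,5),(280,2,7),(281,2,3),(279,3,7),(277,7,8),(276,3,8),(275,5,8),(274,4,8),(273,3,8),(272,1,8),(271,2,8),(270,3,8),(269,8,8),(257,5,3),(255,3,4),(254,1,4),(253,2,4),(255,1,3),(263,1,3),(261,3,2),(260,8,2),(259,7,2),(258,5,2),(257,4,2),(271,1,3),(269,3,2),(268,7,2),(277,8,3),(275,3,7),(274,5,7),(273,4,7),(272,1,7),(271,2,7),(269,7,3),(267,3,2),(266,5,2),(265,4,2),(263,2,1),(262,3,1),(261,8,1),(260,7,1),(259,5,1),(258,4,1),(256,1,2),(254,2,3),(252,3,4),(251,8,4),(250,7,4),(252,8,3),(260,5,7),(259,4,7),(258,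2,7),(257,1,7),(262,8,3),(261,5,3),(265,1,4),(264,2,4),(263,8,4),(266,1,5),(265,2,5),(264,8,5),(262,5,4),(260,4,3),(265,8,2),(264,4,2),(263,5,2),(267,1,3),(266,8,3),(273,1,4),(272,2,4),(275,5,3),(274,1,3),(279,7,2),(278,8,2),(277,7,2),(276,5,2),(281,3,1),(280,7,1),(279,8,1),(278,7,1),(277,5,1),(275,1,2),(273,2,3),(271,3,4),(270,7,4),(269,2,4),(268,1,4),(267,8,4),(265,4,3),(264,5,3),(262,3,2),(261,4,2),(259,2,3),(258,1,3),(256,3,7),(255,2,7),(254,4,7),(267,3,8),(266,4,8),(265,5,8),(264,2,8),(263,3,8),(262,4,8),(261,3,8),(260,2,8),(259,1,8),(270,2,7),(269,1,7),(273,4,2),(271,2,3),(270,1,3),(268,3,7),(267,4,7),(266,5,7),(265,2,7),(273,3,4),(272,2,4),(271,1,4),(270,7,4),(268,4,3),(267,5,3),(275,4,1),(274,3,1),(272,1,2),(271,7,2),(276,4,2),(274,2,3),(273,1,3),(278,5,7),(277,4,7),(287,8,3),(285,3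,7),(284,5,7),(283,4,7),(281,7,3),(280,8,3),(279,5,3),(285,5,3),(283,3,4),(282,7,4),(281,8,4),(293,5,3),(291,3,4),(290,1,4),(289,2,4),(288,8,4),(287,7,4),(285,4,5),(284,3,5),(283,7,5),(282,8,5),(280,5,4),(278,4,3),(276,3,7),(275,2,7),(274,1,7),(272,7,3),(270,3,2),(269,4,2),(268,5,2),(266,2,3),(264,3,7),(263,4,7),(280,3,5),(287,5,7),(286,4,7),(284,7,3),(283,8,3),(281,3,4),(279,4,5),(278,7,5),(277,3,5),(276,2,5),(275,1,5),(274,3,5),(273,7,5),(272,2,5),(271,3,5),(269,5,4),(279,7,4),(281,5,3),(288,5,8),(287,4,8),(286,3,8),(284,8,7),(283,4,7),(282,5,7),(280,7,3),(278,3,4),(277,2,4),(276,1,4),(289,5,2),(288,4,2),(291,1,3),(290,5,3),(292,1,4),(293,1,5),(291,5,4),(289,4,3),(287,3,2),(286,7,2),(285,8,2),(284,4,2),(283,5,2),(294,1,7),(293,4,7),(292,5,7),(296,8,3),(295,1,3),(302,5,3),(300,3,4),(299,1,4),(298,2,4),(297,8,4),(296,1,4),(294,4,3),(293,5,3),(291,3,7),(290,4,7),(289,2,7),(287,7,3),(286,8,3),(290,2,4),(298,8,2),(299,8,1),(297,1,2)]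

theorem step0 : reduces 10 adj mv0 (conjs fourConj) (mid0) 9 = true := by decide +kernel

/-- intermediate word -/
def mid1 : List ℕ := [3,2,1,3,4,5,3,7,8,3,2,1,3,4,5,3,7,8,3,2,1,3,4,5,3,7,8,3,2,1,3,4,5,3,7,8,3,2,1,3,4,5,3,7,8,3,2,1,3,4,5,3,7,8,3,2,1,3,4,5,3,7,8,3,2,1,3,4,5,3,7,8,3,2,1,3,4,5,3,7,8,3,2,1,3,4,5,3,7,8,3,1,3,2,1,3,4,5,3,7,8,3,2,1,3,4,5,3,7,8,3,2,1,3,4,5,3,7,8,3,2,1,3,4,5,3,7,8,3,2,1,3,4,5,3,7,8,3,2,1,3,4,5,3,7,8,3,2,1,3,4,5,3,7,8,3,2,1,3,4,5,3,7,8,3,2,1,3,4,5,3,7,8,3,2,1,3,4,5,3,7,8,1,3,7,8,5,2,3,3,2,1,3,4,5,3,7,8,3,2,1,3,4,5,3,7,8,3,2,1,3,4,5,3,7,8,3,2,1,3,2,4,3,5,4,2,7,3,4,5,8,7,3,4,2,3,4,7,3,2,1,2,3,7,4,3,8,7,3,2,4,3,1,2,5,4,3,2,1,7,3,4,5,2,3,4,8,7,3,7,4,2,3,7,5,4,1,2,3,4,7,3,2,5,4,3,8,7,3,4,2,3,7,5,4,3,2,1,2,3,8,4,5,7,8,3,2,1,4,5,3,7,8,3,2,1,3,4,5,3,7,8,3,2,1,3,4,5,3,7,8,3,2,1,3,4,5,3,7,8,3,2,1,3,4,5,3,7,8,3,2,1,3,4,5,3,7,3,2,1,3,4,3,2]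

/-- moves -/
def mv1 : List (ℕ × ℕ × ℕ) := [(300,8,3),(308,1,3),(306,3,2),(305,8,2),(304,7,2),(303,5,2),(302,4,2),(301,8,2),(299,2,3),(298,1,3),(296,3,2),(295,4,2),(294,5,2),(293,7,2),(291,2,3),(289,3,4),(288,7,4),(287,8,4),(285,4,3),(284,5,3),(282,3,2),(281,7,2),(280,4,2),(278,2,3),(277,1,3),(275,3,4),(274,7,4),(273,2,4),(271,4,3),(270,5,3),(268,3,4),(267,2,4),(266,7,4),(264,4,3),(262,3,7),(261,2,7),(260,1,7),(258,7,8),(257,3,8),(256,2,8),(255,4,8),(253,8,7),(251,7,3),(249,3,4),(247,4,5),(246,3,5),(245,1,5),(244,2,5),(243,3,5),(242,8,5),(241,7,5),(240,3,5),(239,5,5),(227,1,3),(225,3,2),(224,8,2),(223,7,2),(225,8,3),(233,8,3),(231,3,7),(230,5,7),(229,4,7),(228,1,7),(227,2,7),(241,8,3),(239,3,7),(238,4,7),(247,5,3),(245,3,4),(244,1,4),(243,2,4),(242,8,4),(241,7,4),(239,4,3),(237,3,7),(236,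1,7),(235,2,7),(233,7,8),(232,3,8),(231,5,8),(230,4,8),(229,1,8),(228,2,8),(226,8,7),(224,7,3),(222,3,2),(221,5,2),(220,4,2),(222,5,3),(230,1,4),(229,2,4),(228,7,4),(227,8,4),(232,5,3),(231,1,3),(235,8,2),(234,7,2),(233,5,2),(236,8,1),(235,7,1),(234,5,1),(232,1,2),(230,2,3),(235,5,7),(234,2,7),(233,1,7),(237,8,3),(236,5,3),(243,8,2),(242,7,2),(245,1,3),(244,8,3),(249,4,7),(248,5,7),(247,4,7),(246,1,7),(251,3,8),(250,4,8),(249,5,8),(248,4,8),(247,1,8),(245,8,7),(243,7,3),(241,3,2),(240,4,2),(239,7,2),(238,8,2),(237,5,2),(235,2,3),(234,1,3),(232,3,7),(231,2,7),(229,7,3),(228,8,3),(226,3,4),(225,7,4),(224,2,4),(237,3,5),(236,2,5),(235,1,5),(234,7,5),(233,3,5),(232,2,5),(231,3,5),(230,7,5),(229,8,5),(240,7,4),(239,8,4),(243,2,7),(241,7,3),(240,8,3),(238,3,4),(237,2,4),(236,1,4),(235,7,4),(243,3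,2),(242,7,2),(241,8,2),(240,4,2),(238,2,3),(237,1,3),(245,2,8),(244,3,8),(242,8,7),(241,4,7),(246,2,7),(244,7,3),(243,8,3),(248,1,4),(247,2,4),(253,7,4),(251,4,3),(250,5,3),(249,1,3),(254,7,2),(255,7,3),(253,3,2),(252,4,2),(251,5,2),(258,8,1),(257,3,1),(256,7,1),(259,8,2),(260,8,3),(258,3,2),(257,7,2),(255,2,1),(254,3,1),(253,4,1),(252,5,1),(250,1,2),(248,2,3),(246,3,4),(245,7,4),(244,8,4),(242,4,3),(240,3,7),(239,2,7),(238,1,7),(236,7,3),(234,3,4),(233,2,4),(250,3,1),(262,7,4),(261,8,4),(260,2,4),(263,7,3),(262,8,3),(265,3,2),(264,7,2),(263,8,2),(261,2,3),(259,3,4),(258,7,4),(257,1,4),(256,2,4),(254,4,3),(253,5,3),(251,3,2),(249,2,1),(248,4,1),(247,3,1),(246,7,1),(245,8,1),(244,3,1),(243,4,1),(242,7,1),(241,3,1),(239,1,2),(249,4,2),(251,1,3),(268,4,5),(267,2,5),(266,3,5),(265,7,5),(264,8,5),(263,3,5),(262,2,5),(268,2,4),(270,5,3),(271,5,2),(269,2,3),(267,3,4),(266,7,4),(265,8,4),(272,5,7),(273,5,3),(271,3,7),(270,2,7),(269,4,7)]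

theorem step1 : reduces 10 adj mv1 (mid0) (mid1) 1 = true := by decide +kernel

/-- intermediate word -/
def mid2 : List ℕ := [3,2,1,3,4,5,3,7,8,3,2,1,3,4,5,3,7,8,3,2,1,3,4,5,3,7,8,3,2,1,3,4,5,3,7,8,3,2,1,3,4,5,3,7,8,3,2,1,3,4,5,3,7,8,3,2,1,3,4,5,3,7,8,3,2,1,3,4,5,3,7,8,3,2,1,3,4,5,3,7,8,3,2,1,3,4,5,3,7,8,3,1,3,2,1,3,4,5,3,7,8,3,2,1,3,4,5,3,7,8,3,2,1,3,4,5,3,7,8,3,2,1,3,4,5,3,7,8,3,2,1,3,4,5,3,7,8,3,2,1,3,4,5,3,7,8,3,2,1,3,4,5,3,7,8,3,2,1,3,4,5,3,7,8,3,2,1,3,4,5,3,7,8,3,2,1,3,4,5,3,7,8,1,3,7,8,5,2,3,3,2,1,3,4,5,3,7,8,3,2,1,3,4,5,3,7,8,3,2,1,3,4,5,3,7,8,3,2,1,3,2,4,3,5,4,2,7,3,4,5,8,7,3,4,2,3,4,7,3,2,1,2,3,7,4,3,2,8,7,3,2,4,3,7,1,2,3,5,4,3,2,7,3,4,1,2,3,7,5,4,3,8,7,3,4,2,3,7,1,2,3,8,7,4,3,2,5,4,3,2,1,7,3,2,4,3,8,7,3,4,2,3,5,4,3,2,7,3,1,2,3,7,8,3,7,3,2,1,4,5,3,7,8,2,1,3,4,5,3,7,8,3,2,1,3,4,5,3,7,8,3,2,1,3,4,5,3,7,8,3,2,1,3,4,5,3,7,3,2,1,3,4,3,2]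

/-- moves -/
def mv2 : List (ℕ × ℕ × ℕ) := [(267,7,3),(266,8,3),(264,3,4),(263,2,4),(261,4,5),(260,3,5),(259,7,5),(258,1,5),(257,2,5),(256,3,5),(254,5,4),(253,2,4),(252,1,4),(250,4,3),(248,3,2),(247,7,2),(246,8,2),(259,1,7),(258,2,7),(260,1,3),(263,5,2),(262,4,2),(275,4,1),(274,5,1),(273,7,1),(272,3,1),(276,4,2),(275,5,2),(274,7,2),(277,4,3),(276,5,3),(279,3,7),(278,4,7),(277,5,7),(275,7,3),(273,3,2),(271,2,1),(270,4,1),(269,3,1),(268,7,1),(267,8,1),(266,4,1),(265,3,1),(264,5,1),(263,4,1),(261,1,2),(259,2,3),(257,3,7),(256,4,7),(255,5,7),(254,2,7),(253,1,7),(263,2,4),(262,1,4),(265,5,3),(271,4,2),(273,1,3),(282,2,5),(281,7,5),(280,3,5),(278,5,4),(283,2,4),(282,7,4),(280,4,3),(279,5,3),(277,3,4),(276,7,4),(275,2,4),(274,1,4),(272,4,3),(270,3,2),(269,7,2),(268,8,2),(267,4,2),(266,5,2),(264,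2,3),(263,1,3),(261,3,4),(260,2,4),(259,7,4),(257,4,3),(256,5,3),(260,7,2),(285,3,8),(284,2,8),(286,3,7),(285,2,7),(283,7,8),(282,3,8),(281,4,8),(280,5,8),(279,4,8),(278,3,8),(289,4,2),(288,7,2),(286,2,3),(285,8,3),(283,3,7),(282,4,7),(281,5,7),(280,4,7),(289,7,4),(290,7,3),(288,3,4),(287,2,4),(286,8,4),(285,7,4),(283,4,3),(282,5,3),(292,3,5),(291,7,5),(293,3,4),(292,7,4),(290,4,5),(289,3,5),(288,2,5),(287,8,5),(286,7,5),(285,3,5),(283,5,4),(281,4,3),(279,3,7),(277,7,8),(276,2,8),(275,1,8),(274,3,8),(273,4,8),(272,2,8),(271,3,8),(269,8,7),(268,4,7),(267,5,7),(277,2,7),(276,1,7),(279,8,3),(288,8,2),(287,7,2),(289,8,3),(292,5,7),(291,4,7),(299,3,8),(298,2,8),(297,1,8),(296,2,8),(295,4,8),(294,3,8),(293,5,8),(292,4,8),(290,8,7),(288,7,3),(286,3,2),(285,4,2),(284,5,2),(292,7,4),(291,8,4),(294,5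,3),(302,5,7),(301,4,7),(304,8,3),(303,5,3),(307,1,4),(306,2,4),(305,8,4),(308,1,5),(307,2,5),(306,8,5),(304,5,4),(302,4,3),(300,3,7),(299,2,7),(298,1,7),(297,2,7),(296,4,7),(295,5,7),(293,7,3),(292,8,3),(290,3,4),(289,7,4),(288,2,4),(286,4,3),(285,5,3),(283,3,2),(282,4,2),(281,7,2),(280,8,2),(278,2,3),(277,1,3),(275,3,7),(274,4,7),(273,2,7),(271,7,3),(270,8,3),(274,2,4),(298,2,1),(297,4,1),(296,5,1),(295,3,1),(294,7,1),(293,8,1),(292,4,1),(291,3,1),(290,7,1),(298,4,2),(297,5,2),(300,1,3),(302,7,4),(301,1,4),(299,4,3),(298,5,3),(296,3,2),(295,7,2),(294,8,2),(293,4,2),(302,1,7),(303,1,3),(301,3,7),(300,4,7),(299,5,7),(298,2,7),(296,7,3),(295,8,3),(304,1,5),(303,7,5),(302,3,5),(300,5,4),(299,2,4),(305,1,4),(304,7,4),(302,4,3),(301,5,3),(307,8,2),(308,8,1),(306,1,2),(305,7,2),(309,8,3),(315,1,3),(313,3,2),(312,8,2),(311,7,2),(310,8,2),(308,2,3),(307,1,3),(311,8,7),(321,8,3),(319,3,7),(318,5,7),(317,4,7),(316,1,7),(315,2,7),(313,7,3)]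

theorem step2 : reduces 10 adj mv2 (mid1) (mid2) 0 = true := by decide +kernel

/-- intermediate word -/
def mid3 : List ℕ := [3,2,1,3,4,5,3,7,8,3,2,1,3,4,5,3,7,8,3,2,1,3,4,5,3,7,8,3,2,1,3,4,5,3,7,8,3,2,1,3,4,5,3,7,8,3,2,1,3,4,5,3,7,8,3,2,1,3,4,5,3,7,8,3,2,1,3,4,5,3,7,8,3,2,1,3,4,5,3,7,8,3,2,1,3,4,5,3,7,8,3,1,3,2,1,3,4,5,3,7,8,3,2,1,3,4,5,3,7,8,3,2,1,3,4,5,3,7,8,3,2,1,3,4,5,3,7,8,3,2,1,3,4,5,3,7,8,3,2,1,3,4,5,3,7,8,3,2,1,3,4,5,3,7,8,3,2,1,3,4,5,3,7,8,3,2,1,3,4,5,3,7,8,3,2,1,3,3,7,3,8,7,3,5,4,2,1,3,4,5,7,8,3,4,2,3,4,5,7,8,3,2,1,2,4,3,5,4,2,7,3,4,5,8,7,3,4,2,3,4,7,3,2,1,2,3,7,4,3,2,8,7,3,2,4,3,7,1,2,3,5,4,3,2,7,3,4,1,2,3,7,5,4,3,8,7,3,4,2,3,7,1,2,3,8,7,4,3,2,1,5,4,3,2,1,7,3,2,4,3,7,8,7,3,4,2,3,7,5,4,3,7,2,3,4,8,7,3,1,2,3,7,4,3,2,8,7,3,4,5,4,3,1,7,8,2,1,3,4,5,7,8,3,2,1,3,4,5,3,7,8,3,2,1,3,4,5,3,7,3,2,1,3,4,3,2]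

/-- moves -/
def mv3 : List (ℕ × ℕ × ℕ) := [(312,8,3),(310,3,7),(309,2,7),(308,1,7),(306,7,3),(304,3,2),(303,4,2),(302,5,2),(300,2,3),(298,3,4),(297,7,4),(296,8,4),(294,4,3),(292,3,2),(291,7,2),(289,2,1),(288,3,1),(287,4,1),(286,5,1),(312,7,8),(311,3,8),(310,2,8),(309,1,8),(308,3,8),(314,8,3),(312,3,7),(311,2,7),(310,1,7),(315,8,2),(314,7,2),(312,2,3),(311,1,3),(309,3,7),(307,7,8),(306,2,8),(305,3,8),(304,4,8),(303,5,8),(302,3,8),(301,2,8),(300,4,8),(299,3,8),(297,8,7),(307,2,7),(309,8,3),(316,8,1),(315,7,1),(314,3,1),(312,1,2),(311,7,2),(310,8,2),(308,2,3),(306,3,7),(305,4,7),(304,5,7),(317,8,4),(316,7,4),(319,5,3),(318,8,3),(320,5,7),(321,5,8),(319,8,7),(317,7,3),(315,3,4),(314,2,4),(313,1,4),(312,7,4),(311,8,4),(322,5,2),(321,7,2),(320,8,2),(324,1,3),(323,5,3),(330,8,3),(328,3,7),(327,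5,7),(326,4,7),(325,1,7),(324,5,7),(322,7,3),(321,8,3),(319,3,2),(318,7,2),(317,4,2),(315,2,3),(314,1,3),(318,4,7),(326,1,4),(327,1,5),(325,5,4),(328,1,3),(336,5,3),(334,3,4),(333,1,4),(332,2,4),(331,8,4),(330,7,4),(329,1,4),(327,4,3),(326,5,3),(324,3,4),(323,7,4),(322,8,4),(321,2,4),(319,4,3),(317,3,7),(316,2,7),(315,1,7),(313,7,3),(312,8,3),(310,3,4),(309,2,4),(308,7,4),(306,4,3),(305,5,3),(303,3,7),(302,2,7),(301,4,7),(299,7,3),(298,8,3),(296,3,7),(295,4,7),(294,2,7),(292,7,3),(291,1,3),(289,3,2),(288,4,2),(287,5,2),(285,2,1),(284,3,1),(283,4,1),(282,7,1),(281,8,1),(280,3,1),(278,1,2),(277,7,2),(275,2,3),(273,3,4),(272,7,4),(271,8,4),(269,4,3),(268,5,3),(266,3,7),(265,2,7),(264,1,7),(263,4,7),(261,7,3),(259,3,2),(258,4,2),(257,5,2),(255,2,3),(254,1,3),(252,3,7),(251,4,7),(250,2,7),(248,7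,3),(247,8,3),(245,3,2),(244,4,2),(243,7,2),(241,2,3),(240,1,3),(238,3,2),(237,7,2),(236,4,2),(234,2,3),(232,3,4),(231,7,4),(230,8,4),(228,4,5),(227,3,5),(226,7,5),(225,2,5),(223,5,4),(221,4,3),(219,3,2),(217,2,1),(216,3,1),(215,8,1),(214,7,1),(213,3,1),(212,5,1),(211,4,1),(210,3,1),(209,1,1),(188,3,3),(187,2,2),(186,5,1),(185,8,1),(184,7,1),(183,3,1),(182,1,1),(191,8,3),(189,3,7),(188,5,7),(187,4,7),(189,5,3),(197,5,3),(195,3,4),(194,1,4),(193,2,4),(192,8,4),(191,7,4),(205,5,3),(203,3,4),(202,2,4),(211,1,3),(209,3,2),(208,8,2),(207,7,2),(206,5,2),(205,4,2),(203,2,3),(201,3,4),(200,8,4),(199,7,4),(197,4,5),(196,3,5),(195,1,5),(194,2,5),(193,8,5),(192,7,5),(190,5,4),(188,4,3),(186,3,7),(185,5,7),(183,7,8),(182,3,8),(181,8,8),(184,5,3),(183,8,3),(181,3,7),(180,7,7),(179,3,3),(180,8,5),(179,7,5),(178,5,5),(180,7,4),(179,8,4),(178,7,4),(177,4,4),(182,4,7),(181,5,7),(179,7,3),(178,8,3),(183,4,8),(182,5,8),(181,3,8),(179,8,7),(177,7,3)]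

theorem step3 : reduces 10 adj mv3 (mid2) (mid3) 9 = true := by decide +kernel

/-- intermediate word -/
def mid4 : List ℕ := [3,2,1,3,4,5,3,7,8,3,2,1,3,4,5,3,7,8,3,2,1,3,4,5,3,7,8,3,2,1,3,4,5,3,7,8,3,2,1,3,4,5,3,7,8,3,2,1,3,4,5,3,7,8,3,2,1,3,4,5,3,7,8,3,2,1,3,4,5,3,7,8,3,2,1,3,4,5,3,7,8,3,2,1,3,4,5,3,7,8,3,1,3,2,1,3,4,5,3,7,8,3,2,1,3,4,5,3,7,8,3,2,1,3,4,5,3,7,8,3,2,1,3,4,5,3,7,8,3,2,1,3,4,5,3,7,8,3,2,1,3,4,5,3,7,8,3,2,1,3,4,5,3,7,8,3,2,1,3,4,5,3,2,8,3,4,7,3,1,2,3,7,8,4,3,5,4,3,7,8,2,3,5,1,2,3,7,4,3,2,1,4,5,8,7,3,2,1,4,3,2,7,3,4,1,2,8,7,3,2,4,3,7,1,2,3,5,4,3,2,7,3,4,1,2,3,7,5,4,3,8,7,3,4,2,3,7,1,2,3,8,7,4,3,2,1,5,4,3,2,1,7,3,2,4,3,7,8,7,3,4,2,3,7,5,4,3,7,2,3,4,8,7,3,1,2,3,7,4,3,2,8,7,3,4,5,4,3,1,7,8,2,1,3,4,5,7,8,3,2,1,3,4,5,3,7,8,3,2,1,3,4,5,3,7,3,2,1,3,4,3,2]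

/-- moves -/
def mv4 : List (ℕ × ℕ × ℕ) := [(176,3,3),(182,4,2),(181,5,2),(184,1,3),(185,1,4),(183,4,3),(182,5,3),(180,3,2),(179,7,2),(178,8,2),(187,5,7),(186,1,7),(189,8,3),(188,5,3),(187,1,3),(185,3,7),(184,4,7),(183,5,7),(182,2,7),(180,7,3),(179,8,3),(177,3,2),(176,7,2),(187,7,1),(186,3,1),(185,4,1),(184,5,1),(191,4,2),(190,8,2),(189,5,2),(188,7,2),(192,4,3),(191,8,3),(190,5,3),(195,5,7),(197,8,3),(196,5,3),(194,3,7),(193,4,7),(197,5,8),(206,2,7),(205,4,7),(204,5,7),(214,4,2),(215,4,3),(213,3,2),(212,7,2),(211,8,2),(210,5,2),(209,4,2),(207,2,3),(217,3,7),(216,4,7),(215,2,7),(213,7,3),(212,8,3),(211,5,3),(209,3,4),(208,2,4),(206,4,3),(205,5,3),(203,3,7),(202,4,7),(201,2,7),(200,1,7),(199,2,7),(198,5,7),(196,7,8),(195,3,8),(194,4,8),(192,8,7),(191,5,7),(189,7,3),(187,3,2),(186,4,2),(185,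5,2),(183,2,1),(182,3,1),(181,7,1),(180,8,1),(194,7,4),(193,8,4),(198,8,5),(197,7,5),(196,3,5),(195,7,5),(194,8,5),(192,5,4),(196,7,3),(195,8,3),(202,2,4),(201,1,4),(200,2,4),(199,8,4),(208,3,2),(207,4,2),(206,5,2),(205,7,2),(203,2,3),(202,1,3),(220,2,1),(219,7,1),(218,3,1),(217,4,1),(220,7,2),(222,1,3),(223,1,7),(221,7,3),(219,3,2),(218,4,2),(216,2,1),(215,3,1),(214,7,1),(213,8,1),(212,5,1),(211,4,1),(224,1,4),(225,1,3),(223,3,4),(222,7,4),(221,2,4),(219,4,3),(218,1,3),(216,3,2),(215,7,2),(214,8,2),(213,5,2),(212,4,2),(210,2,1),(209,3,1),(208,4,1),(207,5,1),(206,7,1),(205,3,1),(203,1,2),(201,2,3),(200,8,3),(198,3,4),(197,7,4),(196,8,4),(194,4,3),(193,5,3),(191,3,4),(190,7,4),(189,2,4),(187,4,3),(186,5,3),(185,1,3),(183,3,2),(182,7,2),(181,8,2),(179,2,1),(178,3,1),(177,7,1),(175,1,2),(174,2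,2),(179,1,8),(178,2,8),(177,3,8),(180,1,7),(179,2,7),(181,1,3),(182,1,2),(180,2,3),(178,3,7),(176,7,8),(175,2,8),(174,1,8),(173,3,8),(172,8,8),(174,2,7),(173,1,7),(176,8,3),(178,7,2),(177,8,2),(175,2,3),(174,1,3),(172,3,7),(171,7,7),(170,3,3),(178,2,5),(177,1,5),(176,3,5),(175,7,5),(174,8,5),(173,3,5),(172,2,5),(171,1,5),(170,7,5),(169,5,5),(177,2,4),(176,1,4),(178,2,3),(177,1,3),(175,3,4),(174,7,4),(173,8,4),(180,3,7),(179,2,7),(178,1,7),(177,4,7),(175,7,3),(174,8,3),(172,3,4),(171,2,4),(170,1,4),(169,7,4),(168,4,4),(168,7,1),(167,3,1),(166,1,1),(167,7,2),(182,3,8),(181,4,8),(180,5,8),(179,4,8),(183,3,7),(182,4,7),(181,5,7),(180,4,7),(178,7,8),(177,3,8),(176,2,8),(175,1,8),(174,4,8),(173,3,8),(171,8,7),(170,4,7),(168,7,3),(166,3,2),(165,2,2),(164,3,3),(167,4,8),(166,3,8),(168,4,7),(169,4,3),(167,3,7),(165,7,8),(164,2,8),(163,8,8),(163,2,7),(162,7,7),(165,7,4),(177,7,4),(175,4,3),(174,5,3),(185,7,5),(184,3,5),(183,2,5),(182,1,5)]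

theorem step4 : reduces 10 adj mv4 (mid3) (mid4) 12 = true := by decide +kernel

/-- intermediate word -/
def mid5 : List ℕ := [3,2,1,3,4,5,3,7,8,3,2,1,3,4,5,3,7,8,3,2,1,3,4,5,3,7,8,3,2,1,3,4,5,3,7,8,3,2,1,3,4,5,3,7,8,3,2,1,3,4,5,3,7,8,3,2,1,3,4,5,3,7,8,3,2,1,3,4,5,3,7,8,3,2,1,3,4,5,3,7,8,3,2,1,3,4,5,3,7,8,3,1,3,2,1,3,4,5,3,7,8,3,2,1,3,4,5,3,7,8,3,2,1,3,4,5,3,7,8,3,2,1,3,4,5,3,7,8,3,2,1,3,4,5,3,7,8,3,2,1,3,4,5,3,7,8,3,2,1,3,4,5,3,7,8,3,2,1,3,4,5,4,3,4,2,3,8,4,5,7,3,4,2,3,1,2,3,4,7,3,2,1,8,7,3,2,5,4,3,2,7,3,4,8,7,3,1,5,4,2,1,3,7,2,3,8,7,4,3,5,4,1,2,3,4,5,7,3,2,1,2,3,7,4,3,2,7,5,4,3,8,7,3,4,2,3,7,1,2,3,8,7,4,3,2,1,5,4,3,2,1,7,3,2,4,3,7,8,7,3,4,2,3,7,5,4,3,7,2,3,4,8,7,3,1,2,3,7,4,3,2,8,7,3,4,5,4,3,1,7,8,2,1,3,4,5,7,8,3,2,1,3,4,5,3,7,8,3,2,1,3,4,5,3,7,3,2,1,3,4,3,2]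

/-- moves -/
def mv5 : List (ℕ × ℕ × ℕ) := [(181,3,5),(180,2,5),(179,8,5),(178,7,5),(177,3,5),(175,5,4),(173,4,3),(172,8,3),(170,3,7),(169,2,7),(168,1,7),(166,7,3),(164,3,4),(163,8,4),(162,2,4),(164,8,3),(182,3,1),(183,3,2),(181,2,1),(180,8,1),(179,7,1),(178,3,1),(177,4,1),(176,5,1),(175,3,1),(174,4,1),(173,8,1),(172,7,1),(171,3,1),(169,1,2),(181,8,2),(180,7,2),(183,1,3),(182,8,3),(185,2,7),(184,1,7),(192,5,8),(191,4,8),(190,1,8),(189,2,8),(188,3,8),(187,4,8),(186,2,8),(185,1,8),(183,8,7),(181,7,3),(179,3,2),(178,4,2),(177,5,2),(187,2,4),(186,1,4),(185,7,4),(184,8,4),(188,2,3),(187,1,3),(193,5,7),(192,4,7),(191,1,7),(194,5,3),(197,1,4),(196,2,4),(215,3,5),(214,2,5),(213,1,5),(212,7,5),(211,3,5),(216,3,4),(215,2,4),(214,1,4),(213,7,4),(218,4,2),(216,2,3),(215,1,3),(219,4,7),(220,4,3),(218,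3,7),(217,2,7),(216,1,7),(214,7,3),(212,3,4),(210,4,5),(209,2,5),(208,3,5),(207,7,5),(206,8,5),(205,2,5),(204,1,5),(210,2,4),(212,5,3),(222,3,1),(221,4,1),(220,7,1),(219,3,1),(217,1,2),(223,3,2),(222,4,2),(221,7,2),(219,2,3),(218,1,3),(216,3,2),(215,7,2),(214,4,2),(213,5,2),(211,2,3),(209,3,4),(208,7,4),(207,8,4),(206,2,4),(205,1,4),(203,4,5),(202,3,5),(201,7,5),(200,2,5),(199,3,5),(198,1,5),(197,2,5),(195,5,4),(193,4,3),(192,1,3),(190,3,7),(189,2,7),(188,1,7),(186,7,3),(185,8,3),(183,3,4),(182,7,4),(181,2,4),(179,4,3),(178,5,3),(176,3,2),(175,4,2),(174,8,2),(173,7,2),(171,2,3),(170,1,3),(168,3,2),(167,7,2),(166,4,2),(165,8,2),(163,2,3),(161,3,4),(178,2,5),(177,3,5),(179,2,4),(180,2,3),(178,3,4),(176,4,5),(175,8,5),(174,7,5),(173,3,5),(172,2,5),(171,1,5),(170,2,5),(169,3,5),(168,7,5),(176,8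,4),(175,7,4),(178,5,3),(177,8,3),(182,3,7),(181,2,7),(180,4,7),(179,5,7),(185,4,8),(186,4,7),(184,7,8),(183,3,8),(182,2,8),(181,4,8),(180,5,8),(178,8,7),(176,7,3),(174,3,4),(173,2,4),(172,1,4),(171,2,4),(182,4,2),(181,5,2),(180,7,2),(179,8,2),(186,8,4),(185,7,4),(183,4,3),(182,5,3),(187,8,3),(185,3,7),(184,4,7),(183,5,7),(181,7,3),(180,8,3),(178,3,2),(177,7,2),(176,4,2),(174,2,3),(173,1,3),(188,8,1),(187,7,1),(186,3,1),(185,4,1),(184,5,1),(183,3,1),(182,7,1),(181,8,1),(189,8,2),(188,7,2),(190,8,3),(207,2,8),(206,1,8),(205,5,8),(204,4,8),(203,3,8),(208,2,7),(207,1,7),(206,5,7),(205,4,7),(211,4,2),(209,2,3),(208,1,3),(207,5,3),(211,3,4),(210,2,4),(209,1,4),(213,4,5),(212,3,5),(211,2,5),(210,1,5),(208,5,4),(206,4,3),(204,3,7),(202,7,8),(201,2,8),(200,3,8),(199,1,8),(198,2,8),(197,4,8),(196,5,8),(195,3,8),(194,4,8),(193,1,8),(191,8,7),(189,7,3),(187,3,2),(186,4,2),(185,5,2),(194,1,4),(193,7,4),(192,8,4),(195,1,3),(202,2,7),(204,8,3)]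

theorem step5 : reduces 10 adj mv5 (mid4) (mid5) 0 = true := by decide +kernel

/-- intermediate word -/
def mid6 : List ℕ := [3,2,1,3,4,5,3,7,8,3,2,1,3,4,5,3,7,8,3,2,1,3,4,5,3,7,8,3,2,1,3,4,5,3,7,8,3,2,1,3,4,5,3,7,8,3,2,1,3,4,5,3,7,8,3,2,1,3,4,5,3,7,8,3,2,1,3,4,5,3,7,8,3,2,1,3,4,5,3,7,8,3,2,1,3,4,5,3,7,8,3,1,3,2,1,3,4,5,3,7,8,3,2,1,3,4,5,3,7,8,3,2,1,3,4,5,3,7,8,3,2,1,3,4,5,3,7,8,3,2,1,3,4,5,3,7,8,3,2,1,3,4,5,3,7,8,3,2,1,3,4,5,3,7,8,3,2,1,3,4,5,4,3,4,5,2,3,4,8,5,7,3,4,2,3,7,1,2,3,7,4,3,2,1,8,7,3,4,2,3,5,4,3,7,2,3,4,5,8,7,3,2,4,3,1,2,3,4,7,3,8,7,4,3,2,1,5,4,3,7,8,2,3,7,1,4,3,7,2,3,4,8,5,4,3,2,7,3,4,1,2,3,4,8,7,3,2,3,5,4,3,7,1,2,3,4,7,8,7,3,4,2,3,7,5,4,3,7,2,3,4,8,7,3,1,2,3,7,4,3,2,8,7,3,4,5,4,3,1,7,8,2,1,3,4,5,7,8,3,2,1,3,4,5,3,7,8,3,2,1,3,4,5,3,7,3,2,1,3,4,3,2]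

/-- moves -/
def mv6 : List (ℕ × ℕ × ℕ) := [(218,2,1),(217,3,1),(216,7,1),(215,5,1),(214,4,1),(213,3,1),(211,1,2),(210,4,2),(209,5,2),(220,1,3),(218,3,2),(217,7,2),(216,5,2),(215,4,2),(213,2,3),(212,1,3),(221,1,7),(220,2,7),(218,7,3),(217,5,3),(215,3,4),(214,2,4),(213,1,4),(211,4,3),(210,5,3),(208,3,2),(207,4,2),(206,7,2),(205,8,2),(203,2,3),(201,3,7),(200,1,7),(199,2,7),(198,4,7),(197,5,7),(196,1,7),(194,7,3),(193,8,3),(191,3,4),(190,7,4),(189,2,4),(187,4,3),(186,5,3),(184,3,2),(183,7,2),(182,8,2),(180,2,1),(179,3,1),(178,7,1),(177,4,1),(176,3,1),(174,1,2),(172,2,3),(170,3,4),(169,7,4),(167,4,5),(166,8,5),(165,3,5),(164,2,5),(167,8,4),(178,4,7),(197,1,5),(196,3,5),(195,7,5),(194,8,5),(198,1,4),(201,1,3),(203,7,2),(213,3,1),(212,4,1),(211,5,1),(214,3,2),(213,4,2),(212,5,2),(210,2,1),(209,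3,1),(208,4,1),(207,7,1),(206,8,1),(205,3,1),(204,7,1),(202,1,2),(200,2,3),(199,1,3),(197,3,4),(196,7,4),(195,8,4),(193,4,5),(192,3,5),(191,7,5),(190,2,5),(189,3,5),(187,5,4),(186,2,4),(204,2,7),(203,1,7),(216,2,4),(214,4,3),(213,5,3),(212,1,3),(210,3,2),(209,4,2),(208,7,2),(207,8,2),(205,2,3),(204,1,3),(202,3,7),(201,2,7),(200,1,7),(199,4,7),(197,7,3),(196,8,3),(195,5,3),(193,3,4),(192,7,4),(191,2,4),(189,4,3),(188,5,3),(207,3,8),(206,2,8),(205,1,8),(217,2,5),(216,3,5),(214,5,4),(213,1,4),(212,2,4),(210,4,3),(208,3,7),(207,2,7),(206,1,7),(204,7,8),(203,3,8),(202,2,8),(201,1,8),(200,4,8),(199,3,8),(197,8,7),(196,5,7),(195,4,7),(193,7,3),(191,3,2),(190,4,2),(189,5,2),(187,2,3),(185,3,4),(184,7,4),(183,8,4),(182,1,4),(181,2,4),(179,4,3),(177,3,7),(176,2,7),(175,1,7),(193,2,7),(206,8,1),(205,7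,1),(204,3,1),(202,1,2),(201,4,2),(207,8,2),(206,7,2),(204,2,3),(203,1,3),(210,7,4),(218,2,7),(219,2,3),(217,3,7),(216,4,7),(215,5,7),(214,1,7),(213,2,7),(211,7,3),(209,3,4),(208,8,4),(207,7,4),(209,8,3),(211,4,7),(229,3,8),(228,4,8),(227,5,8),(230,3,7),(229,4,7),(228,5,7),(226,7,8),(225,2,8),(224,3,8),(223,4,8),(222,1,8),(221,3,8),(220,2,8),(226,2,7),(232,7,4),(230,4,3),(229,5,3),(228,8,3),(233,7,2),(234,7,3),(232,3,2),(231,4,2),(230,5,2),(229,8,2),(227,2,3),(225,3,7),(224,4,7),(223,1,7),(245,1,5),(244,2,5),(243,3,5),(246,1,4),(245,2,4),(247,1,3),(248,1,2),(246,2,3),(244,3,4),(242,4,5),(241,7,5),(240,8,5),(239,3,5),(238,2,5),(237,1,5),(236,3,5),(235,7,5),(234,2,5),(233,3,5),(231,5,4),(230,8,4),(242,7,4),(241,8,4),(244,5,3),(250,2,7),(249,1,7),(251,2,3),(250,1,3),(248,3,7),(247,2,7),(246,4,7),(245,5,7),(243,7,3),(242,8,3),(240,3,4),(239,2,4),(238,1,4),(247,4,2),(246,5,2),(253,3,4),(252,2,4),(251,1,4),(250,7,4),(248,4,3),(247,5,3)]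

theorem step6 : reduces 10 adj mv6 (mid5) (mid6) 0 = true := by decide +kernel

/-- intermediate word -/
def mid7 : List ℕ := [3,2,1,3,4,5,3,7,8,3,2,1,3,4,5,3,7,8,3,2,1,3,4,5,3,7,8,3,2,1,3,4,5,3,7,8,3,2,1,3,4,5,3,7,8,3,2,1,3,4,5,3,7,8,3,2,1,3,4,5,3,7,8,3,2,1,3,4,5,3,7,8,3,2,1,3,4,5,3,7,8,3,2,1,3,4,5,3,7,8,3,1,3,2,1,3,4,5,3,7,8,3,2,1,3,4,5,3,7,8,3,2,1,3,4,5,3,7,8,3,2,1,3,4,5,3,7,8,3,2,1,3,4,5,3,7,8,3,2,1,3,4,5,3,7,8,3,2,1,3,4,5,3,7,8,3,2,1,5,4,3,5,2,1,3,2,4,3,8,5,4,7,3,4,5,2,3,7,1,2,3,4,5,8,7,3,4,5,2,3,7,4,3,4,2,5,8,7,3,2,4,3,7,1,2,3,7,4,3,2,8,7,3,2,1,5,4,3,7,8,2,3,4,7,3,2,1,2,3,4,8,5,4,3,2,1,7,3,2,4,3,7,8,7,3,2,5,4,3,7,8,1,2,3,7,4,3,2,8,7,5,4,3,7,2,3,4,8,7,3,1,2,3,7,4,3,2,8,7,3,4,5,4,3,1,7,8,2,1,3,4,5,7,8,3,2,1,3,4,5,3,7,8,3,2,1,3,4,5,3,7,3,2,1,3,4,3,2]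

/-- moves -/
def mv7 : List (ℕ × ℕ × ℕ) := [(245,3,2),(244,7,2),(243,8,2),(242,4,2),(240,2,3),(239,1,3),(237,3,4),(236,7,4),(235,2,4),(233,4,3),(232,5,3),(231,8,3),(229,3,4),(228,2,4),(227,7,4),(225,4,3),(224,1,3),(222,3,7),(221,2,7),(219,7,8),(218,3,8),(217,4,8),(216,5,8),(215,1,8),(214,2,8),(213,3,8),(212,4,8),(210,8,7),(208,7,3),(206,3,4),(205,2,4),(204,1,4),(202,4,3),(200,3,2),(199,7,2),(198,8,2),(197,5,2),(196,4,2),(194,2,3),(192,3,7),(191,4,7),(190,5,7),(208,4,7),(212,7,4),(211,8,4),(209,4,3),(207,3,7),(206,2,7),(205,1,7),(225,1,4),(224,7,4),(226,1,3),(227,1,7),(225,7,3),(223,3,4),(222,2,4),(221,8,4),(220,7,4),(218,4,3),(217,5,3),(216,1,3),(214,3,2),(213,7,2),(212,8,2),(239,4,1),(238,3,1),(237,7,1),(240,4,2),(241,4,3),(239,3,2),(238,7,2),(236,2,1),(235,3,1),(234,4,1),(233,5,1),(232,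8,1),(231,4,1),(230,3,1),(228,1,2),(256,7,8),(255,4,8),(254,3,8),(253,2,8),(252,1,8),(256,4,7),(258,8,3),(259,8,4),(257,4,3),(255,3,7),(254,2,7),(253,1,7),(251,7,8),(250,3,8),(249,4,8),(248,5,8),(247,2,8),(246,3,8),(244,8,7),(260,8,2),(261,8,3),(259,3,2),(258,4,2),(257,7,2),(255,2,3),(254,1,3),(253,8,3),(251,3,7),(250,4,7),(249,5,7),(248,2,7),(246,7,3),(245,8,3),(243,3,7),(242,4,7),(241,2,7),(239,7,3),(238,1,3),(236,3,2),(235,4,2),(234,5,2),(233,8,2),(232,4,2),(230,2,3),(229,1,3),(227,3,2),(226,7,2),(225,4,2),(223,2,3),(222,8,3),(220,3,7),(219,4,7),(218,5,7),(217,1,7),(216,2,7),(214,7,3),(213,8,3),(211,3,2),(210,4,2),(209,7,2),(207,2,3),(206,1,3),(204,3,7),(203,4,7),(202,2,7),(200,7,3),(199,8,3),(198,5,3),(196,3,4),(195,2,4),(194,7,4),(192,4,3),(191,5,3),(189,3,7),(188,2,7),(187,4,7),(185,7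,3),(184,8,3),(183,1,3),(181,3,2),(180,4,2),(179,7,2),(177,2,3),(176,1,3),(174,3,7),(173,2,7),(172,4,7),(170,7,3),(169,5,3),(168,8,3),(166,3,4),(165,2,4),(163,4,5),(162,3,5),(160,5,4),(159,4,4),(160,4,3),(159,5,3),(158,3,3),(172,7,1),(171,3,1),(173,7,2),(174,7,3),(172,3,2),(170,2,1),(169,4,1),(168,3,1),(167,7,1),(166,5,1),(165,8,1),(164,4,1),(163,3,1),(170,4,2),(172,1,3),(176,3,4),(175,7,4),(174,2,4),(173,1,4),(171,4,3),(169,3,2),(168,7,2),(167,5,2),(166,8,2),(165,4,2),(175,2,7),(174,1,7),(178,4,2),(176,2,3),(175,1,3),(173,3,7),(172,4,7),(171,2,7),(169,7,3),(168,5,3),(167,8,3),(172,2,4),(179,4,1),(178,3,1),(176,1,2),(175,7,2),(173,2,3),(171,3,4),(170,7,4),(187,7,5),(186,3,5),(185,2,5),(188,7,4),(189,7,3),(187,3,4),(186,2,4),(184,4,5),(183,3,5),(182,7,5),(181,8,5),(191,3,2),(190,7,2),(189,4,2),(187,2,3),(186,5,3),(184,3,4),(183,7,4),(182,8,4),(180,4,5),(179,3,5),(178,2,5),(177,1,5),(176,7,5),(175,3,5),(174,2,5),(190,4,7),(193,2,4)]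

theorem step7 : reduces 10 adj mv7 (mid6) (mid7) 2 = true := by decide +kernel

/-- intermediate word -/
def mid8 : List ℕ := [3,2,1,3,4,5,3,7,8,3,2,1,3,4,5,3,7,8,3,2,1,3,4,5,3,7,8,3,2,1,3,4,5,3,7,8,3,2,1,3,4,5,3,7,8,3,2,1,3,4,5,3,7,8,3,2,1,3,4,5,3,7,8,3,2,1,3,4,5,3,7,8,3,2,1,3,4,5,3,7,8,3,2,1,3,4,5,3,7,8,3,1,3,2,1,3,4,5,3,7,8,3,2,1,3,4,5,3,7,8,3,2,1,3,4,5,3,7,8,3,2,1,3,4,5,3,7,8,3,2,1,3,4,5,3,7,8,3,2,1,3,4,5,3,7,8,3,4,3,7,3,4,1,2,5,4,3,7,2,3,1,4,2,3,2,7,3,5,4,8,7,3,4,5,2,3,4,7,3,2,8,7,3,4,1,2,3,7,8,4,3,7,2,3,1,5,4,3,7,8,2,3,4,7,3,2,1,2,3,4,8,5,4,3,2,1,7,3,2,4,3,7,8,7,3,2,5,4,3,7,8,1,2,3,7,4,3,2,8,7,5,4,3,7,2,3,4,8,7,3,1,2,3,7,4,3,2,8,7,3,4,5,4,3,1,7,8,2,1,3,4,5,7,8,3,2,1,3,4,5,3,7,8,3,2,1,3,4,5,3,7,3,2,1,3,4,3,2]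

/-- moves -/
def mv8 : List (ℕ × ℕ × ℕ) := [(191,4,3),(189,3,7),(188,2,7),(187,5,7),(186,4,7),(184,7,3),(183,8,3),(182,5,3),(180,3,4),(179,2,4),(178,1,4),(177,7,4),(188,5,2),(187,4,2),(189,5,3),(191,7,4),(194,2,5),(193,3,5),(192,7,5),(190,5,4),(188,4,3),(186,3,2),(185,7,2),(184,8,2),(183,5,2),(182,4,2),(180,2,3),(179,1,3),(195,2,8),(194,3,8),(196,2,7),(197,2,3),(195,3,7),(193,7,8),(192,4,8),(191,5,8),(190,3,8),(189,4,8),(188,2,8),(187,3,8),(185,8,7),(184,5,7),(183,4,7),(193,4,7),(192,5,7),(195,8,3),(199,3,4),(198,2,4),(197,7,4),(196,8,4),(194,4,3),(193,5,3),(191,3,7),(190,4,7),(189,2,7),(187,7,3),(186,8,3),(185,5,3),(190,2,4),(198,7,2),(197,8,2),(201,4,7),(199,7,3),(198,8,3),(196,3,2),(195,4,2),(194,5,2),(193,7,2),(191,2,3),(189,3,4),(188,7,4),(187,8,4),(194,7,5),(193,3,5),(192,2,5),(195,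7,4),(209,2,8),(208,3,8),(207,4,8),(210,2,7),(211,2,3),(209,3,7),(208,4,7),(206,7,8),(205,3,8),(204,2,8),(203,1,8),(202,4,8),(201,3,8),(199,8,7),(198,2,7),(196,7,3),(194,3,4),(193,2,4),(191,4,5),(190,3,5),(189,7,5),(188,8,5),(186,5,4),(184,4,3),(182,3,7),(181,2,7),(180,1,7),(178,7,3),(176,3,4),(175,2,4),(173,4,5),(172,3,5),(171,7,5),(169,5,4),(168,8,4),(166,4,3),(164,3,2),(162,2,1),(161,5,1),(160,3,1),(159,4,1),(158,5,1),(157,1,1),(160,5,2),(162,1,3),(161,5,3),(159,3,2),(158,4,2),(157,5,2),(156,2,2),(162,2,4),(161,1,4),(165,8,5),(164,3,5),(163,2,5),(162,1,5),(160,5,4),(159,2,4),(157,4,3),(156,5,3),(155,3,3),(163,3,8),(162,2,8),(161,1,8),(160,4,8),(159,5,8),(158,2,8),(157,3,8),(156,4,8),(155,5,8),(154,8,8),(163,4,7),(164,4,3),(162,3,7),(161,2,7),(160,1,7),(159,4,7),(158,5,7),(157,2,7),(167,5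,2),(168,5,3),(166,3,2),(165,4,2),(164,7,2),(162,2,3),(161,1,3),(165,7,4),(170,4,7),(169,5,7),(168,2,7),(166,7,3),(164,3,4),(163,2,4),(162,1,4),(160,4,3),(159,5,3),(172,3,1),(171,4,1),(170,5,1),(173,3,2),(172,4,2),(171,5,2),(169,2,1),(168,3,1),(167,7,1),(166,4,1),(165,3,1),(163,1,2),(176,7,4),(175,2,4),(173,4,3),(172,5,3),(171,1,3),(169,3,2),(168,7,2),(167,4,2),(165,2,3),(164,1,3),(162,3,2),(161,4,2),(160,5,2),(158,2,3),(156,3,7),(155,4,7),(154,5,7),(153,7,7),(152,3,5),(151,5,5),(151,3,4),(150,4,4),(149,3,3),(156,2,1),(155,3,1),(154,4,1),(153,5,1),(152,3,1),(158,1,3),(156,3,2),(155,4,2),(154,5,2),(159,1,4),(158,2,4),(156,4,3),(155,5,3),(153,3,2),(151,2,1),(150,7,1),(149,4,1),(148,1,1),(149,7,2),(148,4,2),(147,2,2),(149,1,3),(156,1,7),(155,2,7),(157,1,3),(158,1,2),(156,2,3),(154,3,7),(153,4,7),(152,5,7),(151,2,7),(150,1,7),(148,7,3),(160,2,5),(159,1,5),(158,3,5),(157,2,5),(156,7,5),(155,3,5),(153,5,4),(152,2,4),(151,1,4),(161,2,4)]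

theorem step8 : reduces 10 adj mv8 (mid7) (mid8) 10 = true := by decide +kernel

/-- intermediate word -/
def mid9 : List ℕ := [3,2,1,3,4,5,3,7,8,3,2,1,3,4,5,3,7,8,3,2,1,3,4,5,3,7,8,3,2,1,3,4,5,3,7,8,3,2,1,3,4,5,3,7,8,3,2,1,3,4,5,3,7,8,3,2,1,3,4,5,3,7,8,3,2,1,3,4,5,3,7,8,3,2,1,3,4,5,3,7,8,3,2,1,3,4,5,3,7,8,3,1,3,2,1,3,4,5,3,7,8,3,2,1,3,4,5,3,7,8,3,2,1,3,4,5,3,7,8,3,2,1,3,4,5,3,7,8,3,2,1,3,4,5,3,7,8,3,2,1,3,4,5,3,7,8,7,4,3,7,8,4,1,2,3,5,4,3,7,2,3,8,7,4,3,2,1,2,3,4,7,3,2,8,7,3,5,4,3,7,2,3,4,8,7,3,2,1,2,3,7,4,3,2,8,5,4,3,2,7,3,4,8,7,3,5,4,2,3,7,1,2,3,7,4,3,2,5,4,3,7,8,7,3,4,2,3,7,8,1,2,3,7,4,3,2,8,7,5,4,3,7,2,3,4,1,8,7,3,2,3,7,4,3,2,8,7,3,4,5,4,3,1,7,8,2,1,3,4,5,7,8,3,2,1,3,4,5,3,7,8,3,2,1,3,4,5,3,7,3,2,1,3,4,3,2]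

/-- moves -/
def mv9 : List (ℕ × ℕ × ℕ) := [(160,1,4),(162,2,3),(161,1,3),(159,3,4),(158,2,4),(157,7,4),(155,4,3),(154,5,3),(158,7,2),(164,3,7),(163,2,7),(162,1,7),(161,4,7),(159,7,3),(157,3,2),(156,4,2),(155,5,2),(153,2,3),(152,1,3),(150,3,4),(149,7,4),(147,4,3),(146,3,3),(147,3,7),(146,4,7),(166,4,8),(165,5,8),(167,4,7),(166,5,7),(164,7,8),(163,3,8),(162,2,8),(161,1,8),(160,4,8),(159,3,8),(168,4,3),(167,5,3),(166,8,3),(164,3,7),(163,2,7),(162,1,7),(161,4,7),(171,5,2),(172,5,3),(170,3,2),(169,4,2),(168,5,2),(167,8,2),(166,7,2),(164,2,3),(163,1,3),(172,2,5),(171,3,5),(169,5,4),(168,8,4),(167,7,4),(173,2,4),(171,4,3),(170,5,3),(169,8,3),(174,2,7),(175,2,3),(173,3,7),(172,4,7),(171,5,7),(177,3,8),(176,2,8),(178,3,7),(177,2,7),(175,7,8),(174,3,8),(173,4,8),(172,5,8),(170,8,7),(168,7,3),(166,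3,4),(165,2,4),(164,1,4),(162,4,3),(160,3,7),(158,7,8),(157,2,8),(156,3,8),(155,4,8),(154,5,8),(153,3,8),(152,2,8),(151,1,8),(150,4,8),(158,2,7),(160,8,3),(181,4,1),(180,7,1),(179,3,1),(182,4,2),(181,7,2),(186,8,4),(185,7,4),(183,4,3),(187,8,3),(185,3,7),(184,4,7),(182,7,3),(180,3,2),(178,2,1),(177,8,1),(176,7,1),(175,3,1),(174,4,1),(173,5,1),(172,7,1),(171,8,1),(170,3,1),(169,7,1),(168,4,1),(167,3,1),(165,1,2),(178,8,2),(177,7,2),(180,1,3),(179,8,3),(182,2,7),(181,1,7),(187,7,8),(186,3,8),(185,4,8),(184,3,8),(183,2,8),(182,1,8),(180,8,7),(178,7,3),(176,3,2),(175,4,2),(174,5,2),(173,7,2),(172,8,2),(185,3,4),(184,2,4),(183,1,4),(182,7,4),(181,8,4),(189,8,2),(188,7,2),(187,4,2),(185,2,3),(184,1,3),(188,4,7),(190,8,3),(208,8,5),(209,8,4),(207,4,5),(206,3,5),(205,2,5),(204,1,5),(203,2,5),(202,3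,5),(201,7,5),(210,8,3),(209,5,3),(207,3,4),(206,2,4),(205,1,4),(204,2,4),(211,8,2),(210,5,2),(209,4,2),(207,2,3),(206,1,3),(212,8,1),(211,5,1),(210,4,1),(209,3,1),(207,1,2),(205,2,3),(203,3,4),(202,7,4),(200,4,5),(199,3,5),(198,2,5),(197,8,5),(196,7,5),(195,3,5),(193,5,4),(192,1,4),(191,8,4),(189,4,3),(187,3,7),(186,2,7),(185,1,7),(183,7,3),(182,8,3),(180,3,4),(179,7,4),(178,2,4),(176,4,3),(175,5,3),(179,2,7),(192,8,1),(191,3,1),(190,4,1),(189,7,1),(188,3,1),(186,1,2),(198,8,2),(197,7,2),(199,8,3),(202,5,7),(201,4,7),(212,5,8),(211,4,8),(210,3,8),(209,2,8),(208,1,8),(207,3,8),(206,2,8),(205,4,8),(204,3,8),(203,5,8),(202,4,8),(200,8,7),(198,7,3),(196,3,2),(195,4,2),(194,5,2),(193,8,2),(202,7,4),(201,8,4),(204,5,3),(213,5,7),(212,4,7),(214,5,3),(216,2,4),(223,2,5),(222,3,5),(221,7,5),(220,8,5),(219,7,5),(218,3,5),(217,2,5),(215,5,4),(213,4,3),(211,3,7),(210,2,7),(209,1,7),(217,4,2),(216,5,2),(224,2,4),(247,3,1),(246,7,1),(245,8,1)]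

theorem step9 : reduces 10 adj mv9 (mid8) (mid9) 1 = true := by decide +kernel

/-- intermediate word -/
def mid10 : List ℕ := [3,2,1,3,4,5,3,7,8,3,2,1,3,4,5,3,7,8,3,2,1,3,4,5,3,7,8,3,2,1,3,4,5,3,7,8,3,2,1,3,4,5,3,7,8,3,2,1,3,4,5,3,7,8,3,2,1,3,4,5,3,7,8,3,2,1,3,4,5,3,7,8,3,2,1,3,4,5,3,7,8,3,2,1,3,4,5,3,7,8,3,1,3,2,1,3,4,5,3,7,8,3,2,1,3,4,5,3,7,8,3,2,1,3,4,5,3,7,8,3,2,1,3,4,5,3,7,8,3,2,1,3,4,5,3,7,8,3,2,1,3,4,5,3,7,8,7,4,3,7,8,4,1,2,3,7,5,4,3,7,2,3,4,8,7,3,2,1,2,3,7,4,3,2,8,7,3,5,4,3,7,2,3,4,5,8,7,3,4,2,3,1,2,3,4,7,3,2,1,5,4,3,2,7,3,8,7,3,2,4,3,7,5,4,3,7,8,1,2,3,7,4,3,5,4,8,2,3,7,8,1,2,3,7,4,5,3,4,3,2,3,1,2,8,7,3,2,1,4,3,7,8,7,3,4,2,3,7,4,5,4,3,1,7,8,2,1,3,4,5,7,8,3,2,1,3,4,5,3,7,8,3,2,1,3,4,5,3,7,3,2,1,3,4,3,2]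

/-- moves -/
def mv10 : List (ℕ × ℕ × ℕ) := [(244,4,1),(243,3,1),(248,3,2),(247,7,2),(246,8,2),(245,4,2),(250,2,7),(248,7,3),(247,8,3),(251,2,4),(252,2,3),(250,3,4),(249,7,4),(248,8,4),(246,4,3),(244,3,2),(242,2,1),(241,7,1),(240,3,1),(239,4,1),(238,5,1),(237,7,1),(236,8,1),(242,7,2),(244,1,3),(254,3,8),(253,2,8),(252,4,8),(251,3,8),(249,8,7),(255,3,7),(254,2,7),(253,4,7),(251,7,3),(250,8,3),(248,3,7),(247,4,7),(246,2,7),(245,1,7),(243,7,3),(241,3,2),(240,4,2),(239,5,2),(238,7,2),(237,8,2),(235,2,1),(234,3,1),(233,4,1),(232,7,1),(231,3,1),(229,1,2),(228,8,2),(227,7,2),(225,2,3),(223,3,4),(222,7,4),(221,8,4),(220,7,4),(218,4,3),(217,5,3),(215,3,2),(214,4,2),(213,7,2),(211,2,3),(210,1,3),(208,3,7),(207,2,7),(206,4,7),(205,5,7),(203,7,3),(202,8,3),(200,3,4),(199,7,4),(198,2,4),(196,4,3),(195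,5,3),(194,8,3),(192,3,2),(191,4,2),(190,7,2),(188,2,3),(187,1,3),(185,3,2),(184,7,2),(183,8,2),(182,4,2),(180,2,3),(178,3,7),(177,4,7),(176,5,7),(174,7,3),(173,8,3),(171,3,2),(170,7,2),(169,4,2),(167,2,3),(166,1,3),(164,3,2),(163,4,2),(162,7,2),(161,8,2),(159,2,3),(157,3,7),(156,4,7),(155,5,7),(163,7,4),(162,8,4),(170,4,7),(195,8,5),(194,2,5),(193,3,5),(196,8,4),(195,2,4),(197,8,3),(198,8,2),(196,2,3),(194,3,4),(192,4,5),(191,7,5),(190,3,5),(189,2,5),(188,1,5),(187,2,5),(186,3,5),(185,7,5),(184,8,5),(192,7,4),(194,5,3),(202,4,8),(201,3,8),(199,8,7),(203,4,7),(201,7,3),(200,8,3),(198,3,7),(197,2,7),(196,4,7),(195,5,7),(193,7,3),(191,3,4),(190,2,4),(189,1,4),(188,2,4),(197,4,2),(196,5,2),(203,3,4),(202,7,4),(201,8,4),(200,7,4),(198,4,3),(197,5,3),(195,3,2),(194,7,2),(193,4,2),(191,2,3),(190,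1,3),(210,7,1),(209,3,1),(211,7,2),(212,7,3),(210,3,2),(208,2,1),(207,4,1),(206,5,1),(205,4,1),(204,3,1),(203,7,1),(202,8,1),(201,7,1),(200,3,1),(199,4,1),(198,5,1),(208,4,2),(207,5,2),(206,4,2),(210,1,3),(214,3,4),(213,7,4),(212,2,4),(211,1,4),(209,4,3),(208,5,3),(217,2,5),(218,2,4),(216,4,5),(215,3,5),(214,7,5),(213,2,5),(212,1,5),(211,3,5),(209,5,4),(207,4,3),(205,3,2),(204,7,2),(203,8,2),(202,7,2),(214,2,7),(213,1,7),(218,5,2),(217,4,2),(215,2,3),(214,1,3),(212,3,7),(211,4,7),(210,5,7),(219,5,3),(217,3,4),(216,2,4),(215,1,4),(214,7,4),(212,4,3),(211,5,3),(209,3,7),(208,4,7),(207,2,7),(205,7,3),(204,8,3),(221,7,8),(220,5,8),(219,4,8),(218,3,8),(217,2,8),(216,1,8),(221,5,7),(220,4,7),(223,8,3),(222,5,3),(224,8,4),(239,7,5),(238,8,5),(237,1,5),(236,2,5),(235,3,5),(240,7,4),(239,8,4),(238,1,4),(237,2,4),(243,2,7),(241,7,3),(240,8,3),(239,1,3),(243,3,2),(242,7,2),(241,8,2),(245,2,1),(244,3,1),(243,7,1),(242,8,1),(240,1,2),(238,2,3)]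

theorem step10 : reduces 10 adj mv10 (mid9) (mid10) 0 = true := by decide +kernel

/-- intermediate word -/
def mid11 : List ℕ := [3,2,1,3,4,5,3,7,8,3,2,1,3,4,5,3,7,8,3,2,1,3,4,5,3,7,8,3,2,1,3,4,5,3,7,8,3,2,1,3,4,5,3,7,8,3,2,1,3,4,5,3,7,8,3,2,1,3,4,5,3,7,8,3,2,1,3,4,5,3,7,8,3,2,1,3,4,5,3,7,8,3,2,1,3,4,5,3,7,8,3,1,3,2,1,3,4,5,3,7,8,3,2,1,3,4,5,3,7,8,3,2,1,3,4,5,3,7,8,3,2,1,3,4,5,3,7,8,3,2,1,3,4,5,3,7,8,3,2,1,3,4,5,3,7,8,7,4,3,7,8,4,1,2,3,7,5,4,3,7,2,3,4,8,7,3,2,1,2,3,7,4,3,2,8,7,3,4,5,4,3,7,2,3,4,5,8,7,3,4,2,3,7,1,2,3,7,4,3,2,1,5,4,3,2,7,3,4,8,7,3,4,2,3,7,5,4,3,2,8,7,3,1,2,3,4,7,3,2,1,5,4,3,7,2,3,8,7,3,2,4,3,5,4,2,3,7,8,1,2,3,4,7,3,8,2,3,7,4,5,4,3,1,7,8,2,1,3,4,5,7,8,3,2,1,3,4,5,3,7,8,3,2,1,3,4,5,3,7,3,2,1,3,4,3,2]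

/-- moves -/
def mv11 : List (ℕ × ℕ × ℕ) := [(236,3,4),(234,4,5),(233,7,5),(232,3,5),(231,2,5),(230,1,5),(229,8,5),(228,7,5),(227,3,5),(226,2,5),(225,8,5),(223,5,4),(221,4,3),(219,3,7),(218,2,7),(217,1,7),(215,7,8),(214,3,8),(213,4,8),(212,5,8),(226,8,2),(225,4,2),(224,5,2),(227,8,3),(234,7,4),(236,5,3),(250,7,8),(249,3,8),(248,4,8),(247,1,8),(246,2,8),(245,3,8),(243,8,7),(242,2,7),(241,1,7),(252,8,3),(250,3,7),(249,4,7),(248,1,7),(247,2,7),(245,7,3),(244,8,3),(253,8,4),(252,7,4),(250,4,3),(249,1,3),(247,3,2),(246,7,2),(245,8,2),(243,2,3),(242,1,3),(240,3,7),(239,2,7),(238,4,7),(237,5,7),(235,7,3),(233,3,4),(232,2,4),(231,1,4),(230,8,4),(229,7,4),(228,8,4),(226,4,3),(225,5,3),(223,3,2),(222,4,2),(221,7,2),(219,2,3),(218,1,3),(217,8,3),(215,3,7),(214,4,7),(213,5,7),(211,7,8),(210,3,8),(209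,4,8),(208,2,8),(207,3,8),(205,8,7),(203,7,3),(201,3,2),(200,4,2),(199,5,2),(197,2,1),(196,3,1),(195,7,1),(194,4,1),(193,3,1),(191,1,2),(189,2,3),(187,3,4),(186,7,4),(185,8,4),(183,4,5),(182,3,5),(181,2,5),(180,7,5),(179,3,5),(177,5,4),(195,4,7),(213,8,5),(212,7,5),(211,3,5),(214,8,4),(213,7,4),(215,8,3),(216,8,7),(214,7,3),(212,3,4),(210,4,5),(209,2,5),(208,3,5),(207,7,5),(206,8,5),(205,3,5),(204,7,5),(203,2,5),(202,3,5),(200,5,4),(199,1,4),(198,2,4),(196,4,3),(194,3,7),(193,2,7),(192,1,7),(210,2,4),(212,5,3),(231,8,1),(230,7,1),(229,8,1),(228,3,1),(227,4,1),(226,5,1),(232,8,2),(231,7,2),(230,8,2),(233,8,3),(235,4,7),(245,3,8),(244,2,8),(243,1,8),(246,3,7),(245,2,7),(244,1,7),(242,7,8),(241,3,8),(240,2,8),(239,4,8),(238,5,8),(237,3,8),(236,4,8),(234,8,7),(232,7,3),(231,8,3),(229,3,2),(228,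4,2),(227,5,2),(225,2,1),(224,3,1),(223,4,1),(222,7,1),(221,3,1),(219,1,2),(218,7,2),(217,8,2),(236,7,4),(235,8,4),(248,7,2),(246,2,3),(245,1,3),(244,8,3),(242,3,7),(241,2,7),(240,4,7),(239,5,7),(237,7,3),(236,8,3),(234,3,4),(233,7,4),(232,8,4),(231,2,4),(229,4,3),(228,5,3),(227,1,3),(225,3,2),(224,4,2),(223,7,2),(221,2,3),(220,1,3),(239,3,5),(238,7,5),(237,8,5),(249,7,1),(248,3,1),(246,1,2),(245,8,2),(244,7,2),(242,2,3),(240,3,4),(239,7,4),(238,8,4),(236,4,5),(235,3,5),(234,7,5),(233,8,5),(232,2,5),(231,3,5),(229,5,4),(228,1,4),(227,2,4),(225,4,3),(223,3,7),(222,2,7),(221,1,7),(219,7,3),(218,8,3),(216,3,2),(215,7,2),(214,4,2),(213,5,2),(211,2,3),(209,3,4),(208,7,4),(207,8,4),(215,4,7),(214,5,7),(225,7,4),(238,5,8),(237,4,8),(236,3,8),(234,8,7),(233,2,7),(239,5,7),(238,4,7),(236,7,3),(235,8,3),(242,4,2),(250,7,4),(251,7,3),(249,3,4),(248,2,4),(247,1,4),(246,8,4),(245,7,4),(243,4,3),(241,3,2),(240,5,2),(239,4,2),(241,5,3),(243,2,4)]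

theorem step11 : reduces 10 adj mv11 (mid10) (mid11) 0 = true := by decide +kernel

/-- intermediate word -/
def mid12 : List ℕ := [3,2,1,3,4,5,3,7,8,3,2,1,3,4,5,3,7,8,3,2,1,3,4,5,3,7,8,3,2,1,3,4,5,3,7,8,3,2,1,3,4,5,3,7,8,3,2,1,3,4,5,3,7,8,3,2,1,3,4,5,3,7,8,3,2,1,3,4,5,3,7,8,3,2,1,3,4,5,3,7,8,3,2,1,3,4,5,3,7,8,3,1,3,2,1,3,4,5,3,7,8,3,2,1,3,4,5,3,7,8,3,2,1,3,4,5,3,7,8,3,2,1,3,4,5,3,7,8,3,2,1,3,4,5,3,7,8,3,2,1,3,4,3,4,3,8,7,3,5,4,3,8,7,5,1,2,3,7,8,4,3,7,2,3,1,2,3,7,4,3,2,8,7,3,4,5,4,3,7,2,3,4,5,8,7,3,4,2,3,7,1,2,3,7,4,3,2,1,5,4,3,2,7,3,4,8,7,3,4,2,3,7,5,4,3,2,8,7,3,4,1,2,3,4,7,3,2,1,5,4,3,7,2,3,4,8,7,3,4,2,3,7,5,4,3,7,8,1,2,3,4,5,7,3,2,4,3,7,8,7,3,2,5,1,2,3,7,4,3,5,4,8,2,1,3,7,8,3,2,1,3,4,5,3,7,3,2,1,3,4,3,2]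

/-- moves -/
def mv12 : List (ℕ × ℕ × ℕ) := [(258,4,5),(257,7,5),(256,3,5),(255,2,5),(254,8,5),(253,3,5),(252,7,5),(258,7,4),(260,5,3),(262,1,7),(261,5,7),(259,7,3),(257,3,4),(256,2,4),(255,8,4),(264,8,2),(265,8,1),(263,1,2),(262,5,2),(266,8,3),(274,1,3),(272,3,2),(271,8,2),(270,7,2),(269,5,2),(268,4,2),(267,8,2),(265,2,3),(264,1,3),(263,5,3),(261,3,2),(260,7,2),(259,4,2),(257,2,3),(256,8,3),(254,3,4),(253,7,4),(251,4,5),(250,3,5),(249,2,5),(248,1,5),(247,8,5),(246,7,5),(245,3,5),(244,2,5),(242,5,4),(240,4,3),(238,3,2),(237,7,2),(236,8,2),(234,2,3),(232,3,7),(231,4,7),(230,5,7),(229,1,7),(228,2,7),(226,7,3),(224,3,4),(223,2,4),(222,1,4),(240,2,4),(244,4,2),(243,5,2),(241,2,3),(239,3,4),(238,7,4),(237,8,4),(257,8,2),(256,4,2),(258,8,3),(259,8,4),(257,4,3),(255,3,2),(254,7,2),(253,5,2),(252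,4,2),(250,2,3),(249,1,3),(248,8,3),(246,3,7),(245,4,7),(244,5,7),(267,3,8),(266,2,8),(265,1,8),(264,5,8),(263,2,8),(262,3,8),(260,8,7),(270,5,7),(269,4,7),(272,8,3),(271,5,3),(275,1,4),(274,2,4),(273,8,4),(276,1,5),(275,2,5),(274,8,5),(272,5,4),(270,4,3),(268,3,7),(267,2,7),(266,1,7),(265,5,7),(264,2,7),(262,7,3),(261,8,3),(259,3,7),(258,4,7),(257,2,7),(255,7,3),(254,5,3),(252,3,4),(251,2,4),(250,1,4),(249,8,4),(248,7,4),(246,4,3),(245,5,3),(243,3,7),(242,2,7),(241,4,7),(239,7,3),(238,8,3),(236,3,4),(235,2,4),(234,7,4),(232,4,3),(231,5,3),(230,1,3),(228,3,2),(227,7,2),(226,4,2),(224,2,3),(223,1,3),(221,3,4),(220,7,4),(219,8,4),(218,2,4),(216,4,3),(215,5,3),(213,3,7),(212,2,7),(211,4,7),(209,7,3),(208,8,3),(206,3,4),(205,7,4),(204,2,4),(202,4,3),(201,5,3),(200,1,3),(198,3,2),(197,4,2),(196,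7,2),(194,2,3),(193,1,3),(191,3,7),(190,2,7),(189,4,7),(187,7,3),(186,8,3),(185,5,3),(183,3,4),(182,2,4),(181,7,4),(179,4,3),(178,5,3),(176,3,4),(175,7,4),(174,8,4),(173,2,4),(171,4,3),(169,3,7),(168,2,7),(167,1,7),(166,2,7),(164,7,3),(163,8,3),(161,3,4),(160,2,4),(159,7,4),(157,4,3),(156,5,3),(154,3,7),(153,2,7),(152,1,7),(151,4,7),(149,7,8),(148,3,8),(147,4,8),(145,8,7),(144,7,7),(154,7,5),(153,3,5),(152,2,5),(151,1,5),(155,7,4),(156,7,3),(154,3,4),(153,2,4),(152,1,4),(150,4,5),(149,8,5),(148,7,5),(147,3,5),(150,8,4),(149,7,4),(158,3,2),(157,7,2),(156,4,2),(154,2,3),(153,1,3),(152,5,3),(151,8,3),(157,4,7),(160,2,4),(158,4,3),(156,3,7),(155,2,7),(154,1,7),(153,5,7),(161,2,8),(160,3,8),(159,4,8),(162,2,7),(163,2,3),(161,3,7),(160,4,7),(158,7,8),(157,3,8),(156,2,8),(155,1,8),(154,5,8),(152,8,7),(150,7,3),(148,3,4),(146,4,5),(145,7,5),(144,8,5),(143,3,5),(142,5,5),(144,7,4),(143,8,4),(146,5,3),(148,4,7),(147,5,7),(145,7,3),(144,8,3)]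

theorem step12 : reduces 10 adj mv12 (mid11) (mid12) 2 = true := by decide +kernel

/-- intermediate word -/
def mid13 : List ℕ := [3,2,1,3,4,5,3,7,8,3,2,1,3,4,5,3,7,8,3,2,1,3,4,5,3,7,8,3,2,1,3,4,5,3,7,8,3,2,1,3,4,5,3,7,8,3,2,1,3,4,5,3,7,8,3,2,1,3,4,5,3,7,8,3,2,1,3,4,5,3,7,8,3,2,1,3,4,5,3,7,8,3,2,1,3,4,5,3,7,8,3,1,3,2,1,3,4,5,3,7,8,3,2,1,3,4,5,3,7,8,3,2,1,3,4,5,3,7,8,3,2,1,3,4,5,3,7,8,3,2,3,1,2,7,5,3,2,1,4,3,2,8,7,3,2,4,3,7,5,4,3,8,4,7,3,4,5,1,2,3,7,4,3,2,8,7,3,5,4,3,2,7,1,2,3,7,4,3,2,1,5,4,3,2,7,3,4,8,7,3,4,2,3,7,5,4,3,2,8,7,3,4,1,2,3,4,7,3,2,1,5,4,3,7,2,3,4,8,7,3,4,2,3,7,5,4,3,7,8,1,2,3,4,5,7,3,2,4,3,7,8,7,3,2,5,1,2,3,7,4,3,5,4,8,2,1,3,7,8,3,2,1,3,4,5,3,7,3,2,1,3,4,3,2]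

/-- moves -/
def mv13 : List (ℕ × ℕ × ℕ) := [(142,3,4),(141,4,4),(140,3,3),(149,5,1),(148,7,1),(147,8,1),(146,3,1),(145,4,1),(144,5,1),(143,3,1),(142,7,1),(141,8,1),(140,4,1),(139,1,1),(148,5,2),(147,7,2),(146,8,2),(149,5,3),(150,5,7),(148,7,3),(147,8,3),(145,3,2),(144,4,2),(143,5,2),(152,8,4),(168,4,5),(167,3,5),(166,7,5),(165,8,5),(164,2,5),(163,3,5),(170,5,3),(168,3,4),(167,7,4),(166,8,4),(165,2,4),(171,5,7),(170,4,7),(168,7,3),(167,8,3),(172,5,2),(171,4,2),(173,5,3),(174,5,4),(172,4,3),(170,3,2),(169,7,2),(168,8,2),(166,2,3),(164,3,4),(162,4,5),(161,7,5),(160,3,5),(159,2,5),(158,1,5),(157,3,5),(156,2,5),(155,7,5),(154,3,5),(153,8,5),(151,5,4),(154,8,3),(162,7,4),(164,5,3),(176,4,8),(175,5,8),(174,3,8),(173,4,8),(172,2,8),(171,3,8),(169,8,7),(177,4,7),(176,5,7),(178,4,3),(177,5,3),(175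,3,7),(174,4,7),(173,2,7),(171,7,3),(170,8,3),(168,3,7),(167,2,7),(166,4,7),(165,5,7),(163,7,3),(161,3,4),(160,2,4),(159,1,4),(167,4,2),(166,5,2),(174,2,4),(180,3,2),(179,4,2),(178,5,2),(177,7,2),(175,2,3),(173,3,4),(172,7,4),(171,8,4),(170,7,4),(168,4,3),(167,5,3),(165,3,2),(164,7,2),(163,4,2),(161,2,3),(160,1,3),(158,3,4),(157,2,4),(156,7,4),(155,8,4),(153,4,3),(152,5,3),(150,3,4),(149,7,4),(148,8,4),(147,2,4),(145,4,3),(144,5,3),(142,3,2),(141,7,2),(140,8,2),(139,4,2),(138,2,2),(138,4,8),(137,3,8),(136,8,8),(137,4,7),(148,4,5),(147,3,5),(146,7,5),(145,8,5),(144,2,5),(143,3,5),(141,5,4),(140,2,4),(138,4,3),(136,3,7),(135,7,7),(134,3,3),(137,2,5),(136,3,5),(138,2,4),(139,2,3),(137,3,4),(135,4,5),(134,7,5),(133,5,5),(133,7,4),(132,4,4),(130,1,3),(135,4,2),(142,5,3),(140,3,4),(139,7,4),(138,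8,4),(136,4,3),(134,3,2),(133,5,2),(132,7,2),(148,4,1),(147,3,1),(149,4,2),(150,4,3),(148,3,2),(146,2,1),(145,7,1),(144,8,1),(143,5,1),(142,4,1),(141,3,1),(140,7,1),(139,8,1),(138,3,1),(137,4,1),(146,7,2),(145,8,2),(144,5,2),(143,4,2),(148,1,3),(152,3,7),(151,4,7),(150,2,7),(149,1,7),(147,7,3),(146,8,3),(145,5,3),(151,2,4),(150,1,4),(154,7,2),(152,2,3),(151,1,3),(149,3,4),(148,7,4),(147,8,4),(155,7,5),(154,3,5),(153,2,5),(152,1,5),(156,7,4),(157,7,3),(155,3,4),(154,2,4),(153,1,4),(151,4,5),(150,3,5),(149,7,5),(148,8,5),(146,5,4),(144,4,3),(142,3,2),(141,7,2),(140,8,2),(159,3,8),(160,3,7),(158,7,8),(157,4,8),(156,3,8),(155,2,8),(154,1,8),(153,5,8),(152,4,8),(151,3,8),(149,8,7),(148,4,7),(147,5,7),(158,4,7),(160,8,3),(162,7,4),(161,8,4),(159,4,3),(157,3,7),(156,2,7),(155,1,7),(154,5,7),(153,4,7),(151,7,3),(150,8,3),(163,7,2),(162,8,2),(164,7,3),(163,8,3),(161,3,2),(160,4,2),(159,7,2),(157,2,3),(156,1,3),(155,5,3),(153,3,4),(152,7,4)]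

theorem step13 : reduces 10 adj mv13 (mid12) (mid13) 9 = true := by decide +kernel

/-- intermediate word -/
def mid14 : List ℕ := [3,2,1,3,4,5,3,7,8,3,2,1,3,4,5,3,7,8,3,2,1,3,4,5,3,7,8,3,2,1,3,4,5,3,7,8,3,2,1,3,4,5,3,7,8,3,2,1,3,4,5,3,7,8,3,2,1,3,4,5,3,7,8,3,2,1,3,4,5,3,7,8,3,2,1,3,4,5,3,7,8,3,2,1,3,4,5,3,7,8,3,1,3,2,1,3,4,5,3,7,8,3,2,1,3,4,5,3,7,8,3,2,1,3,4,5,3,7,8,3,2,1,3,4,5,3,7,8,2,3,1,2,7,8,5,3,7,2,3,1,2,4,3,2,1,7,3,2,4,3,5,4,3,2,8,7,3,4,5,2,3,4,7,3,2,8,7,3,4,2,1,2,3,7,8,4,3,7,2,3,1,2,5,4,3,2,1,7,3,2,4,3,8,7,3,4,2,3,1,5,4,3,2,3,7,3,4,1,2,3,7,5,4,3,2,8,7,3,4,2,3,7,5,4,3,7,8,1,2,3,4,5,7,3,2,4,3,7,8,7,3,2,5,1,2,3,7,4,3,5,4,8,2,1,3,7,8,3,2,1,3,4,5,3,7,3,2,1,3,4,3,2]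

/-- moves -/
def mv14 : List (ℕ × ℕ × ℕ) := [(151,8,4),(149,4,3),(148,5,3),(146,3,7),(145,4,7),(144,2,7),(142,7,3),(141,8,3),(139,3,2),(138,4,2),(136,2,1),(135,3,1),(134,5,1),(133,7,1),(131,1,2),(129,2,3),(128,3,3),(139,2,8),(138,3,8),(137,4,8),(136,1,8),(135,2,8),(134,3,8),(133,5,8),(140,2,7),(141,2,3),(139,3,7),(138,4,7),(137,1,7),(136,2,7),(143,3,4),(142,2,4),(141,7,4),(139,4,3),(138,1,3),(142,7,2),(145,4,7),(143,7,3),(141,3,2),(140,4,2),(154,5,1),(153,4,1),(152,3,1),(151,7,1),(150,8,1),(149,3,1),(148,4,1),(147,5,1),(146,4,1),(145,3,1),(144,7,1),(155,5,2),(154,4,2),(156,5,3),(158,7,4),(164,3,5),(163,7,5),(162,8,5),(161,2,5),(160,3,5),(159,7,5),(157,5,4),(155,4,3),(153,3,2),(152,7,2),(151,8,2),(159,4,7),(158,5,7),(165,3,4),(164,7,4),(163,8,4),(162,2,4),(160,4,3),(159,5,3),(157,3,7),(156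,4,7),(155,2,7),(153,7,3),(152,8,3),(150,3,2),(149,4,2),(148,5,2),(147,4,2),(156,2,4),(168,2,7),(167,4,7),(165,7,3),(164,8,3),(162,3,2),(161,4,2),(160,5,2),(159,7,2),(157,2,3),(155,3,4),(154,7,4),(153,8,4),(152,2,4),(150,4,3),(149,5,3),(160,7,5),(159,3,5),(158,2,5),(161,7,4),(184,4,8),(183,3,8),(185,4,7),(186,4,3),(184,3,7),(182,7,8),(181,2,8),(180,3,8),(179,4,8),(178,5,8),(177,1,8),(176,2,8),(175,3,8),(174,4,8),(182,2,7),(184,8,3),(188,3,2),(187,4,2),(186,7,2),(185,8,2),(183,2,3),(181,3,7),(180,4,7),(179,5,7),(178,1,7),(177,2,7),(187,7,4),(186,8,4),(190,2,7),(188,7,3),(187,8,3),(185,3,4),(184,2,4),(183,7,4),(181,4,3),(180,5,3),(179,1,3),(184,7,2),(195,2,8),(194,3,8),(193,4,8),(192,5,8),(191,2,8),(190,3,8),(188,8,7),(187,4,7),(185,7,3),(183,3,2),(182,4,2),(181,5,2),(199,4,1),(198,3,1),(197,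7,1),(200,4,2),(201,4,3),(199,3,2),(198,7,2),(196,2,1),(195,3,1),(194,4,1),(193,5,1),(203,3,7),(202,4,7),(201,2,7),(199,7,3),(198,1,3),(196,3,2),(195,4,2),(194,5,2),(192,2,1),(191,3,1),(190,7,1),(189,8,1),(188,4,1),(187,3,1),(186,7,1),(202,2,4),(205,7,2),(203,2,3),(201,3,4),(200,7,4),(199,1,4),(198,2,4),(196,4,3),(195,5,3),(194,1,3),(192,3,2),(191,7,2),(190,8,2),(189,4,2),(200,1,7),(199,2,7),(201,1,3),(203,4,2),(206,7,1),(205,3,1),(204,4,1),(202,1,2),(200,2,3),(198,3,7),(197,4,7),(196,5,7),(195,1,7),(194,2,7),(192,7,3),(191,8,3),(207,7,5),(206,3,5),(208,7,4),(209,7,3),(207,3,4),(205,4,5),(204,2,5),(203,1,5),(202,3,5),(201,2,5),(200,7,5),(199,3,5),(197,5,4),(196,1,4),(195,2,4),(205,2,4),(204,1,4),(207,5,3),(211,3,2),(210,7,2),(209,4,2),(208,5,2),(206,2,3),(205,1,3),(203,3,4),(202,2,4),(201,7,4),(199,4,3),(198,5,3),(197,1,3),(202,7,2),(210,4,7),(209,5,7),(213,2,4),(211,4,3),(210,5,3),(208,3,7),(207,2,7),(206,1,7),(205,4,7),(203,7,3)]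

theorem step14 : reduces 10 adj mv14 (mid13) (mid14) 1 = true := by decide +kernel

/-- intermediate word -/
def mid15 : List ℕ := [3,2,1,3,4,5,3,7,8,3,2,1,3,4,5,3,7,8,3,2,1,3,4,5,3,7,8,3,2,1,3,4,5,3,7,8,3,2,1,3,4,5,3,7,8,3,2,1,3,4,5,3,7,8,3,2,1,3,4,5,3,7,8,3,2,1,3,4,5,3,7,8,3,2,1,3,4,5,3,7,8,3,2,1,3,4,5,3,7,8,3,1,3,2,1,3,4,5,3,7,8,3,2,1,3,4,5,3,7,8,3,2,1,3,4,5,3,7,8,3,2,1,3,4,2,3,4,7,3,1,2,3,7,4,3,8,7,3,4,2,3,7,8,1,2,3,7,5,4,3,2,1,7,3,2,4,3,5,4,3,2,1,8,7,3,4,5,2,3,7,4,1,2,8,7,3,4,2,3,1,7,3,2,4,3,8,7,3,4,2,3,1,2,5,4,3,2,1,7,3,2,4,3,7,5,4,3,2,8,7,3,4,5,2,3,4,7,3,8,1,2,3,4,5,7,3,2,4,3,7,8,7,3,2,5,1,2,3,7,4,3,5,4,8,2,1,3,7,8,3,2,1,3,4,5,3,7,3,2,1,3,4,3,2]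

/-- moves -/
def mv15 : List (ℕ × ℕ × ℕ) := [(201,3,2),(200,4,2),(199,5,2),(206,4,1),(205,3,1),(204,7,1),(207,4,2),(221,7,5),(220,3,5),(219,2,5),(222,7,4),(223,7,3),(221,3,4),(220,2,4),(218,4,5),(217,3,5),(216,7,5),(215,8,5),(214,2,5),(213,3,5),(211,5,4),(210,7,4),(208,4,3),(206,3,2),(205,7,2),(203,2,1),(202,3,1),(201,4,1),(200,5,1),(198,1,2),(196,2,3),(194,3,4),(193,7,4),(192,8,4),(190,4,3),(188,3,2),(187,7,2),(185,2,1),(184,3,1),(183,4,1),(182,5,1),(180,1,2),(178,2,3),(176,3,7),(175,4,7),(173,7,8),(172,3,8),(171,2,8),(170,1,8),(169,2,8),(168,4,8),(167,3,8),(165,8,7),(164,2,7),(162,7,3),(160,3,4),(159,2,4),(157,4,5),(156,3,5),(155,7,5),(154,8,5),(153,2,5),(152,3,5),(150,5,4),(148,4,3),(146,3,2),(145,7,2),(143,2,1),(142,3,1),(141,4,1),(139,1,2),(137,2,3),(135,3,7),(134,5,7),(132,7,8),(131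,2,8),(130,1,8),(129,3,8),(128,2,8),(127,8,8),(130,2,7),(129,1,7),(133,5,3),(132,8,3),(135,7,2),(134,5,2),(133,8,2),(131,2,3),(130,1,3),(128,3,7),(127,2,7),(126,7,7),(135,3,1),(134,7,1),(133,5,1),(132,8,1),(131,3,1),(129,1,2),(128,7,2),(126,2,3),(125,3,3),(131,8,5),(130,3,5),(129,2,5),(128,1,5),(127,7,5),(126,3,5),(125,2,5),(124,5,5),(133,2,4),(134,2,3),(132,3,4),(131,7,4),(130,8,4),(137,1,7),(138,1,3),(136,3,7),(135,2,7),(134,4,7),(132,7,3),(131,8,3),(129,3,4),(128,2,4),(127,1,4),(126,7,4),(135,4,2),(140,2,4),(139,1,4),(138,7,4),(136,4,3),(134,3,2),(133,7,2),(132,8,2),(131,4,2),(129,2,3),(128,1,3),(146,2,8),(145,3,8),(144,4,8),(143,5,8),(142,3,8),(141,2,8),(140,1,8),(147,2,7),(151,5,2),(150,4,2),(148,2,3),(146,3,7),(145,4,7),(144,5,7),(152,5,3),(150,3,4),(149,2,4),(148,7,4),(146,4,3),(145,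5,3),(143,3,7),(142,2,7),(141,1,7),(139,7,8),(138,3,8),(137,4,8),(136,2,8),(135,3,8),(133,8,7),(132,4,7),(149,7,2),(154,4,7),(153,5,7),(152,4,7),(150,7,3),(148,3,2),(147,4,2),(146,5,2),(145,7,2),(143,2,3),(142,1,3),(141,8,3),(139,3,7),(138,4,7),(137,2,7),(135,7,3),(134,8,3),(138,2,4),(162,2,1),(161,4,1),(160,3,1),(159,7,1),(158,8,1),(162,4,2),(164,1,3),(167,8,4),(166,7,4),(165,1,4),(163,4,3),(161,3,2),(160,7,2),(159,8,2),(157,2,1),(156,3,1),(155,4,1),(154,5,1),(153,4,1),(152,3,1),(151,7,1),(166,1,7),(168,8,3),(167,1,3),(165,3,7),(164,4,7),(163,2,7),(161,7,3),(160,8,3),(159,1,3),(157,3,2),(156,4,2),(155,5,2),(154,4,2),(164,2,4),(170,7,2),(169,8,2),(172,3,1),(171,7,1),(170,8,1),(168,1,2),(167,7,2),(165,2,3),(163,3,4),(162,7,4),(161,8,4),(160,1,4),(159,2,4),(157,4,3),(156,5,3),(174,2,5),(173,3,5),(172,7,5),(171,8,5),(170,2,5),(169,1,5),(168,7,5),(167,3,5),(166,2,5),(175,2,4),(176,2,3),(174,3,4),(173,7,4),(172,8,4),(171,2,4),(170,1,4)]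

theorem step15 : reduces 10 adj mv15 (mid14) (mid15) 4 = true := by decide +kernel

/-- intermediate word -/
def mid16 : List ℕ := [3,2,1,3,4,5,3,7,8,3,2,1,3,4,5,3,7,8,3,2,1,3,4,5,3,7,8,3,2,1,3,4,5,3,7,8,3,2,1,3,4,5,3,7,8,3,2,1,3,4,5,3,7,8,3,2,1,3,4,5,3,7,8,3,2,1,3,4,5,3,7,8,3,2,1,3,4,5,3,7,8,3,2,1,3,4,5,3,7,8,3,1,3,2,1,3,4,5,3,7,8,3,2,1,3,4,5,3,7,8,3,2,1,3,4,5,3,2,3,1,2,3,4,3,2,1,7,3,2,8,7,3,2,1,4,3,7,2,3,5,4,3,2,7,3,1,2,4,3,7,5,4,8,7,3,4,5,2,3,7,4,3,8,4,7,1,2,3,4,7,3,8,7,1,2,3,7,4,3,1,2,5,4,3,2,1,7,3,2,4,3,7,5,4,3,2,8,7,3,4,5,2,3,4,7,3,8,1,2,3,4,5,7,3,2,4,3,7,8,7,3,2,5,1,2,3,7,4,3,5,4,8,2,1,3,7,8,3,2,1,3,4,5,3,7,3,2,1,3,4,3,2]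

/-- moves -/
def mv16 : List (ℕ × ℕ × ℕ) := [(169,7,4),(179,1,7),(180,1,3),(178,3,7),(177,2,7),(176,4,7),(174,7,3),(173,8,3),(177,4,2),(182,2,4),(181,1,4),(180,7,4),(178,4,3),(176,3,2),(175,7,2),(174,8,2),(172,2,3),(171,1,3),(184,3,8),(183,2,8),(182,1,8),(185,3,7),(184,2,7),(183,1,7),(181,7,8),(180,3,8),(179,4,8),(178,2,8),(177,3,8),(175,8,7),(188,4,2),(187,7,2),(185,2,3),(184,1,3),(183,8,3),(181,3,7),(180,4,7),(179,2,7),(177,7,3),(176,8,3),(174,3,7),(173,2,7),(172,1,7),(170,7,3),(168,3,4),(167,2,4),(165,4,5),(164,3,5),(163,7,5),(162,8,5),(161,1,5),(160,2,5),(159,3,5),(157,5,4),(155,4,3),(153,3,2),(152,7,2),(150,2,1),(149,3,1),(148,4,1),(147,5,1),(146,7,1),(145,3,1),(143,1,2),(142,8,2),(141,7,2),(139,2,3),(137,3,4),(136,7,4),(135,8,4),(133,4,3),(131,3,7),(130,2,7),(129,1,7),(127,7,3),(125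,3,4),(124,2,4),(123,4,4),(127,3,1),(126,7,1),(125,4,1),(124,3,1),(128,3,2),(127,7,2),(126,4,2),(130,2,7),(128,7,3),(131,2,4),(137,4,2),(155,3,5),(156,3,4),(154,4,5),(153,2,5),(152,3,5),(151,7,5),(150,1,5),(149,2,5),(148,3,5),(146,5,4),(145,7,4),(154,2,4),(156,5,3),(158,4,2),(157,5,2),(155,2,3),(153,3,4),(152,7,4),(151,1,4),(150,2,4),(148,4,3),(147,5,3),(152,1,7),(151,2,7),(153,1,3),(155,4,2),(159,4,1),(158,5,1),(157,3,1),(156,4,1),(154,1,2),(152,2,3),(150,3,7),(149,4,7),(148,5,7),(146,7,3),(144,3,4),(143,2,4),(142,1,4),(141,8,4),(140,7,4),(138,4,3),(136,3,2),(135,7,2),(134,8,2),(132,2,3),(130,3,4),(129,7,4),(127,4,3),(125,3,2),(123,2,1),(122,3,1),(121,1,1),(123,1,3),(121,3,2),(120,2,2),(119,3,3),(128,3,8),(127,2,8),(126,4,8),(125,3,8),(129,3,7),(128,2,7),(127,4,7),(131,7,2),(129,2,3),(132,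7,4),(133,7,3),(131,3,4),(130,2,4),(128,4,3),(126,3,7),(124,7,8),(123,3,8),(122,4,8),(121,2,8),(120,1,8),(119,2,8),(118,8,8),(124,8,3),(122,3,7),(121,4,7),(120,2,7),(119,1,7),(118,2,7),(117,7,7),(124,7,4),(123,8,4),(122,7,4),(120,4,3),(126,3,2),(125,7,2),(124,8,2),(123,7,2),(129,4,7),(128,2,7),(126,7,3),(125,8,3),(131,3,8),(130,4,8),(129,2,8),(128,3,8),(126,8,7),(124,7,3),(122,3,2),(121,4,2),(119,2,3),(118,1,3),(132,3,1),(131,4,1),(133,3,2),(132,4,2),(130,2,1),(129,3,1),(128,7,1),(127,8,1),(126,3,1),(125,7,1),(135,2,4),(133,4,3),(132,1,3),(130,3,2),(129,7,2),(128,8,2),(136,2,7),(142,7,2),(164,7,8),(163,3,8),(162,2,8),(161,1,8),(160,3,8),(166,8,3),(164,3,7),(163,2,7),(162,1,7),(167,8,2),(166,7,2),(164,2,3),(163,1,3),(161,3,7),(159,7,8),(158,4,8),(157,3,8),(156,2,8),(155,5,8),(154,4,8),(153,3,8),(151,8,7),(150,4,7),(149,5,7),(159,4,7),(161,8,3),(168,8,4),(167,7,4),(169,8,3),(170,8,7),(168,7,3),(166,3,4),(165,2,4),(164,1,4),(163,7,4)]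

theorem step16 : reduces 10 adj mv16 (mid15) (mid16) 6 = true := by decide +kernel

/-- intermediate word -/
def mid17 : List ℕ := [3,2,1,3,4,5,3,7,8,3,2,1,3,4,5,3,7,8,3,2,1,3,4,5,3,7,8,3,2,1,3,4,5,3,7,8,3,2,1,3,4,5,3,7,8,3,2,1,3,4,5,3,7,8,3,2,1,3,4,5,3,7,8,3,2,1,3,4,5,3,7,8,3,2,1,3,4,5,3,7,8,3,2,1,3,4,5,3,7,8,3,1,3,2,1,3,4,5,3,7,8,3,2,1,3,4,5,3,7,2,4,3,7,5,4,3,1,2,3,4,7,3,4,1,2,3,7,8,7,3,2,4,3,5,4,3,7,2,3,8,7,1,2,3,7,8,4,3,2,1,7,3,2,5,4,3,2,1,8,7,3,2,4,3,2,8,7,3,4,1,2,5,4,3,2,1,7,3,2,4,3,7,5,4,3,2,8,7,3,4,5,2,3,4,7,3,8,1,2,3,4,5,7,3,2,4,3,7,8,7,3,2,5,1,2,3,7,4,3,5,4,8,2,1,3,7,8,3,2,1,3,4,5,3,7,3,2,1,3,4,3,2]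

/-- moves -/
def mv17 : List (ℕ × ℕ × ℕ) := [(162,8,4),(160,4,3),(158,3,7),(157,2,7),(156,5,7),(155,4,7),(153,7,3),(152,8,3),(172,7,1),(171,8,1),(170,3,1),(169,7,1),(168,4,1),(167,3,1),(165,1,2),(164,7,2),(163,8,2),(173,7,2),(172,8,2),(174,7,3),(173,8,3),(171,3,2),(170,7,2),(169,4,2),(167,2,3),(166,1,3),(170,4,7),(176,3,4),(175,7,4),(174,8,4),(173,2,4),(171,4,3),(169,3,7),(168,2,7),(167,1,7),(165,7,3),(164,8,3),(162,3,2),(161,4,2),(160,7,2),(158,2,3),(157,5,3),(155,3,4),(154,7,4),(153,8,4),(151,4,3),(150,5,3),(148,3,7),(147,4,7),(146,2,7),(145,1,7),(143,7,3),(141,3,2),(140,4,2),(139,5,2),(137,2,3),(135,3,7),(134,4,7),(133,1,7),(132,2,7),(130,7,3),(129,8,3),(127,3,2),(126,7,2),(124,2,1),(123,3,1),(122,4,1),(121,3,1),(119,1,2),(117,2,3),(116,3,3),(117,3,1),(118,3,2),(116,2,1),(115,5,1),(114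,4,1),(113,3,1),(112,1,1),(114,5,2),(113,4,2),(116,1,3),(115,5,3),(118,2,4),(117,1,4),(135,3,5),(134,2,5),(133,7,5),(132,3,5),(136,3,4),(135,2,4),(134,7,4),(138,4,2),(136,2,3),(139,4,7),(143,2,4),(142,1,4),(140,4,3),(138,3,7),(137,2,7),(135,7,3),(133,3,4),(131,4,5),(130,1,5),(129,2,5),(128,3,5),(127,7,5),(126,8,5),(125,2,5),(124,3,5),(123,7,5),(122,1,5),(121,2,5),(120,3,5),(119,2,5),(118,1,5),(116,5,4),(114,4,3),(112,3,2),(111,2,2),(110,3,3),(122,2,8),(121,3,8),(123,2,7),(124,2,3),(122,3,7),(120,7,8),(119,1,8),(118,2,8),(117,3,8),(116,2,8),(115,1,8),(114,4,8),(113,5,8),(112,3,8),(111,4,8),(110,2,8),(109,8,8),(118,1,7),(117,2,7),(120,8,3),(119,1,3),(122,7,2),(121,8,2),(124,3,1),(123,7,1),(122,8,1),(120,1,2),(118,2,3),(116,3,7),(115,2,7),(114,1,7),(113,4,7),(112,5,7),(118,7,2),(116,2,3),(115,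1,3),(127,5,3),(125,3,4),(124,7,4),(123,8,4),(122,2,4),(121,1,4),(129,4,7),(128,5,7),(127,4,7),(125,7,3),(124,8,3),(131,3,2),(130,4,2),(129,5,2),(128,4,2),(134,7,4),(133,2,4),(131,4,3),(130,5,3),(140,7,5),(139,3,5),(138,2,5),(137,1,5),(136,3,5),(135,7,5),(134,2,5),(133,3,5),(131,5,4),(129,4,3),(127,3,2),(126,7,2),(125,8,2),(123,2,3),(122,1,3),(120,3,4),(119,7,4),(143,3,8),(142,4,8),(144,3,7),(143,4,7),(141,7,8),(140,3,8),(139,2,8),(138,1,8),(137,3,8),(146,7,4),(144,4,3),(143,8,3),(141,3,7),(140,2,7),(139,1,7),(148,5,2),(147,7,2),(149,5,3),(150,5,7),(148,7,3),(146,3,2),(145,4,2),(144,8,2),(143,7,2),(141,2,3),(140,1,3),(138,3,7),(136,7,8),(135,2,8),(134,3,8),(133,4,8),(132,5,8),(131,3,8),(130,4,8),(129,2,8),(128,3,8),(126,8,7),(136,2,7),(138,8,3),(157,3,1),(156,7,1),(155,8,1),(158,3,2),(157,7,2),(156,8,2),(154,2,1),(153,3,1),(152,4,1),(151,5,1),(150,3,1),(149,7,1),(160,2,7),(158,7,3),(157,8,3),(156,1,3),(154,3,2),(153,4,2),(152,5,2)]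

theorem step17 : reduces 10 adj mv17 (mid16) (mid17) 5 = true := by decide +kernel

/-- intermediate word -/
def mid18 : List ℕ := [3,2,1,3,4,5,3,7,8,3,2,1,3,4,5,3,7,8,3,2,1,3,4,5,3,7,8,3,2,1,3,4,5,3,7,8,3,2,1,3,4,5,3,7,8,3,2,1,3,4,5,3,7,8,3,2,1,3,4,5,3,7,8,3,2,1,3,4,5,3,7,8,3,2,1,3,4,5,3,7,8,3,2,1,3,4,5,3,7,8,3,1,3,2,1,3,4,5,3,7,8,3,2,1,3,4,5,3,7,2,4,3,7,5,4,3,1,2,3,4,7,3,4,1,2,3,7,8,7,3,2,4,3,7,5,4,3,7,2,3,4,8,7,3,1,2,3,7,4,3,2,8,7,3,4,1,2,3,5,4,3,2,7,3,4,1,2,3,7,5,4,3,8,7,3,4,2,3,7,5,4,3,2,8,1,2,3,4,2,7,3,2,8,7,3,1,2,4,3,7,5,4,3,7,2,3,4,7,8,7,3,2,5,1,2,3,7,4,3,5,4,8,2,1,3,7,8,3,2,1,3,4,5,3,7,3,2,1,3,4,3,2]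

/-- moves -/
def mv18 : List (ℕ × ℕ × ℕ) := [(161,2,4),(162,2,3),(160,3,4),(159,7,4),(158,8,4),(157,1,4),(156,2,4),(154,4,3),(153,5,3),(151,3,2),(150,7,2),(148,2,1),(147,3,1),(146,4,1),(145,8,1),(144,7,1),(143,3,1),(141,1,2),(140,7,2),(139,8,2),(137,2,3),(135,3,7),(134,4,7),(133,5,7),(146,8,4),(145,7,4),(147,8,3),(150,1,7),(149,2,7),(158,1,8),(157,2,8),(156,3,8),(155,4,8),(154,5,8),(153,2,8),(152,3,8),(151,1,8),(150,2,8),(148,8,7),(146,7,3),(144,3,4),(143,2,4),(142,1,4),(141,7,4),(140,8,4),(150,7,2),(149,8,2),(152,1,3),(159,1,7),(158,2,7),(160,1,3),(162,4,2),(168,4,1),(167,3,1),(166,7,1),(165,8,1),(164,3,1),(163,4,1),(161,1,2),(159,2,3),(157,3,7),(156,4,7),(155,5,7),(154,2,7),(153,1,7),(151,7,3),(150,8,3),(148,3,2),(147,7,2),(146,4,2),(144,2,3),(143,1,3),(147,4,7),(170,2,5),(171,2,4),(169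,4,5),(168,3,5),(167,7,5),(166,8,5),(165,3,5),(172,2,3),(171,5,3),(169,3,4),(168,7,4),(167,8,4),(175,1,7),(176,1,3),(174,3,7),(173,2,7),(172,5,7),(171,4,7),(169,7,3),(168,8,3),(166,3,4),(164,4,5),(163,2,5),(162,1,5),(161,3,5),(160,2,5),(159,7,5),(158,3,5),(156,5,4),(155,2,4),(154,1,4),(164,2,4),(163,1,4),(166,5,3),(173,5,2),(172,4,2),(174,5,3),(178,2,4),(177,1,4),(176,7,4),(181,7,5),(180,3,5),(179,2,5),(178,1,5),(177,7,5),(175,5,4),(173,4,3),(171,3,2),(170,7,2),(169,8,2),(168,4,2),(167,5,2),(165,2,3),(164,1,3),(162,3,4),(161,2,4),(160,7,4),(158,4,3),(157,5,3),(161,7,2),(185,2,8),(184,3,8),(183,4,8),(186,2,7),(190,5,2),(189,4,2),(187,2,3),(185,3,7),(184,4,7),(182,7,8),(181,3,8),(180,2,8),(179,1,8),(191,5,3),(189,3,4),(188,2,4),(187,7,4),(185,4,3),(184,8,3),(182,3,7),(181,2,7),(180,1,7),(178,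7,8),(177,4,8),(176,5,8),(175,3,8),(174,4,8),(173,2,8),(172,3,8),(170,8,7),(169,4,7),(168,5,7),(178,4,7),(177,5,7),(188,7,2),(193,4,7),(192,5,7),(191,4,7),(189,7,3),(187,3,2),(186,4,2),(185,8,2),(184,7,2),(182,2,3),(181,1,3),(180,8,3),(186,8,4),(185,7,4),(187,8,3),(189,2,7),(195,3,8),(194,4,8),(193,5,8),(192,4,8),(191,3,8),(190,2,8),(188,8,7),(186,7,3),(184,3,4),(183,2,4),(182,1,4),(181,8,4),(179,4,3),(178,5,3),(176,3,7),(175,4,7),(174,2,7),(172,7,3),(171,8,3),(175,2,4),(196,3,1),(195,4,1),(194,5,1),(193,4,1),(192,3,1),(197,3,2),(196,4,2),(195,5,2),(194,4,2),(199,2,4),(197,4,3),(196,5,3),(200,2,5),(199,3,5),(197,5,4),(195,4,3),(193,3,2),(191,2,1),(190,7,1),(189,8,1),(188,3,1),(187,7,1),(186,4,1),(185,3,1),(183,1,2),(182,8,2),(191,7,2),(190,8,2),(193,1,3),(201,2,7),(202,2,3),(200,3,7),(199,4,7),(198,5,7),(204,3,4),(203,2,4),(202,7,4),(200,4,3),(199,5,3),(197,3,7),(196,4,7),(195,2,7),(194,1,7),(192,7,3),(191,8,3),(189,3,2),(188,7,2)]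

theorem step18 : reduces 10 adj mv18 (mid17) (mid18) 0 = true := by decide +kernel

/-- intermediate word -/
def mid19 : List ℕ := [3,2,1,3,4,5,3,7,8,3,2,1,3,4,5,3,7,8,3,2,1,3,4,5,3,7,8,3,2,1,3,4,5,3,7,8,3,2,1,3,4,5,3,7,8,3,2,1,3,4,5,3,7,8,3,2,1,3,4,5,3,7,8,3,2,1,3,4,5,3,7,8,3,2,1,3,4,5,3,7,8,3,2,1,3,4,5,3,7,8,3,1,3,2,1,3,4,5,3,7,8,3,2,1,4,2,1,3,2,5,4,3,7,3,4,2,3,1,2,7,8,7,3,2,1,4,3,2,7,3,5,4,7,3,7,2,3,4,1,2,3,7,8,7,3,2,1,4,3,2,7,3,5,4,3,7,2,3,4,1,2,3,7,5,4,3,8,7,3,4,2,1,3,2,7,3,5,4,3,7,2,3,1,2,8,7,3,2,1,4,3,7,5,4,3,7,2,3,4,7,8,7,3,2,5,1,2,3,7,4,3,5,4,8,2,1,3,7,8,3,2,1,3,4,5,3,7,3,2,1,3,4,3,2]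

/-- moves -/
def mv19 : List (ℕ × ℕ × ℕ) := [(187,4,2),(185,2,3),(184,1,3),(183,8,3),(181,3,2),(180,4,2),(179,5,2),(178,7,2),(176,2,3),(174,3,4),(173,7,4),(172,8,4),(170,4,3),(169,5,3),(167,3,7),(166,2,7),(165,1,7),(164,4,7),(162,7,3),(160,3,2),(159,4,2),(158,5,2),(156,2,3),(155,1,3),(153,3,4),(152,7,4),(151,8,4),(150,2,4),(148,4,3),(146,3,7),(145,2,7),(144,1,7),(142,7,3),(141,8,3),(139,3,4),(138,2,4),(137,7,4),(135,4,3),(134,5,3),(132,3,7),(131,4,7),(130,2,7),(128,7,3),(127,8,3),(125,3,7),(124,2,7),(123,1,7),(122,4,7),(120,7,3),(118,3,4),(117,2,4),(116,1,4),(114,4,3),(113,5,3),(111,3,7),(110,4,7),(109,2,7),(108,7,7),(111,7,5),(110,3,5),(112,7,4),(118,4,7),(119,4,3),(117,3,7),(116,2,7),(115,1,7),(113,7,3),(111,3,4),(109,4,5),(108,2,5),(107,3,5),(106,5,5),(107,2,4),(109,5,3),(119,3,1),(118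,4,1),(117,7,1),(116,3,1),(114,1,2),(120,3,2),(119,4,2),(118,7,2),(116,2,3),(115,1,3),(113,3,2),(112,7,2),(111,4,2),(110,5,2),(108,2,3),(106,3,4),(105,4,4),(104,3,3),(111,2,1),(110,3,1),(109,7,1),(108,4,1),(107,5,1),(106,3,1),(113,1,3),(111,3,2),(110,7,2),(109,4,2),(108,5,2),(114,1,7),(113,2,7),(111,7,3),(115,1,4),(114,2,4),(116,1,3),(136,3,1),(135,7,1),(134,8,1),(133,4,1),(132,3,1),(137,3,2),(136,7,2),(135,8,2),(134,4,2),(139,2,7),(137,7,3),(136,8,3),(140,2,4),(141,2,3),(139,3,4),(138,7,4),(137,8,4),(135,4,3),(133,3,2),(131,2,1),(130,7,1),(129,3,1),(128,4,1),(127,5,1),(126,7,1),(125,3,1),(124,4,1),(131,7,2),(133,1,3),(143,3,8),(142,2,8),(141,4,8),(140,3,8),(138,8,7),(144,3,7),(143,2,7),(142,4,7),(140,7,3),(139,8,3),(137,3,7),(136,4,7),(135,2,7),(134,1,7),(132,7,3),(130,3,2),(129,4,2),(128,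5,2),(127,7,2),(136,2,4),(135,1,4),(143,4,2),(146,7,4),(144,4,3),(142,3,2),(141,7,2),(140,8,2),(139,7,2),(137,2,3),(136,1,3),(134,3,4),(133,7,4),(132,2,4),(130,4,3),(129,5,3),(133,2,7),(147,7,1),(146,3,1),(145,4,1),(148,7,2),(154,2,7),(176,8,1),(177,8,2),(175,2,1),(174,3,1),(173,4,1),(172,5,1),(171,7,1),(170,3,1),(178,8,3),(177,1,3),(175,3,2),(174,4,2),(173,5,2),(172,7,2),(179,8,4),(178,1,4),(177,2,4),(175,4,3),(174,5,3),(183,2,8),(182,3,8),(180,8,7),(179,1,7),(178,2,7),(184,2,7),(182,7,3),(181,8,3),(180,1,3),(184,3,2),(183,7,2),(182,8,2),(186,2,1),(185,3,1),(184,7,1),(183,8,1),(181,1,2),(179,2,3),(177,3,7),(176,4,7),(175,5,7),(173,7,3),(171,3,2),(169,2,1),(168,4,1),(167,3,1),(166,7,1),(165,8,1),(164,3,1),(163,4,1),(162,5,1),(161,7,1),(160,3,1),(158,1,2),(157,4,2),(155,2,3),(153,3,7),(152,4,7),(151,5,7),(149,7,3),(147,3,2),(146,4,2),(144,2,1),(143,3,1),(142,7,1),(141,8,1),(140,7,1),(139,3,1),(137,1,2),(136,4,2),(134,2,3),(132,3,7)]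

theorem step19 : reduces 10 adj mv19 (mid18) (mid19) 4 = true := by decide +kernel

/-- intermediate word -/
def mid20 : List ℕ := [3,2,1,3,4,5,3,7,8,3,2,1,3,4,5,3,7,8,3,2,1,3,4,5,3,7,8,3,2,1,3,4,5,3,7,8,3,2,1,3,4,5,3,7,8,3,2,1,3,4,5,3,7,8,3,2,1,3,4,5,3,7,8,3,2,1,3,4,5,3,7,8,3,2,1,3,4,5,3,7,8,3,2,1,3,4,5,3,7,8,3,1,3,2,1,3,4,5,3,7,3,8,7,4,1,3,7,8,2,3,7,5,4,3,7,2,3,4,8,7,3,1,2,3,7,4,3,5,4,3,7,2,3,4,5,1,2,3,4,7,3,8,7,3,4,2,3,7,8,1,2,3,7,5,4,3,7,2,3,4,8,7,3,1,2,3,7,4,5,4,3,7,4,2,3,4,1,2,3,7,8,7,3,2,1,4,3,7,5,4,3,7,2,3,4,7,8,7,3,2,5,1,2,3,7,4,3,5,4,8,2,1,3,7,8,3,2,1,3,4,5,3,7,3,2,1,3,4,3,2]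

/-- moves -/
def mv20 : List (ℕ × ℕ × ℕ) := [(131,4,7),(130,5,7),(128,7,3),(126,3,2),(125,4,2),(123,2,1),(122,3,1),(121,7,1),(120,8,1),(119,7,1),(117,1,2),(115,2,3),(113,3,4),(112,7,4),(110,4,3),(109,5,3),(107,3,2),(105,2,1),(104,4,1),(103,1,1),(103,4,2),(102,2,2),(100,8,3),(108,3,7),(107,4,7),(106,5,7),(105,2,7),(110,7,4),(108,4,3),(107,5,3),(111,7,2),(115,2,7),(114,1,7),(112,7,3),(110,3,2),(109,4,2),(108,5,2),(106,2,3),(104,3,7),(103,1,7),(102,4,7),(116,2,8),(115,1,8),(114,3,8),(117,2,7),(116,1,7),(118,2,3),(117,1,3),(115,3,7),(113,7,8),(112,2,8),(111,3,8),(110,4,8),(109,5,8),(108,3,8),(107,2,8),(113,2,7),(115,8,3),(120,3,1),(118,1,2),(117,7,2),(116,8,2),(114,2,3),(112,3,7),(111,4,7),(110,5,7),(121,3,4),(120,2,4),(119,1,4),(118,7,4),(117,8,4),(123,4,2),(121,2,3),(120,1,3),(124,4,7),(147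,3,5),(146,7,5),(145,2,5),(144,3,5),(148,3,4),(147,7,4),(146,2,4),(150,4,7),(148,7,3),(151,4,2),(152,4,3),(150,3,2),(149,7,2),(147,2,3),(145,3,4),(143,4,5),(142,1,5),(141,2,5),(140,3,5),(139,7,5),(138,8,5),(137,7,5),(136,3,5),(135,2,5),(134,1,5),(143,1,4),(142,2,4),(145,5,3),(144,1,3),(147,4,2),(146,5,2),(154,3,1),(153,4,1),(155,3,2),(154,4,2),(152,2,1),(151,3,1),(150,7,1),(149,3,1),(148,4,1),(147,5,1),(145,1,2),(143,2,3),(141,3,4),(140,7,4),(139,8,4),(138,7,4),(150,3,7),(149,4,7),(148,5,7),(147,2,7),(146,1,7),(154,1,4),(153,2,4),(152,7,4),(150,4,3),(149,5,3),(153,7,2),(155,1,3),(157,2,7),(156,1,7),(154,7,3),(152,3,2),(151,4,2),(150,5,2),(148,2,3),(147,1,3),(145,3,7),(144,2,7),(143,4,7),(141,7,3),(140,8,3),(161,3,8),(160,4,8),(159,5,8),(158,2,8),(157,1,8),(156,3,8),(162,3,7),(161,4,7),(160,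5,7),(159,2,7),(158,1,7),(164,7,4),(162,4,3),(161,5,3),(165,7,2),(167,1,3),(169,2,7),(168,1,7),(166,7,3),(164,3,2),(163,4,2),(162,5,2),(160,2,3),(159,1,3),(157,3,7),(155,7,8),(154,2,8),(153,3,8),(152,4,8),(151,5,8),(150,3,8),(149,2,8),(148,1,8),(155,2,7),(157,8,3),(168,3,1),(167,7,1),(169,3,2),(168,7,2),(166,2,1),(165,3,1),(164,4,1),(163,5,1),(162,3,1),(160,1,2),(159,7,2),(158,8,2),(156,2,3),(154,3,7),(153,4,7),(152,5,7),(171,2,5),(170,3,5),(169,7,5),(168,1,5),(167,2,5),(166,3,5),(164,5,4),(172,2,4),(175,7,2),(173,2,3),(171,3,4),(170,7,4),(169,1,4),(168,2,4),(166,4,3),(165,5,3),(163,3,4),(162,2,4),(161,1,4),(160,7,4),(159,8,4),(175,3,7),(174,2,7),(173,4,7),(171,7,3),(170,1,3),(168,3,2),(167,4,2),(166,5,2),(165,4,2),(163,2,3),(162,1,3),(171,1,7),(170,2,7),(172,1,3),(174,4,2),(177,7,1),(176,3,1),(175,4,1),(173,1,2),(171,2,3),(169,3,7),(168,4,7),(167,5,7),(166,4,7),(175,2,4),(174,1,4),(178,7,2),(176,2,3),(175,1,3),(173,3,4),(172,2,4)]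

theorem step20 : reduces 10 adj mv20 (mid19) (mid20) 2 = true := by decide +kernel

/-- intermediate word -/
def mid21 : List ℕ := [3,2,1,3,4,5,3,7,8,3,2,1,3,4,5,3,7,8,3,2,1,3,4,5,3,7,8,3,2,1,3,4,5,3,7,8,3,2,1,3,4,5,3,7,8,3,2,1,3,4,5,3,7,8,3,2,1,3,4,5,3,7,8,3,2,1,3,4,5,3,7,8,3,2,1,3,4,5,3,7,8,3,2,1,3,4,5,3,7,8,3,1,3,2,1,3,4,5,7,3,8,7,4,5,1,3,7,8,4,2,3,4,7,3,2,3,4,8,7,3,1,2,3,7,4,3,5,4,3,7,2,3,4,5,1,2,3,4,7,3,8,7,3,4,2,3,7,8,1,2,3,7,5,4,3,7,2,3,4,8,7,3,1,2,3,7,4,3,5,4,3,7,2,3,4,5,1,2,3,4,7,3,8,7,3,4,2,3,7,8,1,2,3,7,5,4,3,7,2,3,4,1,2,3,8,7,3,2,5,4,3,2,7,3,4,1,2,3,8,4,5,7,3,2,1,4,3,2]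

/-- moves -/
def mv21 : List (ℕ × ℕ × ℕ) := [(171,7,4),(169,4,3),(168,5,3),(187,7,5),(186,3,5),(188,7,4),(189,7,3),(187,3,4),(185,4,5),(184,1,5),(183,2,5),(182,3,5),(181,7,5),(180,8,5),(179,7,5),(178,3,5),(177,2,5),(176,1,5),(185,1,4),(184,2,4),(187,5,3),(186,1,3),(191,3,2),(190,7,2),(189,4,2),(188,5,2),(200,5,1),(201,5,2),(199,2,1),(198,3,1),(197,7,1),(196,8,1),(195,7,1),(194,4,1),(202,5,3),(201,1,3),(199,3,2),(198,7,2),(197,8,2),(196,7,2),(195,4,2),(193,2,1),(192,3,1),(191,7,1),(190,4,1),(189,5,1),(187,1,2),(185,2,3),(183,3,4),(182,7,4),(181,8,4),(180,7,4),(191,4,7),(190,5,7),(189,2,7),(188,1,7),(195,1,4),(194,2,4),(192,4,3),(191,5,3),(203,5,7),(202,1,7),(201,2,7),(199,7,3),(198,8,3),(208,4,8),(207,5,8),(206,3,8),(205,4,8),(204,5,8),(203,1,8),(202,2,8),(201,3,8),(199,8,7),(197,7,3),(196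,1,3),(194,3,2),(193,4,2),(192,5,2),(190,2,3),(189,1,3),(187,3,7),(186,2,7),(185,4,7),(183,7,3),(182,8,3),(199,3,8),(200,3,7),(198,7,8),(197,1,8),(196,2,8),(195,3,8),(194,4,8),(193,5,8),(192,3,8),(191,2,8),(190,1,8),(198,1,7),(197,2,7),(200,8,3),(199,1,3),(202,7,2),(201,8,2),(203,7,1),(202,8,1),(200,1,2),(198,2,3),(196,3,7),(195,4,7),(194,5,7),(207,3,5),(205,5,4),(204,7,4),(203,8,4),(202,2,4),(201,1,4),(207,4,3),(206,5,3),(214,8,3),(212,3,7),(211,1,7),(210,2,7),(212,1,3),(215,8,2),(214,7,2),(216,8,1),(215,7,1),(213,1,2),(211,2,3),(209,3,7),(208,4,7),(207,5,7),(205,7,3),(204,8,3),(211,7,2),(215,2,7),(214,1,7),(212,7,3),(210,3,2),(209,4,2),(208,5,2),(220,5,3),(218,3,4),(217,8,4),(216,2,4),(215,1,4),(218,8,3),(225,1,3),(223,3,2),(222,7,2),(221,5,2),(220,4,2),(219,8,2),(217,2,3),(216,1,3),(214,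3,4),(213,7,4),(212,2,4),(210,4,3),(209,5,3),(207,3,2),(206,7,2),(205,8,2),(203,2,3),(202,1,3),(200,3,4),(199,2,4),(198,7,4),(196,4,3),(195,5,3),(193,3,7),(192,2,7),(191,1,7),(189,7,8),(188,3,8),(187,2,8),(186,4,8),(185,3,8),(183,8,7),(181,7,3),(179,3,4),(178,2,4),(177,1,4),(175,4,5),(174,3,5),(173,2,5),(172,7,5),(171,3,5),(169,5,4),(167,4,3),(165,3,7),(164,2,7),(163,1,7),(161,7,3),(160,8,3),(158,3,4),(157,2,4),(156,7,4),(154,4,3),(153,5,3),(151,3,7),(150,2,7),(149,1,7),(147,7,8),(146,3,8),(145,2,8),(144,4,8),(143,3,8),(141,8,7),(139,7,3),(137,3,4),(136,2,4),(135,1,4),(133,4,5),(132,3,5),(131,2,5),(130,7,5),(129,3,5),(127,5,4),(125,4,3),(123,3,7),(122,2,7),(121,1,7),(119,7,3),(118,8,3),(116,3,4),(115,2,4),(114,7,4),(112,4,3),(111,5,3),(109,3,7),(108,2,7),(106,7,8),(105,3,8),(104,1,8),(103,4,8),(101,8,7),(99,7,3),(98,3,3),(109,7,5),(108,3,5),(107,2,5),(106,8,5),(105,7,5),(104,3,5),(103,1,5),(110,7,4),(111,7,3),(109,3,4),(108,2,4)]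

theorem step21 : reduces 10 adj mv21 (mid20) (mid21) 1 = true := by decide +kernel

/-- intermediate word -/
def mid22 : List ℕ := [3,2,1,3,4,5,3,7,8,3,2,1,3,4,5,3,7,8,3,2,1,3,4,5,3,7,8,3,2,1,3,4,5,3,7,8,3,2,1,3,4,5,3,7,8,3,2,1,3,4,5,3,7,8,3,2,1,3,4,5,3,7,8,3,2,1,3,4,5,3,7,8,3,2,1,3,4,5,3,7,8,3,2,1,3,4,5,3,7,8,3,1,3,2,7,3,2,4,3,8,7,3,2,5,4,3,7,2,3,4,8,7,3,1,2,3,5,7,4,5,3,4,7,2,1,3,2,4,3,5,4,7,3,8,7,3,4,5,2,3,4,7,3,8,7,1,2,3,7,8,4,3,7,2,3,1,2,3,7,4,3,5,4,3,7,2,1,3,2,4,3,5,4,7,3,8,7,3,4,5,2,3,4,7,3,8,7,1,2,3,7,8,4,3,7,2,3,1,2,3,7,5,4,3,2,1,7,3,2,4,3,8,5,7,3,2,1,4,3,2]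

/-- moves -/
def mv22 : List (ℕ × ℕ × ℕ) := [(107,8,4),(106,7,4),(113,3,2),(112,7,2),(111,4,2),(109,2,3),(108,8,3),(112,4,7),(115,2,4),(113,4,3),(111,3,7),(110,2,7),(116,2,8),(115,3,8),(114,4,8),(117,2,7),(133,5,1),(132,4,1),(131,3,1),(134,5,2),(133,4,2),(135,5,3),(151,7,5),(150,3,5),(149,2,5),(148,1,5),(147,8,5),(146,7,5),(145,3,5),(144,2,5),(152,7,4),(153,7,3),(151,3,4),(150,2,4),(149,1,4),(148,8,4),(147,7,4),(155,3,2),(154,7,2),(153,4,2),(151,2,3),(150,1,3),(149,8,3),(154,4,7),(157,2,4),(155,4,3),(153,3,7),(152,2,7),(151,1,7),(158,2,8),(157,3,8),(156,4,8),(159,2,7),(175,5,1),(174,4,1),(173,3,1),(176,5,2),(175,4,2),(177,5,3),(193,7,5),(192,3,5),(191,2,5),(190,1,5),(189,8,5),(188,7,5),(187,3,5),(186,2,5),(194,7,4),(195,7,3),(193,3,4),(192,2,4),(191,1,4),(190,8,4),(189,7,4),(197,3,2),(196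,7,2),(195,4,2),(193,2,3),(192,1,3),(191,8,3),(196,4,7),(199,2,4),(197,4,3),(195,3,7),(194,2,7),(193,1,7),(203,3,8),(202,2,8),(201,1,8),(200,2,8),(199,3,8),(198,4,8),(204,3,7),(203,2,7),(202,1,7),(201,2,7),(206,7,2),(204,2,3),(203,1,3),(214,4,1),(213,3,1),(212,7,1),(215,4,2),(218,8,4),(216,4,3),(214,3,2),(213,7,2),(211,2,1),(210,3,1),(209,4,1),(208,5,1),(207,7,1),(206,3,1),(204,1,2),(202,2,3),(200,3,7),(199,4,7),(197,7,8),(196,3,8),(195,2,8),(194,1,8),(192,8,7),(190,7,3),(188,3,4),(187,2,4),(185,4,5),(184,3,5),(183,7,5),(182,8,5),(181,3,5),(180,7,5),(178,5,4),(176,4,3),(174,3,2),(172,2,1),(171,7,1),(170,3,1),(169,4,1),(168,5,1),(167,3,1),(166,4,1),(165,7,1),(164,3,1),(162,1,2),(160,2,3),(158,3,7),(157,4,7),(155,7,8),(154,3,8),(153,2,8),(152,1,8),(150,8,7),(148,7,3),(146,3,4),(145,2,4),(143,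4,5),(142,3,5),(141,7,5),(140,8,5),(139,3,5),(138,7,5),(136,5,4),(134,4,3),(132,3,2),(130,2,1),(129,7,1),(128,3,1),(127,4,1),(126,5,1),(125,3,1),(124,4,1),(123,7,1),(122,3,1),(120,1,2),(118,2,3),(116,3,7),(115,4,7),(113,7,8),(112,3,8),(111,2,8),(109,8,7),(107,7,3),(105,3,4),(104,1,4),(102,4,5),(101,7,5),(100,8,5),(99,3,5),(98,7,5),(97,5,5),(100,7,4),(99,8,4),(103,1,3),(102,5,3),(105,4,7),(104,1,7),(103,5,7),(101,7,3),(100,8,3),(98,3,4),(97,7,4),(96,4,4),(105,3,8),(104,4,8),(103,1,8),(102,5,8),(101,3,8),(99,8,7),(98,4,7),(96,7,3),(95,3,3),(101,5,1),(100,3,1),(99,7,1),(98,8,1),(97,4,1),(96,3,1),(95,7,1),(94,1,1),(103,7,2),(104,7,3),(102,3,2),(101,4,2),(100,5,2),(107,8,4),(108,8,3),(106,3,4),(105,7,4),(104,2,4),(102,4,3),(101,5,3),(99,3,2),(98,7,2),(97,8,2),(96,4,2),(105,2,7),(110,7,2),(109,8,2),(108,4,2),(106,2,3),(104,3,7),(103,4,7),(102,5,7),(101,2,7),(99,7,3),(98,8,3),(118,3,5),(119,3,4),(117,4,5),(116,7,5)]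

theorem step22 : reduces 10 adj mv22 (mid21) (mid22) 4 = true := by decide +kernel

/-- intermediate word -/
def mid23 : List ℕ := [3,2,1,3,4,5,3,7,8,3,2,1,3,4,5,3,7,8,3,2,1,3,4,5,3,7,8,3,2,1,3,4,5,3,7,8,3,2,1,3,4,5,3,7,8,3,2,1,3,4,5,3,7,8,3,2,1,3,4,5,3,7,8,3,2,1,3,4,5,3,7,8,3,2,1,3,4,5,3,7,8,3,2,1,3,4,5,3,7,8,3,1,3,2,7,3,2,4,3,8,7,3,4,2,3,5,4,3,2,7,3,4,5,8,7,3,4,1,2,3,7,8,4,3,7,2,3,5,4,3,2,7,3,1,2,3,7,4,3,2,1,8,7,3,4,2,3,5,4,3,2,7,3,4,5,8,7,3,4,1,2,3,7,8,4,3,2,5,4,3,7,1,3,2,3,7,4,3,2,8,7,3,5,4,3,8,7,1,2,3,7,8,4,3,7,2,3,1,2,3,7,5,4,3,2,1,7,3,2,4,3,8,5,7,3,2,1,4,3,2]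

/-- moves -/
def mv23 : List (ℕ × ℕ × ℕ) := [(115,3,5),(114,2,5),(113,1,5),(112,3,5),(111,7,5),(110,8,5),(117,7,4),(119,5,3),(121,4,7),(120,5,7),(118,7,3),(116,3,4),(115,2,4),(114,1,4),(122,4,2),(121,5,2),(124,1,3),(126,2,4),(125,1,4),(123,4,3),(122,5,3),(120,3,2),(119,7,2),(118,4,2),(116,2,3),(115,1,3),(113,3,4),(112,7,4),(111,8,4),(109,4,5),(108,3,5),(107,2,5),(106,7,5),(105,3,5),(103,5,4),(102,2,4),(119,4,7),(128,3,5),(127,2,5),(126,1,5),(125,3,5),(123,5,4),(122,2,4),(120,4,3),(118,3,7),(117,2,7),(116,1,7),(115,4,7),(113,7,3),(112,8,3),(111,5,3),(109,3,4),(108,2,4),(107,7,4),(105,4,3),(104,5,3),(108,7,2),(132,3,8),(133,3,7),(131,7,8),(130,4,8),(129,3,8),(128,2,8),(127,1,8),(126,3,8),(125,4,8),(124,5,8),(123,2,8),(122,3,8),(121,4,8),(131,4,7),(133,8,3),(135,7,4),(134,8,4),(132,4,3),(130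,3,7),(129,2,7),(128,1,7),(137,5,2),(136,7,2),(135,8,2),(138,5,3),(140,4,7),(139,5,7),(137,7,3),(136,8,3),(134,3,2),(133,4,2),(132,7,2),(130,2,3),(129,1,3),(127,3,7),(126,4,7),(125,5,7),(124,2,7),(133,7,4),(142,3,8),(141,4,8),(140,5,8),(139,3,8),(137,8,7),(136,2,7),(134,7,3),(132,3,4),(131,2,4),(130,1,4),(129,7,4),(127,4,3),(126,5,3),(144,7,1),(143,3,1),(142,4,1),(141,5,1),(140,3,1),(139,7,1),(138,8,1),(145,7,2),(146,7,3),(144,3,2),(143,4,2),(142,5,2),(149,8,4),(150,8,3),(148,3,4),(147,7,4),(146,2,4),(144,4,3),(143,5,3),(141,3,2),(140,7,2),(139,8,2),(137,2,1),(136,3,1),(135,7,1),(134,4,1),(133,3,1),(131,1,2),(130,7,2),(147,2,7),(152,7,2),(151,8,2),(150,4,2),(148,2,3),(146,3,7),(145,4,7),(144,5,7),(143,2,7),(141,7,3),(140,8,3),(139,1,3),(137,3,2),(136,7,2),(135,4,2),(133,2,3),(132,1,3),(136,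4,7),(160,3,5),(161,3,4),(159,4,5),(158,7,5),(157,3,5),(156,2,5),(155,1,5),(154,3,5),(153,7,5),(152,8,5),(159,7,4),(161,5,3),(163,4,7),(162,5,7),(160,7,3),(158,3,4),(157,2,4),(156,1,4),(164,4,2),(163,5,2),(166,1,3),(168,2,4),(167,1,4),(165,4,3),(164,5,3),(162,3,2),(161,7,2),(160,4,2),(158,2,3),(157,1,3),(155,3,4),(154,7,4),(153,8,4),(151,4,5),(150,3,5),(149,2,5),(148,7,5),(147,3,5),(145,5,4),(144,2,4),(161,4,7),(170,3,5),(169,2,5),(168,1,5),(167,3,5),(165,5,4),(164,2,4),(162,4,3),(160,3,7),(159,2,7),(158,1,7),(157,4,7),(155,7,3),(154,8,3),(153,5,3),(151,3,4),(150,2,4),(149,7,4),(147,4,3),(146,5,3),(150,7,2),(174,3,8),(175,3,7),(173,7,8),(172,4,8),(171,3,8),(170,2,8),(169,1,8),(168,3,8),(167,4,8),(166,5,8),(165,2,8),(164,3,8),(163,4,8),(173,4,7),(175,8,3),(177,7,4),(176,8,4),(174,4,3),(172,3,7),(171,2,7),(170,1,7),(179,5,2),(178,7,2),(177,8,2),(180,5,3),(182,4,7),(181,5,7),(179,7,3),(178,8,3),(176,3,2),(175,4,2),(174,7,2),(172,2,3)]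

theorem step23 : reduces 10 adj mv23 (mid22) (mid23) 0 = true := by decide +kernel

/-- intermediate word -/
def mid24 : List ℕ := [3,2,1,3,4,5,3,7,8,3,2,1,3,4,5,3,7,8,3,2,1,3,4,5,3,7,8,3,2,1,3,4,5,3,7,8,3,2,1,3,4,5,3,7,8,3,2,1,3,4,5,3,7,8,3,2,1,3,4,5,3,7,8,3,2,1,3,4,5,3,7,8,3,2,1,3,4,5,3,7,8,3,2,1,3,4,5,8,7,3,1,2,4,5,3,4,7,3,5,2,7,3,7,4,3,5,8,7,3,4,1,2,3,7,8,4,3,7,2,3,5,4,3,2,7,3,1,2,3,7,4,3,2,1,8,7,3,4,2,3,5,4,3,2,7,3,4,5,8,7,3,4,1,2,3,7,8,4,3,7,2,3,5,4,3,2,7,3,1,2,3,7,4,3,2,1,8,7,3,4,2,3,5,4,3,2,7,3,4,5,8,7,3,4,1,2,3,7,8,4,3,7,2,3,1,2,3,7,5,4,3,2]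

/-- moves -/
def mv24 : List (ℕ × ℕ × ℕ) := [(171,1,3),(169,3,7),(168,4,7),(167,5,7),(166,2,7),(175,7,4),(184,3,8),(183,4,8),(182,5,8),(181,3,8),(179,8,7),(178,2,7),(176,7,3),(174,3,4),(173,2,4),(172,1,4),(171,7,4),(169,4,3),(168,5,3),(186,7,1),(185,3,1),(184,4,1),(183,5,1),(182,3,1),(181,7,1),(180,8,1),(187,7,2),(188,7,3),(186,3,2),(185,4,2),(184,5,2),(191,8,4),(192,8,3),(190,3,4),(189,7,4),(188,2,4),(186,4,3),(185,5,3),(183,3,2),(182,7,2),(181,8,2),(179,2,1),(178,3,1),(177,7,1),(176,4,1),(175,3,1),(173,1,2),(172,7,2),(189,2,7),(194,7,2),(193,8,2),(192,4,2),(190,2,3),(188,3,7),(187,4,7),(186,5,7),(185,2,7),(183,7,3),(182,8,3),(181,1,3),(179,3,2),(178,7,2),(177,4,2),(175,2,3),(174,1,3),(178,4,7),(200,7,5),(199,3,5),(198,2,5),(197,1,5),(196,3,5),(195,7,5),(194,8,5),(201,7,4),(205,1,7),(204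,2,7),(202,7,3),(200,3,4),(199,2,4),(198,1,4),(206,1,3),(204,3,2),(203,7,2),(202,4,2),(200,2,3),(199,1,3),(197,3,4),(196,7,4),(195,8,4),(193,4,5),(192,3,5),(191,2,5),(190,7,5),(189,3,5),(187,5,4),(186,2,4),(203,4,7),(208,2,4),(207,1,4),(206,2,4),(204,4,3),(202,3,7),(201,2,7),(200,1,7),(199,4,7),(197,7,3),(196,8,3),(195,5,3),(193,3,4),(192,2,4),(191,7,4),(189,4,3),(188,5,3),(192,7,2),(210,3,8),(209,2,8),(208,1,8),(207,2,8),(206,3,8),(205,4,8),(212,5,7),(213,5,3),(211,3,7),(210,2,7),(209,1,7),(208,2,7),(214,5,2),(213,7,2),(211,2,3),(210,1,3),(215,5,1),(214,7,1),(213,3,1),(211,1,2),(209,2,3),(207,3,7),(206,4,7),(204,7,8),(203,3,8),(202,2,8),(201,1,8),(200,4,8),(199,3,8),(197,8,7),(196,5,7),(195,4,7),(193,7,3),(191,3,2),(190,4,2),(189,5,2),(187,2,3),(185,3,4),(184,7,4),(183,8,4),(182,1,4),(181,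2,4),(179,4,3),(177,3,7),(176,2,7),(175,1,7),(173,7,3),(171,3,2),(170,4,2),(169,5,2),(167,2,3),(165,3,7),(164,4,7),(162,7,8),(161,3,8),(160,2,8),(159,1,8),(158,4,8),(157,3,8),(155,8,7),(154,5,7),(153,4,7),(151,7,3),(149,3,2),(148,4,2),(147,5,2),(145,2,3),(143,3,4),(142,7,4),(141,8,4),(140,1,4),(139,2,4),(137,4,3),(135,3,7),(134,2,7),(133,1,7),(131,7,3),(129,3,2),(128,4,2),(127,5,2),(125,2,3),(123,3,7),(122,4,7),(120,7,8),(119,3,8),(118,2,8),(117,1,8),(116,4,8),(115,3,8),(113,8,7),(112,5,7),(111,4,7),(109,7,3),(107,3,2),(106,4,2),(105,5,2),(103,2,3),(101,3,4),(100,7,4),(99,8,4),(97,4,3),(95,3,2),(94,7,2),(93,2,2),(91,1,3),(90,3,3),(90,1,7),(95,3,8),(94,4,8),(93,2,8),(92,3,8),(91,1,8),(89,8,7),(88,7,7),(90,1,3),(94,3,7),(93,4,7),(92,2,7),(91,1,7),(89,7,3),(88,8,3),(87,3,3),(97,3,5),(96,2,5),(98,3,4),(97,2,4),(95,4,5),(94,7,5),(93,3,5),(95,7,4),(100,4,2),(98,2,3),(97,5,3),(101,4,7),(102,4,3),(100,3,7)]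

theorem step24 : reduces 10 adj mv24 (mid23) (mid24) 4 = true := by decide +kernel

/-- intermediate word -/
def mid25 : List ℕ := [3,2,1,3,4,5,3,7,8,3,2,1,3,4,5,3,7,8,3,2,1,3,4,5,3,7,8,3,2,1,3,4,5,3,7,8,3,2,1,3,4,5,3,7,8,3,2,1,3,4,5,3,7,8,3,2,1,3,4,5,3,7,8,3,2,2,3,4,7,3,2,8,7,3,4,1,2,3,7,8,1,2,5,4,3,7,2,3,1,2,4,3,8,7,3,4,2,3,5,4,3,2,7,3,4,5,8,7,3,4,1,2,3,7,8,4,3,7,2,3,5,4,3,2,7,3,1,2,3,7,4,3,2,1,8,7,3,4,2,3,5,4,3,2,7,3,4,5,8,7,3,4,1,2,3,7,8,4,3,7,2,3,1,2,3,7,5,4,3,2]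

/-- moves -/
def mv25 : List (ℕ × ℕ × ℕ) := [(99,2,7),(98,5,7),(96,7,3),(94,3,4),(92,4,5),(91,2,5),(90,1,5),(89,3,5),(88,7,5),(87,8,5),(86,5,5),(90,2,4),(89,1,4),(92,5,3),(97,5,2),(98,5,3),(96,3,2),(95,7,2),(94,4,2),(93,5,2),(91,2,3),(90,1,3),(88,3,4),(87,7,4),(86,8,4),(85,4,4),(93,4,7),(92,5,7),(98,7,4),(100,3,5),(99,7,5),(97,5,4),(96,2,4),(94,4,3),(93,5,3),(91,3,7),(90,2,7),(89,1,7),(88,4,7),(86,7,3),(85,8,3),(84,3,3),(87,4,1),(86,3,1),(85,7,1),(84,8,1),(83,1,1),(86,4,2),(93,2,5),(92,3,5),(90,5,4),(89,7,4),(87,4,3),(85,3,2),(84,7,2),(83,8,2),(82,2,2),(92,2,4),(90,4,3),(89,5,3),(87,3,7),(86,4,7),(85,2,7),(83,7,3),(82,8,3),(81,3,3),(80,8,8),(79,7,7),(78,3,3),(81,7,5),(80,3,5),(82,7,4),(85,2,7),(83,7,3),(81,3,4),(79,4,5),(78,2,5),(77,5,5),(77,2,4),(76,4,4),(77,5,3),(81,3,2),(80,7,2),(79,4,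2),(78,5,2),(76,2,3),(75,3,3),(85,4,1),(84,3,1),(83,7,1),(82,8,1),(86,4,2),(90,8,4),(89,7,4),(87,4,3),(85,3,2),(84,7,2),(83,8,2),(81,2,1),(80,3,1),(79,7,1),(78,4,1),(77,5,1),(76,3,1),(74,1,2),(73,2,2),(89,8,3),(87,3,7),(86,4,7),(85,2,7),(83,7,3),(82,8,3),(81,1,3),(79,3,2),(78,7,2),(77,4,2),(76,5,2),(74,2,3),(73,1,3),(72,3,3),(80,1,8),(79,2,8),(78,3,8),(81,1,7),(80,2,7),(82,1,3),(97,3,1),(96,7,1),(98,3,2),(97,7,2),(95,2,1),(94,3,1),(93,4,1),(92,5,1),(91,3,1),(100,2,7),(98,7,3),(97,1,3),(95,3,2),(94,4,2),(93,5,2),(101,2,4),(102,2,3),(100,3,4),(99,7,4),(98,1,4),(97,2,4),(95,4,3),(94,5,3),(92,3,2),(90,2,1),(89,7,1),(88,8,1),(87,7,1),(86,3,1),(85,4,1),(83,1,2),(81,2,3),(79,3,7),(77,7,8),(76,4,8),(75,5,8),(74,3,8),(73,2,8),(72,1,8),(71,8,8),(75,4,7),(74,5,7),(77,8,3),(83,2,4),(82,1,4),(88,7,2),(8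7,8,2),(86,7,2),(84,2,3),(83,1,3),(81,3,4),(80,2,4),(79,7,4),(78,8,4),(76,4,3),(75,5,3),(73,3,7),(72,2,7),(71,1,7),(70,7,7),(78,7,2),(77,8,2),(88,1,3),(95,1,7),(94,2,7),(96,1,3),(98,4,2),(100,3,1),(99,4,1),(97,1,2),(95,2,3),(93,3,7),(92,4,7),(91,5,7),(90,2,7),(89,1,7),(87,7,3),(86,8,3),(84,3,7),(83,2,7),(82,1,7),(81,4,7),(79,7,3),(78,8,3),(76,3,2),(75,4,2),(74,5,2),(73,7,2),(71,2,3),(70,1,3),(69,3,3),(72,7,5),(71,3,5),(70,2,5),(69,1,5),(68,5,5),(71,7,4),(82,7,8),(81,3,8),(80,2,8),(79,1,8),(78,4,8),(77,3,8),(75,8,7),(74,2,7),(72,7,3),(70,3,4),(69,2,4),(68,1,4),(67,4,4),(82,8,3),(80,3,7),(79,2,7),(78,1,7),(77,4,7),(75,7,3),(74,8,3),(72,3,2),(71,7,2),(70,4,2),(68,2,3),(67,1,3),(66,3,3),(65,1,1)]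

theorem step25 : reduces 10 adj mv25 (mid24) (mid25) 21 = true := by decide +kernel

/-- intermediate word -/
def mid26 : List ℕ := [3,2,1,3,4,5,3,7,8,3,2,1,3,4,5,3,7,8,3,2,1,3,4,5,3,7,8,3,2,1,3,4,5,3,7,8,3,2,1,3,4,5,3,7,8,3,2,1,7,2,1,3,2,4,3,7,5,4,3,2,1,8,5,7,3,2,4,5,3,4,7,3,2,3,8,7,3,4,1,2,3,7,8,4,3,7,2,3,5,4,3,2,7,3,1,2,3,7,4,3,2,1,8,7,3,4,2,3,5,4,3,2,7,3,4,5,8,7,3,4,1,2,3,7,8,4,3,7,2,3,1,2,3,7,5,4,3,2]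

/-- moves -/
def mv26 : List (ℕ × ℕ × ℕ) := [(64,2,2),(63,3,3),(66,2,8),(65,3,8),(67,2,7),(75,8,1),(74,7,1),(73,3,1),(71,1,2),(70,4,2),(68,2,3),(66,3,7),(64,7,8),(63,4,8),(62,8,8),(62,4,7),(61,7,7),(62,8,3),(72,8,2),(71,7,2),(69,2,3),(68,1,3),(66,3,4),(65,2,4),(64,7,4),(63,8,4),(61,4,3),(60,3,3),(71,8,5),(70,7,5),(69,3,5),(68,2,5),(67,1,5),(72,8,4),(71,7,4),(73,8,3),(81,3,8),(80,4,8),(79,2,8),(78,1,8),(77,3,8),(76,2,8),(74,8,7),(72,7,3),(70,3,4),(69,2,4),(68,1,4),(66,4,5),(65,3,5),(64,2,5),(63,7,5),(62,8,5),(61,3,5),(59,5,4),(58,4,4),(74,7,2),(73,8,2),(80,3,7),(79,4,7),(78,2,7),(77,1,7),(75,7,3),(74,8,3),(72,3,2),(71,7,2),(70,4,2),(68,2,3),(67,1,3),(66,5,3),(64,3,4),(63,2,4),(62,7,4),(61,8,4),(59,4,3),(58,5,3),(57,3,3),(65,5,1),(64,4,1),(63,3,1),(66,5,2),(65,4,2),(67,5,3),(83,3,5),(82,2,5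),(84,3,4),(83,2,4),(81,4,5),(80,7,5),(79,3,5),(81,7,4),(86,4,2),(84,2,3),(83,5,3),(87,4,7),(88,4,3),(86,3,7),(85,2,7),(84,5,7),(82,7,3),(80,3,4),(78,4,5),(77,2,5),(76,1,5),(75,3,5),(74,7,5),(73,8,5),(72,2,5),(71,3,5),(70,7,5),(68,5,4),(66,4,3),(64,3,2),(62,2,1),(61,7,1),(60,8,1),(59,3,1),(58,4,1),(57,5,1),(56,1,1),(60,7,2),(59,8,2),(62,1,3),(68,4,7),(67,5,7),(76,2,4),(75,1,4),(78,5,3),(83,5,2),(84,5,3),(82,3,2),(81,7,2),(80,4,2),(79,5,2),(77,2,3),(76,1,3),(74,3,4),(73,7,4),(72,8,4),(71,2,4),(69,4,3),(68,5,3),(66,3,7),(65,4,7),(64,2,7),(63,1,7),(61,7,3),(60,8,3),(58,3,2),(57,4,2),(56,5,2),(55,2,2),(63,2,4),(62,1,4),(79,4,7),(78,5,7),(84,7,4),(86,3,5),(85,7,5),(83,5,4),(82,2,4),(80,4,3),(79,5,3),(77,3,7),(76,2,7),(75,1,7),(74,4,7),(72,7,3),(71,8,3),(69,3,2),(68,4,2),(67,5,2),(66,7,2),(64,2,3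),(63,1,3),(61,3,4),(60,7,4),(59,8,4),(58,2,4),(56,4,3),(55,5,3),(54,3,3),(57,2,8),(56,3,8),(55,4,8),(54,5,8),(53,8,8),(56,2,7),(71,4,1),(70,3,1),(69,7,1),(68,8,1),(72,4,2),(79,2,5),(78,3,5),(76,5,4),(75,7,4),(73,4,3),(71,3,2),(70,7,2),(69,8,2),(67,2,1),(66,3,1),(65,4,1),(64,5,1),(63,7,1),(62,3,1),(60,1,2),(59,4,2),(57,2,3),(55,3,7),(54,4,7),(53,5,7),(52,7,7),(78,2,4),(76,4,3),(75,5,3),(73,3,7),(72,4,7),(71,2,7),(69,7,3),(68,8,3),(67,1,3),(65,3,2),(64,4,2),(63,5,2),(62,7,2),(60,2,3),(59,1,3),(57,3,4),(56,2,4),(55,7,4),(53,4,3),(52,5,3),(51,3,3),(50,5,5),(49,4,4),(48,3,3),(51,4,1),(50,3,1),(52,4,2),(67,7,5),(66,3,5),(68,7,4),(71,2,7),(69,7,3),(67,3,4),(65,4,5),(64,2,5),(63,3,5),(62,7,5)]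

theorem step26 : reduces 10 adj mv26 (mid25) (mid26) 16 = true := by decide +kernel

/-- intermediate word -/
def mid27 : List ℕ := [3,2,1,3,4,5,3,7,8,3,2,1,3,4,5,3,7,8,3,2,1,3,4,5,3,7,8,3,2,1,3,4,5,3,7,8,3,2,1,8,7,1,3,4,2,3,7,5,4,3,2,8,7,3,4,1,2,3,7,5,4,3,2,8,7,3,4,1,2,3,7,8,7,3,1,2,5,4,3,7,2,3,1,2,4,3,8,7,3,4,2,3,5,4,3,2,7,3,4,5,8,7,3,4,1,2,3,7,8,4,3,7,2,3,1,2,3,7,5,4,3,2]

/-- moves -/
def mv27 : List (ℕ × ℕ × ℕ) := [(61,8,5),(60,1,5),(59,2,5),(58,3,5),(56,5,4),(55,7,4),(53,4,3),(51,3,2),(49,2,1),(48,7,1),(47,1,1),(47,7,2),(46,2,2),(47,1,3),(61,2,4),(63,5,3),(67,3,2),(66,7,2),(65,4,2),(64,5,2),(62,2,3),(60,3,4),(59,7,4),(58,8,4),(57,1,4),(56,2,4),(54,4,3),(53,5,3),(51,3,7),(50,4,7),(49,2,7),(48,1,7),(46,7,3),(45,3,3),(56,1,8),(55,2,8),(54,3,8),(53,4,8),(52,5,8),(57,1,7),(56,2,7),(58,1,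3),(60,4,2),(71,4,1),(70,3,1),(69,7,1),(68,8,1),(72,4,2),(76,8,4),(75,7,4),(73,4,3),(71,3,2),(70,7,2),(69,8,2),(67,2,1),(66,3,1),(65,7,1),(64,4,1),(63,5,1),(62,3,1),(61,4,1),(59,1,2),(57,2,3),(55,3,7),(54,4,7),(53,5,7),(51,7,8),(50,3,8),(49,4,8),(48,2,8),(47,1,8),(46,3,8),(44,8,7),(43,7,7),(59,2,4),(58,1,4),(75,8,3),(73,3,7),(72,4,7),(71,2,7),(69,7,3),(68,8,3),(67,1,3),(65,3,2),(64,7,2),(63,4,2),(62,5,2),(60,2,3),(59,1,3),(57,3,4),(56,2,4),(55,7,4),(53,4,3),(52,5,3),(51,8,3),(49,3,7),(48,4,7),(47,2,7),(46,1,7),(44,7,3),(43,8,3),(42,3,3),(50,8,5),(49,7,5),(48,3,5),(51,8,4),(50,7,4),(52,8,3),(66,1,8),(65,2,8),(64,3,8),(67,1,7),(66,2,7),(68,1,3),(83,3,1),(82,7,1),(84,3,2),(83,7,2),(81,2,1),(80,3,1),(79,4,1),(78,5,1),(77,3,1),(86,2,7),(84,7,3),(83,1,3),(81,3,2),(80,4,2),(79,5,2),(87,2,4),(88,2,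3),(86,3,4),(85,7,4),(84,1,4),(83,2,4),(81,4,3),(80,5,3),(78,3,2),(76,2,1),(75,7,1),(74,8,1),(73,7,1),(72,3,1),(71,4,1),(69,1,2),(67,2,3),(65,3,7),(63,7,8),(62,4,8),(61,5,8),(60,3,8),(59,2,8),(58,1,8),(57,4,8),(56,3,8),(55,2,8),(53,8,7),(51,7,3),(49,3,4),(47,4,5),(46,2,5),(45,1,5),(44,3,5),(43,7,5),(42,8,5),(41,5,5),(45,2,4),(44,1,4),(47,5,3),(53,7,2),(52,8,2),(61,4,7),(60,5,7),(63,8,3),(69,2,4),(68,1,4),(74,7,2),(73,8,2),(72,7,2),(70,2,3),(69,1,3),(67,3,4),(66,2,4),(65,7,4),(64,8,4),(62,4,3),(61,5,3),(59,3,7),(58,2,7),(57,1,7),(56,4,7),(54,7,3),(53,8,3),(51,3,2),(50,7,2),(49,4,2),(48,5,2),(46,2,3),(45,1,3),(43,3,4),(42,7,4),(41,8,4),(40,4,4),(48,4,7),(47,5,7),(64,7,2),(63,8,2),(74,1,3),(81,1,7),(80,2,7),(82,1,3),(84,4,2),(86,3,1),(85,4,1),(83,1,2),(81,2,3),(79,3,7),(78,4,7),(77,5,7),(76,2,7),(75,1,7),(73,7,3),(72,8,3),(70,3,7),(69,2,7),(68,1,7),(67,4,7),(65,7,3),(64,8,3),(62,3,2),(61,4,2),(60,5,2),(59,7,2),(57,2,3),(56,1,3),(54,3,4),(53,7,4),(52,8,4),(51,2,4),(49,4,3),(48,5,3),(46,3,7),(45,2,7),(44,1,7),(43,4,7),(41,7,3),(40,8,3),(39,3,3),(42,4,1),(41,3,1)]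

theorem step27 : reduces 10 adj mv27 (mid26) (mid27) 8 = true := by decide +kernel

/-- intermediate word -/
def mid28 : List ℕ := [3,2,1,3,4,5,3,7,8,3,2,1,3,4,5,3,7,8,3,2,1,3,4,5,3,7,8,1,2,3,5,4,7,8,3,7,2,3,1,2,4,1,3,7,5,4,3,8,7,2,1,3,2,4,3,5,4,7,3,2,8,7,3,1,2,4,5,3,4,7,3,5,2,3,7,4,3,5,8,7,3,4,1,2,3,7,8,4,3,7,2,3,1,2,3,7,5,4,3,2]

/-- moves -/
def mv28 : List (ℕ × ℕ × ℕ) := [(40,7,1),(39,8,1),(38,1,1),(41,4,2),(56,7,5),(55,3,5),(54,2,5),(53,1,5),(57,7,4),(68,7,8),(67,3,8),(66,2,8),(65,1,8),(64,4,8),(63,3,8),(61,8,7),(60,2,7),(58,7,3),(56,3,4),(55,2,4),(54,1,4),(52,4,5),(51,3,5),(50,7,5),(49,8,5),(48,2,5),(47,3,5),(45,5,4),(44,7,4),(42,4,3),(40,3,2),(39,7,2),(38,8,2),(37,2,2),(68,8,3),(66,3,7),(65,2,7),(64,1,7),(63,4,7),(61,7,3),(60,8,3),(58,3,2),(57,7,2),(56,4,2),(54,2,3),(53,1,3),(52,5,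3),(50,3,4),(49,7,4),(48,8,4),(47,2,4),(45,4,3),(44,5,3),(42,3,7),(41,4,7),(40,2,7),(38,7,3),(37,8,3),(36,3,3),(35,8,8),(34,7,7),(33,3,3),(36,7,5),(35,3,5),(37,7,4),(52,2,8),(51,3,8),(53,2,7),(61,8,1),(60,7,1),(59,3,1),(57,1,2),(56,4,2),(54,2,3),(52,3,7),(50,7,8),(49,4,8),(48,3,8),(47,2,8),(46,1,8),(45,5,8),(44,4,8),(43,3,8),(41,8,7),(40,2,7),(38,7,3),(36,3,4),(34,4,5),(33,2,5),(32,5,5),(32,2,4),(31,4,4),(32,5,3),(46,4,7),(48,8,3),(58,8,2),(57,7,2),(55,2,3),(54,1,3),(52,3,4),(51,2,4),(50,7,4),(49,8,4),(47,4,3),(45,3,7),(44,2,7),(43,1,7),(42,5,7),(41,4,7),(39,7,3),(38,8,3),(36,3,2),(35,7,2),(34,4,2),(33,5,2),(31,2,3),(30,3,3),(41,5,1),(40,4,1),(39,3,1),(38,7,1),(37,8,1),(42,5,2),(41,4,2),(43,5,3),(45,7,4),(57,8,5),(56,7,5),(55,3,5),(54,2,5),(53,1,5),(58,8,4),(57,7,4),(59,8,3),(67,3,8),(66,4,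8),(65,2,8),(64,1,8),(63,3,8),(62,2,8),(60,8,7),(58,7,3),(56,3,4),(55,2,4),(54,1,4),(52,4,5),(51,3,5),(50,2,5),(49,7,5),(48,8,5),(47,3,5),(46,7,5),(44,5,4),(42,4,3),(40,3,2),(39,7,2),(38,8,2),(36,2,1),(35,3,1),(34,7,1),(33,4,1),(32,5,1),(31,3,1),(29,1,2),(28,2,2),(44,4,7),(43,5,7),(60,7,2),(59,8,2),(66,3,7),(65,4,7),(64,2,7),(63,1,7),(61,7,3),(60,8,3),(58,3,2),(57,7,2),(56,4,2),(54,2,3),(53,1,3),(52,5,3),(50,3,4),(49,2,4),(48,7,4),(47,8,4),(45,4,3),(44,5,3),(42,3,7),(41,4,7),(40,2,7),(38,7,3),(37,8,3),(36,1,3),(34,3,2),(33,7,2),(32,4,2),(31,5,2),(29,2,3),(28,1,3),(27,3,3),(35,1,8),(34,2,8),(33,3,8),(36,1,7),(35,2,7),(37,1,3),(51,5,1),(50,4,1),(49,3,1),(52,5,2),(51,4,2),(53,5,3),(69,3,5),(68,2,5),(70,3,4),(69,2,4),(67,4,5),(66,7,5),(65,3,5),(67,7,4),(72,4,2),(70,2,3),(69,5,3),(73,4,7),(74,4,3),(72,3,7),(71,2,7),(70,5,7),(68,7,3),(66,3,4),(64,4,5),(63,2,5),(62,1,5),(61,3,5),(60,7,5),(59,8,5),(58,2,5),(57,3,5),(56,7,5),(54,5,4),(52,4,3),(50,3,2),(48,2,1),(47,7,1),(46,8,1),(45,3,1),(44,4,1),(43,5,1),(42,7,1),(41,3,1)]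

theorem step28 : reduces 10 adj mv28 (mid27) (mid28) 11 = true := by decide +kernel

/-- intermediate word -/
def mid29 : List ℕ := [3,2,1,3,4,5,3,7,8,3,2,1,3,4,5,3,4,3,8,7,2,3,4,1,2,3,7,8,5,4,3,2,7,3,1,7,2,4,3,7,5,4,3,2,1,8,7,3,4,2,3,5,4,7,3,2,8,7,3,4,1,2,3,7,8,4,3,7,2,3,1,2,3,7,5,4,3,2]

/-- moves -/
def mv29 : List (ℕ × ℕ × ℕ) := [(40,4,1),(38,1,2),(36,2,3),(34,3,7),(32,7,8),(31,4,8),(30,5,8),(29,3,8),(28,2,8),(27,1,8),(26,8,8),(30,4,7),(29,5,7),(32,8,3),(38,2,4),(37,1,4),(46,7,2),(45,8,2),(48,1,3),(54,4,7),(53,5,7),(62,2,4),(61,1,4),(64,5,3),(69,5,2),(70,5,3),(68,3,2),(67,7,2),(66,4,2),(65,5,2),(63,2,3),(62,1,3),(60,3,4),(59,7,4),(58,8,4),(57,2,4),(55,4,3),(54,5,3),(52,3,7),(51,4,7),(50,2,7),(49,1,7),(47,7,3),(46,8,3),(44,3,2),(43,4,2),(42,5,2),(41,7,2),(39,2,3),(38,1,3),(36,3,4),(35,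2,4),(34,7,4),(33,8,4),(31,4,3),(30,5,3),(28,3,7),(27,2,7),(26,1,7),(25,7,7),(33,7,2),(32,8,2),(49,2,4),(48,1,4),(65,4,7),(64,5,7),(70,7,4),(72,3,5),(71,7,5),(69,5,4),(68,2,4),(66,4,3),(65,5,3),(63,3,7),(62,2,7),(61,1,7),(60,4,7),(58,7,3),(57,8,3),(55,3,2),(54,4,2),(53,5,2),(52,7,2),(50,2,3),(49,1,3),(47,3,4),(46,7,4),(45,8,4),(44,2,4),(42,4,3),(41,5,3),(39,3,7),(38,2,7),(37,1,7),(36,4,7),(34,7,3),(33,8,3),(31,3,2),(30,4,2),(29,5,2),(28,7,2),(26,2,3),(25,1,3),(24,3,3),(27,7,5),(26,3,5),(25,2,5),(24,1,5),(23,5,5),(26,7,4),(41,2,8),(40,3,8),(39,4,8),(38,5,8),(42,2,7),(57,4,1),(56,3,1),(55,7,1),(54,8,1),(58,4,2),(65,2,5),(64,3,5),(62,5,4),(61,7,4),(59,4,3),(57,3,2),(56,7,2),(55,8,2),(53,2,1),(52,3,1),(51,4,1),(50,5,1),(49,7,1),(48,3,1),(46,1,2),(45,4,2),(43,2,3),(41,3,7),(40,4,7),(39,5,7),(37,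7,8),(36,3,8),(35,2,8),(34,1,8),(33,4,8),(32,3,8),(30,8,7),(29,2,7),(27,7,3),(25,3,4),(24,2,4),(23,1,4),(22,4,4),(64,2,4),(62,4,3),(61,5,3),(59,3,7),(58,4,7),(57,2,7),(55,7,3),(54,8,3),(53,1,3),(51,3,2),(50,4,2),(49,5,2),(48,7,2),(46,2,3),(45,1,3),(43,3,4),(42,2,4),(41,7,4),(39,4,3),(38,5,3),(37,8,3),(35,3,7),(34,2,7),(33,1,7),(32,4,7),(30,7,3),(29,8,3),(27,3,2),(26,7,2),(25,4,2),(23,2,3),(22,1,3),(21,3,3),(20,1,1),(19,2,2),(18,3,3),(21,2,8),(20,3,8),(22,2,7),(37,4,1),(36,3,1),(38,4,2),(53,7,5),(52,3,5),(54,7,4),(57,2,7),(55,7,3),(53,3,4),(51,4,5),(50,2,5),(49,3,5),(48,7,5),(47,8,5),(46,1,5),(45,2,5),(44,3,5),(42,5,4),(41,7,4),(39,4,3),(37,3,2),(35,2,1),(34,7,1),(33,3,1),(32,4,1),(31,5,1),(30,8,1),(29,7,1),(28,3,1),(26,1,2),(25,4,2),(23,2,3),(21,3,7),(19,7,8),(18,4,8),(17,8,8),(17,4,7),(16,7,7),(17,8,3),(31,7,2),(33,1,3),(47,2,4),(49,5,3),(53,3,2),(52,7,2),(51,4,2),(50,5,2),(48,2,3),(46,3,4),(45,7,4),(44,8,4),(43,1,4),(42,2,4),(40,4,3),(39,5,3),(37,3,7),(36,4,7),(35,2,7)]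

theorem step29 : reduces 10 adj mv29 (mid28) (mid29) 11 = true := by decide +kernel

/-- intermediate word -/
def mid30 : List ℕ := [3,2,1,3,4,5,3,7,8,3,5,4,3,2,8,7,3,4,1,2,3,7,5,4,3,2,8,7,3,4,1,2,3,7,5,4,3,2,8,7,3,4,1,2,3,7,5,4,2,3,2,8,7,3,4,1,2,3,7,8,7,3,1,2,5,4,3,2]

/-- moves -/
def mv30 : List (ℕ × ℕ × ℕ) := [(34,1,7),(32,7,3),(30,3,2),(29,4,2),(28,5,2),(27,8,2),(26,7,2),(24,2,3),(23,1,3),(21,3,4),(20,2,4),(19,7,4),(18,8,4),(16,4,3),(15,3,3),(26,8,5),(25,7,5),(24,3,5),(23,2,5),(22,1,5),(27,8,4),(26,7,4),(28,8,3),(30,2,7),(42,1,8),(41,2,8),(40,3,8),(39,4,8),(38,5,8),(43,1,7),(42,2,7),(44,1,3),(46,4,2),(57,4,1),(56,3,1),(55,7,1),(54,8,1),(58,4,2),(62,8,4),(61,7,4),(59,4,3),(57,3,2),(56,7,2),(55,8,2),(53,2,1),(52,3,1),(51,7,1),(50,4,1),(49,5,1),(48,3,1),(47,4,1),(45,1,2),(43,2,3),(41,3,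7),(40,4,7),(39,5,7),(37,7,8),(36,3,8),(35,4,8),(34,2,8),(33,1,8),(32,3,8),(31,2,8),(29,8,7),(27,7,3),(25,3,4),(24,2,4),(23,1,4),(21,4,5),(20,3,5),(19,2,5),(18,7,5),(17,8,5),(16,3,5),(14,5,4),(13,4,4),(29,7,2),(28,8,2),(45,2,4),(44,1,4),(61,8,3),(59,3,7),(58,4,7),(57,2,7),(55,7,3),(54,8,3),(53,1,3),(51,3,2),(50,7,2),(49,4,2),(48,5,2),(46,2,3),(45,1,3),(43,3,4),(42,2,4),(41,7,4),(39,4,3),(38,5,3),(37,8,3),(35,3,7),(34,4,7),(33,2,7),(32,1,7),(30,7,3),(29,8,3),(27,3,2),(26,7,2),(25,4,2),(23,2,3),(22,1,3),(21,5,3),(19,3,4),(18,2,4),(17,7,4),(16,8,4),(14,4,3),(13,5,3),(12,3,3),(20,5,1),(19,4,1),(18,3,1),(21,5,2),(20,4,2),(22,5,3),(36,8,5),(35,7,5),(34,3,5),(37,8,4),(36,7,4),(38,8,3),(52,1,8),(51,2,8),(50,3,8),(53,1,7),(52,2,7),(54,1,3),(63,3,1),(64,3,2),(62,2,1),(61,7,1),(60,8,1),(59,7,1),(58,3,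1),(57,4,1),(55,1,2),(53,2,3),(51,3,7),(49,7,8),(48,4,8),(47,5,8),(46,3,8),(45,2,8),(44,1,8),(43,4,8),(42,3,8),(41,2,8),(39,8,7),(37,7,3),(35,3,4),(33,4,5),(32,2,5),(31,1,5),(30,3,5),(29,7,5),(28,8,5),(27,2,5),(26,3,5),(25,7,5),(23,5,4),(21,4,3),(19,3,2),(17,2,1),(16,7,1),(15,8,1),(14,3,1),(13,4,1),(12,5,1),(11,1,1),(15,7,2),(14,8,2),(17,1,3),(23,4,7),(22,5,7),(31,2,4),(30,1,4),(33,5,3),(39,7,2),(38,8,2),(47,4,7),(46,5,7),(49,8,3),(55,2,4),(54,1,4),(60,7,2),(59,8,2),(58,7,2),(56,2,3),(55,1,3),(53,3,4),(52,2,4),(51,7,4),(50,8,4),(48,4,3),(47,5,3),(45,3,7),(44,2,7),(43,1,7),(42,4,7),(40,7,3),(39,8,3),(37,3,2),(36,7,2),(35,4,2),(34,5,2),(32,2,3),(31,1,3),(29,3,4),(28,7,4),(27,8,4),(26,2,4),(24,4,3),(23,5,3),(21,3,7),(20,4,7),(19,2,7),(18,1,7),(16,7,3),(15,8,3),(13,3,2),(12,4,2),(11,5,2),(10,2,2),(18,2,4),(17,1,4),(34,4,7),(33,5,7),(50,7,2),(49,8,2),(60,1,3),(62,2,7),(61,1,7),(59,7,3),(58,8,3),(56,3,7),(55,2,7),(54,1,7),(53,4,7),(51,7,3),(50,8,3),(48,3,2)]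

theorem step30 : reduces 10 adj mv30 (mid29) (mid30) 5 = true := by decide +kernel

/-- moves -/
def mv31 : List (ℕ × ℕ × ℕ) := [(47,4,2),(46,5,2),(45,7,2),(43,2,3),(42,1,3),(40,3,4),(39,7,4),(38,8,4),(37,2,4),(35,4,3),(34,5,3),(32,3,7),(31,2,7),(30,1,7),(29,4,7),(27,7,3),(26,8,3),(24,3,2),(23,4,2),(22,5,2),(21,7,2),(19,2,3),(18,1,3),(16,3,4),(15,7,4),(14,8,4),(13,2,4),(11,4,3),(10,5,3),(9,3,3),(12,2,8),(11,3,8),(10,4,8),(9,5,8),(8,8,8),(11,2,7),(26,4,1),(25,3,1),(24,7,1),(23,8,1),(27,4,2),(42,7,5),(41,3,5),(40,2,5),(39,1,5),(43,7,4),(54,7,8),(53,3,8),(52,2,8),(51,1,8),(50,4,8),(49,3,8),(47,8,7),(46,2,7),(44,7,3),(42,3,4),(41,2,4),(40,1,4),(38,4,5),(37,3,5),(36,7,5),(35,8,5),(34,2,5),(33,3,5),(31,5,4),(30,7,4),(28,4,3),(26,3,2),(25,7,2),(24,8,2),(22,2,1),(21,3,1),(20,4,1),(19,5,1),(18,7,1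),(17,3,1),(15,1,2),(14,4,2),(12,2,3),(10,3,7),(9,4,7),(8,5,7),(7,7,7),(54,8,3),(52,3,7),(51,2,7),(50,1,7),(49,4,7),(47,7,3),(46,8,3),(44,3,2),(43,7,2),(42,4,2),(40,2,3),(39,1,3),(38,5,3),(36,3,4),(35,7,4),(34,8,4),(33,2,4),(31,4,3),(30,5,3),(28,3,7),(27,4,7),(26,2,7),(24,7,3),(23,8,3),(22,1,3),(20,3,2),(19,4,2),(18,5,2),(17,7,2),(15,2,3),(14,1,3),(12,3,4),(11,2,4),(10,7,4),(8,4,3),(7,5,3),(6,3,3),(5,5,5),(4,4,4),(3,3,3),(6,4,1),(5,3,1),(7,4,2),(22,7,5),(21,3,5),(23,7,4),(38,2,8),(37,3,8),(39,2,7),(47,8,1),(46,7,1),(45,3,1),(43,1,2),(42,4,2),(40,2,3),(38,3,7),(36,7,8),(35,4,8),(34,3,8),(33,2,8),(32,1,8),(31,5,8),(30,4,8),(29,3,8),(27,8,7),(26,2,7),(24,7,3),(22,3,4),(20,4,5),(19,2,5),(18,3,5),(17,7,5),(16,8,5),(15,1,5),(14,2,5),(13,3,5),(11,5,4),(10,7,4),(8,4,3),(6,3,2),(4,2,1),(3,7,1),(2,1,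1),(2,7,2),(1,2,2),(2,1,3),(16,2,4),(18,5,3),(32,4,7),(34,8,3),(44,8,2),(43,7,2),(41,2,3),(40,1,3),(38,3,4),(37,2,4),(36,7,4),(35,8,4),(33,4,3),(31,3,7),(30,2,7),(29,1,7),(28,5,7),(27,4,7),(25,7,3),(24,8,3),(22,3,2),(21,7,2),(20,4,2),(19,5,2),(17,2,3),(15,3,4),(14,7,4),(13,8,4),(12,1,4),(11,2,4),(9,4,3),(8,5,3),(6,3,7),(5,4,7),(4,2,7),(3,1,7),(1,7,3),(0,3,3),(1,3,1),(0,7,1),(6,7,5),(7,7,4),(15,4,2),(27,5,1),(26,4,1),(25,3,1),(24,7,1),(23,8,1),(28,5,2),(27,4,2),(29,5,3),(31,7,4),(35,7,2),(34,8,2),(38,4,1),(37,3,1),(36,7,1),(35,8,1),(39,4,2),(43,8,5),(42,7,5),(44,8,4),(43,7,4),(45,8,3),(46,8,2)]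

theorem step31 : reduces 10 adj mv31 (mid30) (normForm) 10 = true := by decide +kernel

theorem red.{u} : RedP.{u} 10 adj (conjs fourConj) (normForm) 168 :=
  RedP.trans (RedP.trans (RedP.trans (RedP.trans (RedP.trans (RedP.trans (RedP.trans (RedP.trans (RedP.trans (RedP.trans (RedP.trans (RedP.trans (RedP.trans (RedP.trans (RedP.trans (RedP.trans (RedP.trans (RedP.trans (RedP.trans (RedP.trans (RedP.trans (RedP.trans (RedP.trans (RedP.trans (RedP.trans (RedP.trans (RedP.trans (RedP.trans (RedP.trans (RedP.trans (RedP.trans (RedP.of_reduces step0) (RedP.of_reduces step1)) (RedP.of_reduces step2)) (RedP.of_reduces step3)) (RedP.of_reduces step4)) (RedP.of_reduces step5)) (RedP.of_reduces step6)) (RedP.of_reduces step7)) (RedP.of_reduces step8)) (RedP.of_reduces step9)) (RedP.of_reduces step10))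 (RedP.of_reduces step11)) (RedP.of_reduces step12)) (RedP.of_reduces step13)) (RedP.of_reduces step14)) (RedP.of_reduces step15)) (RedP.of_reduces step16)) (RedP.of_reduces step17)) (RedP.of_reduces step18)) (RedP.of_reduces step19)) (RedP.of_reduces step20)) (RedP.of_reduces step21)) (RedP.of_reduces step22)) (RedP.of_reduces step23)) (RedP.of_reduces step24)) (RedP.of_reduces step25)) (RedP.of_reduces step26)) (RedP.of_reduces step27)) (RedP.of_reduces step28)) (RedP.of_reduces step29)) (RedP.of_reduces step30)) (RedP.of_reduces step31)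

end CfsgLib.Fi23Mult.Four
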