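import Cfsg.Agent.Fi23Mult.Words

/-! Generated: kernel checks of one rewriting certificate, in pieces. -/

set_option autoImplicit false
set_option maxRecDepth 100000
set_option maxHeartbeats 2000000
set_option Elab.async false

namespace CfsgLib.Fi23Mult.Pair

open CfsgLib.Schur.CoxLift

/-- intermediate word -/
def mid0 : List ℕ := [1,2,3,7,8,4,3,7,5,4,3,2,3,4,5,7,3,4,8,7,3,2,1,1,2,2,3,7,8,4,3,7,5,4,5,2,3,1,2,3,4,7,3,2,7,1,8,7,3,2,4,3,5,4,2,7,3,4,5,1,2,3,4,1,2,8,7,3,2,4,3,7,5,4,3,1,2,3,4,7,3,8]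

/-- moves -/
def mv0 : List (ℕ × ℕ × ℕ) := [(72,8,8),(71,7,7),(68,3,8),(67,4,8),(66,2,8),(65,3,8),(69,3,7),(68,4,7),(67,2,7),(71,7,4),(69,4,3),(72,7,2),(73,7,3),(71,3,2),(70,4,2),(68,2,3),(66,3,7),(64,7,8),(63,5,8),(62,4,8),(61,3,8),(60,2,8),(59,1,8),(58,2,8),(57,3,8),(56,4,8),(55,5,8),(64,5,7),(63,4,7),(66,8,3),(65,5,3),(70,3,4),(69,2,4),(68,7,4),(67,8,4),(75,3,5),(74,7,5),(73,2,5),(76,3,4),(75,7,4),(74,2,4),(72,4,5),(71,3,5),(70,2,5),(69,7,5),(68,8,5),(66,5,4),(64,4,3),(62,3,7),(61,2,7),(60,1,7),(59,2,7),(70,7,2),(69,8,2),(68,4,2),(67,5,2),(75,2,7),(74,5,7),(73,4,7),(71,7,3),(70,8,3),(78,4,2),(76,2,3),(75,5,3),(73,3,4),(72,7,4),(71,8,4),(69,4,3),(68,5,3),(66,3,2),(65,4,2),(64,7,2),(62,2,3),(61,1,3),(79,4,1),(78,3,1),(80,4,2),(81,4,3),(79,3,2),(77,2,1),(76,5,1),(75,4,1),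(74,3,1),(73,7,1),(72,8,1),(71,3,1),(70,4,1),(69,5,1),(77,5,2),(76,4,2),(79,1,3),(78,5,3),(81,2,4),(80,1,4),(83,3,5),(82,2,5),(81,1,5),(79,5,4),(77,4,3),(75,3,2),(74,7,2),(73,8,2),(84,3,7),(83,2,7),(82,1,7),(81,4,7),(80,5,7),(86,7,2),(84,2,3),(83,1,3),(87,7,4),(88,7,3),(86,3,4),(85,2,4),(84,1,4),(82,4,3),(81,5,3),(79,3,7),(78,4,7),(77,2,7),(75,7,3),(74,8,3),(72,3,2),(71,4,2),(70,5,2),(68,2,1),(67,3,1),(66,4,1),(65,7,1),(64,3,1),(62,1,2),(60,2,3),(58,3,7),(57,4,7),(56,5,7),(54,7,8),(53,3,8),(52,2,8),(51,4,8),(50,3,8),(49,8,8),(47,2,7),(50,4,2),(48,2,3),(46,3,7),(45,7,7),(44,8,3),(48,3,4),(47,2,4),(46,7,4),(45,8,4),(43,4,3),(42,3,3),(41,7,4),(50,8,5),(49,7,5),(51,8,4),(50,7,4),(48,4,5),(47,3,5),(46,2,5),(45,7,5),(44,8,5),(43,3,5),(42,7,5),(40,5,4),(39,4,4),(44,7,2),(43,8,2),(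48,5,7),(47,4,7),(45,7,3),(44,8,3),(42,3,2),(41,7,2),(40,4,2),(39,5,2),(37,2,3),(36,1,3),(54,3,1),(55,3,2),(53,2,1),(52,7,1),(51,3,1),(50,8,1),(49,5,1),(48,4,1),(47,3,1),(46,7,1),(45,8,1),(53,7,2),(55,1,3),(57,2,7),(56,1,7),(54,7,3),(52,3,2),(51,8,2),(50,5,2),(49,4,2),(52,8,3),(51,5,3),(58,2,4),(57,1,4),(59,2,3),(58,1,3),(56,3,4),(55,7,4),(54,2,4),(53,8,4),(62,1,5),(61,3,5),(60,2,5),(59,1,5),(63,1,4),(64,1,3),(62,3,4),(61,2,4),(60,1,4),(58,4,5),(57,3,5),(56,7,5),(55,2,5),(54,8,5),(52,5,4),(50,4,3),(48,3,2),(47,7,2),(46,8,2),(44,2,1),(43,3,1),(42,7,1),(41,4,1),(40,5,1),(39,3,1),(37,1,2),(35,2,3),(34,3,3),(38,3,5),(37,2,5),(36,1,5),(35,3,5),(34,2,5),(52,4,8),(51,5,8),(50,3,8),(49,4,8),(48,2,8),(47,3,8),(45,8,7),(44,1,7)]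

theorem step0 : reduces 10 adj mv0 (pairWord) (mid0) 7 = true := by decide +kernel

/-- intermediate word -/
def mid1 : List ℕ := [1,2,3,7,8,4,3,7,5,4,3,2,3,4,5,7,3,4,8,7,3,2,1,1,2,2,3,7,8,3,4,5,2,3,7,8,4,3,7,2,1,2,3,7,4,3,2,8,7,3,4,1,2,3,7,8,5,4,3,2,7,3,4,1,2,3,2,7,1,5,4,3,2,7,3,8]

/-- moves -/
def mv1 : List (ℕ × ℕ × ℕ) := [(43,2,7),(41,7,3),(39,3,4),(38,2,4),(37,1,4),(54,2,7),(53,4,7),(52,5,7),(62,4,1),(61,3,1),(59,1,2),(58,5,2),(57,4,2),(55,2,3),(63,4,2),(61,2,3),(60,1,3),(59,5,3),(57,3,4),(56,2,4),(54,4,3),(53,5,3),(51,3,7),(50,4,7),(49,2,7),(47,7,3),(46,8,3),(45,1,3),(43,3,2),(42,7,2),(41,4,2),(39,2,3),(38,1,3),(36,3,4),(35,2,4),(33,4,5),(32,5,5),(40,4,7),(48,2,4),(54,3,2),(53,4,2),(52,5,2),(51,7,2),(49,2,3),(47,3,4),(46,7,4),(45,8,4),(44,1,4),(43,2,4),(41,4,3),(39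,3,7),(38,2,7),(37,1,7),(36,4,7),(56,2,4),(54,4,3),(53,5,3),(51,3,7),(50,2,7),(49,4,7),(47,7,3),(46,8,3),(45,1,3),(43,3,2),(42,4,2),(41,7,2),(39,2,3),(38,1,3),(42,7,4),(62,4,8),(61,3,8),(60,2,8),(59,1,8),(58,5,8),(57,2,8),(56,3,8),(55,4,8),(54,5,8),(63,4,7),(66,2,4),(64,4,3),(62,3,7),(61,2,7),(60,1,7),(59,5,7),(58,2,7),(66,3,2),(65,4,2),(64,7,2),(62,2,3),(61,1,3),(60,5,3),(72,3,1),(71,4,1),(70,5,1),(69,7,1),(73,3,2),(72,4,2),(71,5,2),(70,7,2),(68,2,1),(67,3,1),(66,4,1),(65,7,1),(64,3,1),(62,1,2),(61,5,2),(59,2,3),(57,3,7),(56,4,7),(55,5,7),(53,7,8),(52,3,8),(51,2,8),(50,4,8),(49,3,8),(47,8,7),(46,1,7),(45,2,7),(43,7,3),(41,3,4),(40,2,4),(39,1,4),(37,4,3),(35,3,7),(34,2,7),(33,5,7),(32,4,7),(31,7,7),(49,4,2),(59,3,5),(58,2,5),(57,7,5),(56,3,5),(54,5,4),(53,8,4),(52,7,4),(50,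4,3),(48,3,2),(47,7,2),(46,8,2),(44,2,1),(43,3,1),(42,7,1),(41,4,1),(40,3,1),(38,1,2),(64,7,4),(68,1,7),(67,2,7),(65,7,3),(63,3,4),(62,2,4),(61,1,4),(73,2,4),(71,4,3),(70,5,3),(69,1,3),(67,3,2),(66,7,2),(65,4,2),(63,2,3),(62,1,3),(60,3,4),(59,2,4),(58,7,4),(56,4,3),(55,5,3),(54,8,3),(52,3,7),(51,4,7),(50,2,7),(48,7,3),(47,8,3),(46,1,3),(44,3,2),(43,7,2),(42,4,2),(40,2,3),(39,1,3),(37,3,2),(36,4,2),(35,7,2),(33,2,3),(32,5,3),(30,3,4),(29,4,4),(45,1,8),(44,2,8),(43,3,8),(46,1,7),(45,2,7),(47,1,3),(60,4,1),(59,3,1),(61,4,2),(62,4,3),(60,3,2),(58,2,1),(57,7,1),(56,3,1),(55,4,1),(54,5,1),(53,8,1),(52,7,1),(51,3,1),(50,4,1),(48,1,2),(46,2,3),(44,3,7),(42,7,8),(41,4,8),(40,3,8),(39,2,8),(38,1,8),(37,2,8),(36,3,8),(35,4,8),(42,4,7),(44,8,3),(50,2,4),(49,1,4),(58,7,2),(60,1,3),(64,3,7),(63,4,7),(62,2,7),(61,1,7),(59,7,3),(57,3,2),(56,4,2),(55,5,2),(54,8,2),(53,7,2),(51,2,3),(50,1,3),(48,3,4),(47,2,4),(46,7,4),(45,8,4),(43,4,3),(41,3,7),(40,2,7),(39,1,7),(38,2,7),(47,7,2),(46,8,2),(63,2,4),(62,1,4),(66,7,2)]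

theorem step1 : reduces 10 adj mv1 (mid0) (mid1) 3 = true := by decide +kernel

/-- intermediate word -/
def mid2 : List ℕ := [1,2,3,7,8,4,3,7,5,4,3,2,3,4,5,4,7,3,8,7,5,2,3,4,5,1,2,3,4,7,3,4,8,7,3,2,3,7,4,3,1,2,3,4,7,3,8,7,5,4,3,7,2,3,4,5,1,2,3,4,7,3,2,8]

/-- moves -/
def mv2 : List (ℕ × ℕ × ℕ) := [(64,2,3),(63,1,3),(61,3,4),(60,7,4),(59,2,4),(57,4,3),(56,5,3),(55,8,3),(53,3,7),(52,2,7),(51,1,7),(50,4,7),(48,7,3),(47,8,3),(45,3,2),(44,4,2),(43,7,2),(41,2,3),(40,1,3),(51,4,1),(50,3,1),(49,7,1),(48,8,1),(52,4,2),(68,1,5),(67,7,5),(66,3,5),(65,2,5),(64,1,5),(69,1,4),(68,7,4),(70,1,3),(72,2,7),(71,1,7),(69,7,3),(67,3,4),(66,2,4),(65,1,4),(63,4,5),(62,3,5),(61,7,5),(60,2,5),(59,3,5),(57,5,4),(56,8,4),(55,7,4),(53,4,3),(51,3,2),(50,7,2),(49,8,2),(47,2,1),(46,3,1),(45,4,1),(44,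7,1),(43,3,1),(41,1,2),(39,2,3),(37,3,7),(36,4,7),(34,7,8),(33,3,8),(32,2,8),(31,5,8),(30,4,8),(29,3,8),(28,8,8),(43,7,4),(59,2,7),(69,3,1),(68,7,1),(67,4,1),(66,3,1),(64,1,2),(63,5,2),(62,4,2),(60,2,3),(58,3,7),(57,4,7),(56,5,7),(54,7,8),(53,3,8),(52,4,8),(51,2,8),(50,3,8),(48,8,7),(47,1,7),(46,2,7),(44,7,3),(42,3,4),(41,2,4),(40,1,4),(70,3,2),(69,7,2),(68,4,2),(66,2,3),(65,1,3),(64,5,3),(62,3,4),(61,2,4),(60,7,4),(58,4,3),(57,5,3),(56,8,3),(54,3,7),(53,4,7),(52,2,7),(50,7,3),(49,8,3),(48,1,3),(46,3,2),(45,7,2),(44,4,2),(42,2,3),(41,1,3),(39,3,4),(38,2,4),(37,7,4),(35,4,3),(34,8,3),(32,3,7),(31,2,7),(30,5,7),(29,4,7),(27,7,3),(26,3,3),(24,2,2),(37,4,1),(36,3,1),(38,4,2),(39,4,3),(37,3,2),(35,2,1),(34,7,1),(33,3,1),(32,4,1),(31,8,1),(30,7,1),(29,3,1),(35,7,2),(37,1,3),(41,3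,7),(40,4,7),(39,2,7),(38,1,7),(36,7,3),(34,3,2),(33,4,2),(32,8,2),(31,7,2),(40,2,4),(39,1,4),(43,7,2),(41,2,3),(40,1,3),(38,3,4),(37,7,4),(36,2,4),(34,4,3),(33,8,3),(37,2,7),(44,7,1),(43,3,1),(41,1,2),(40,4,2),(38,2,3),(36,3,7),(35,4,7),(45,7,8),(44,3,8),(43,2,8),(42,1,8),(41,4,8),(40,3,8),(39,2,8),(47,8,3),(45,3,7),(44,2,7),(43,1,7),(42,4,7),(48,8,2),(47,7,2),(45,2,3),(44,1,3),(49,8,4),(48,7,4),(50,8,3),(51,8,7),(49,7,3),(47,3,4),(46,2,4),(45,1,4),(43,4,3),(41,3,7),(40,2,7),(38,7,8),(37,3,8),(36,4,8),(34,8,7),(32,7,3),(30,3,2),(28,2,1),(27,5,1),(26,4,1),(25,3,1),(24,7,1),(23,1,1),(22,1,7),(21,2,7),(23,1,3),(26,5,2),(25,4,2),(27,5,1),(26,4,1),(24,1,2),(22,2,3),(20,3,7),(19,7,7),(18,8,3),(24,2,4),(23,1,4),(26,5,3),(27,5,2),(25,2,3),(24,1,3),(22,3,4),(21,2,4),(20,7,4),(19,8,4),(17,4,3),(16,3,3),(15,7,4),(25,3,5),(24,2,5),(23,1,5),(30,7,4),(29,8,4),(31,7,3),(30,8,3),(28,3,4),(27,7,4),(33,3,8),(31,8,7),(30,4,7),(28,7,3),(26,3,4),(25,2,4),(24,1,4),(22,4,5),(21,3,5),(20,2,5)]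

theorem step2 : reduces 10 adj mv2 (mid1) (mid2) 6 = true := by decide +kernel

/-- moves -/
def mv3 : List (ℕ × ℕ × ℕ) := [(19,7,5),(18,8,5),(17,3,5),(16,7,5),(14,5,4),(13,4,4),(18,7,2),(17,8,2),(26,4,7),(27,4,3),(25,3,7),(24,2,7),(23,1,7),(22,5,7),(21,4,7),(19,7,3),(18,8,3),(16,3,2),(15,7,2),(14,4,2),(13,5,2),(11,2,3),(10,3,3),(11,3,5),(10,2,5),(27,3,8),(26,4,8),(28,3,7),(27,4,7),(25,7,8),(24,3,8),(23,2,8),(22,1,8),(21,5,8),(20,4,8),(19,3,8),(17,8,7),(16,2,7),(14,7,3),(12,3,4),(11,2,4),(9,4,5),(8,5,5),(12,4,7),(28,7,2),(29,7,3),(27,3,2),(26,4,2),(25,8,2),(24,7,2),(22,2,3),(21,1,3),(20,5,3),(18,3,4),(17,7,4),(16,8,4),(15,2,4),(13,4,3),(11,3,7),(10,2,7),(9,5,7),(8,4,7),(7,7,7),(29,3,4),(28,7,4),(27,2,4),(25,4,3),(24,8,3),(22,3,7),(21,2,7),(20,1,7),(19,5,7),(18,4,7),(16,7,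3),(15,8,3),(13,3,2),(12,4,2),(11,7,2),(9,2,3),(8,5,3),(6,3,4),(5,4,4),(13,2,8),(12,3,8),(11,4,8),(14,2,7),(29,4,1),(28,3,1),(27,7,1),(30,4,2),(31,4,3),(29,3,2),(28,7,2),(26,2,1),(25,3,1),(24,4,1),(23,8,1),(22,7,1),(21,3,1),(19,1,2),(18,5,2),(17,4,2),(15,2,3),(13,3,7),(12,4,7),(10,7,8),(9,3,8),(8,2,8),(7,5,8),(6,4,8),(5,3,8),(4,8,8),(31,3,7),(30,4,7),(29,2,7),(27,7,3),(26,1,3),(24,3,2),(23,4,2),(22,8,2),(21,7,2),(19,2,3),(18,1,3),(17,5,3),(15,3,4),(14,2,4),(13,7,4),(11,4,3),(10,8,3),(8,3,7),(7,2,7),(6,5,7),(5,4,7),(3,7,3),(2,3,3),(5,5,2),(4,4,2),(6,5,3),(9,8,4),(8,7,4),(21,8,4),(20,7,4),(22,8,3),(25,1,7),(24,2,7),(31,7,8),(30,3,8),(29,4,8),(28,2,8),(27,3,8),(26,1,8),(25,2,8),(23,8,7),(21,7,3),(19,3,4),(18,2,4),(17,1,4),(15,4,5),(14,3,5),(13,2,5),(12,7,5),(11,3,5),(10,8,5),(9,7,5),(7,5,4),(5,4,3),(3,3,2),(2,7,2),(1,2,2),(9,8,3),(11,7,2),(10,8,2),(15,5,1),(14,4,1),(13,3,1),(12,7,1),(11,8,1),(16,5,2),(15,4,2),(17,5,3),(23,7,2),(22,8,2),(24,7,1),(23,8,1),(31,8,5),(30,7,5),(32,8,4),(31,7,4),(33,8,3),(35,7,2),(34,8,2),(39,5,1),(38,4,1),(37,3,1),(36,7,1),(35,8,1),(40,5,2),(39,4,2),(41,5,3)]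

theorem step3 : reduces 10 adj mv3 (mid2) (normForm) 8 = true := by decide +kernel

theorem red.{u} : RedP.{u} 10 adj (pairWord) (normForm) 24 :=
  RedP.trans (RedP.trans (RedP.trans (RedP.of_reduces step0) (RedP.of_reduces step1)) (RedP.of_reduces step2)) (RedP.of_reduces step3)

end CfsgLib.Fi23Mult.Pair
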