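import Cfsg.Agent.Fi23Mult.Words

/-! Generated: kernel checks of one rewriting certificate, in pieces. -/

set_option autoImplicit false
set_option maxRecDepth 100000
set_option maxHeartbeats 2000000
set_option Elab.async false

namespace CfsgLib.Fi23Mult.Sq

open CfsgLib.Schur.CoxLift

/-- intermediate word -/
def mid0 : List ℕ := [0,1,2,3,4,5,7,0,1,2,3,4,5,7,0,1,2,3,4,5,7,0,1,2,3,4,5,7,0,1,2,3,4,5,7,0,1,2,3,4,5,7,0,1,2,3,4,5,7,0,1,2,3,4,5,7,0,1,2,3,4,5,0,1,2,3,7,4,5,3,4,0,1,2,3,4,5,7,3,4,0,1,2,3,4,7,3,2,1,5,4,3,0,1,2,3,1,4,7,3,2,1,5,4,3,2,7,3,4,3,2,5,4,3,0,1,2,3,4,5,7,3,4,5]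

/-- moves -/
def mv0 : List (ℕ × ℕ × ℕ) := [(68,5,7),(67,4,7),(90,7,0),(89,5,0),(88,4,0),(87,3,0),(86,2,0),(84,0,1),(83,7,1),(82,5,1),(81,4,1),(80,3,1),(78,1,2),(77,0,2),(76,7,2),(75,5,2),(74,4,2),(72,2,3),(71,1,3),(70,0,3),(69,5,3),(91,7,1),(90,5,1),(89,4,1),(88,3,1),(86,1,2),(85,0,2),(84,7,2),(83,5,2),(82,4,2),(80,2,3),(79,1,3),(78,0,3),(84,5,7),(83,4,7),(92,7,2),(91,5,2),(90,4,2),(88,2,3),(87,1,3),(86,0,3),(85,5,3),(96,5,7),(95,4,7),(93,7,3),(92,5,3),(90,3,4),(89,2,4),(88,1,4),(87,0,4),(118,7,0),(117,5,0),(116,4,0),(115,3,0),(114,2,0),(112,0,1),(111,7,1),(110,5,1),(109,4,1),(108,3,1),(106,1,2),(105,0,2),(104,7,2),(103,5,2),(102,4,2),(100,2,3),(99,1,3),(98,0,3),(97,5,3),(95,3,4),(94,7,4),(92,4,5),(91,3,5),(90,2,5),(89,1,5),(88,0,5),(86,5,4),(84,4,3),(82,3,7),(81,2,7),(80,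1,7),(79,0,7),(77,7,3),(76,5,3),(74,3,4),(73,2,4),(72,1,4),(71,0,4),(84,7,4),(94,5,7),(93,4,7),(95,5,3),(96,5,4),(94,4,3),(92,3,7),(91,2,7),(90,1,7),(89,0,7),(88,4,7),(87,5,7),(85,7,3),(83,3,4),(82,2,4),(81,1,4),(80,0,4),(105,7,0),(104,5,0),(103,4,0),(102,3,0),(101,2,0),(99,0,1),(98,4,1),(97,5,1),(96,3,1),(95,4,1),(94,7,1),(93,3,1),(91,1,2),(90,0,2),(89,4,2),(88,5,2),(106,7,1),(105,5,1),(104,4,1),(103,3,1),(101,1,2),(100,0,2),(99,4,2),(98,5,2),(107,7,2),(106,5,2),(105,4,2),(103,2,3),(102,1,3),(101,0,3),(111,5,7),(110,4,7),(108,7,3),(107,5,3),(105,3,4),(104,2,4),(103,1,4),(102,0,4),(100,4,3),(99,5,3),(97,3,2),(96,4,2),(95,7,2),(93,2,3),(92,1,3),(91,0,3),(96,7,4),(108,5,7),(107,4,7),(109,5,3),(110,5,4),(108,4,3),(106,3,7),(105,2,7),(104,1,7),(103,0,7),(119,7,1),(118,5,1),(117,4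,1),(116,3,1),(114,1,2),(113,0,2),(112,4,2),(111,5,2),(120,7,2),(119,5,2),(118,4,2),(116,2,3),(115,1,3),(114,0,3),(124,5,7),(123,4,7),(121,7,3),(120,5,3),(118,3,4),(117,2,4),(116,1,4),(115,0,4),(113,4,3),(112,5,3),(110,3,2),(109,4,2),(108,7,2),(106,2,3),(105,1,3),(104,0,3),(102,3,7),(101,4,7),(100,5,7),(99,2,7),(97,7,3),(95,3,4),(94,2,4),(93,1,4),(92,0,4),(90,4,3),(89,5,3),(87,3,2),(86,7,2),(85,4,2),(83,2,3),(82,1,3),(81,0,3),(79,3,4),(78,7,4),(76,4,5),(75,3,5),(74,2,5),(73,1,5),(72,0,5),(70,5,4),(68,4,3),(66,3,7),(65,2,7),(64,1,7),(63,0,7),(62,7,7),(68,3,5),(102,7,0),(101,3,0),(100,4,0),(99,5,0),(98,2,0),(97,3,0),(96,7,0),(95,4,0),(94,3,0),(93,2,0),(91,0,1),(90,3,1),(89,4,1),(88,5,1),(103,7,1),(102,3,1),(101,4,1),(100,5,1),(104,7,2),(105,7,3),(103,3,2),(102,4,2),(101,5,2),(99,2,1),(98,3,1),(97,7,1),(96,4,1)]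

theorem step0 : reduces 10 adj mv0 (relTwo ++ relTwo) (mid0) 1 = true := by decide +kernel

/-- intermediate word -/
def mid1 : List ℕ := [0,1,2,3,4,5,7,0,1,2,3,4,5,7,0,1,2,3,4,5,7,0,1,2,3,4,5,7,0,1,2,3,4,5,7,0,1,2,3,4,5,7,0,1,2,3,4,5,7,0,1,2,3,4,5,7,0,1,2,3,0,1,2,3,4,7,3,5,4,0,1,2,3,7,4,3,5,4,2,1,3,2,0,1,2,3,4,5,7,2,3,2,4,3,1,2,0,1,7,3,4,2,3,1,0,5,4,3,2,1,7,3,2,4,3,5,4,7,3,4]

/-- moves -/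
def mv1 : List (ℕ × ℕ × ℕ) := [(95,3,1),(93,1,2),(92,0,2),(107,3,4),(106,7,4),(105,2,4),(103,4,3),(102,5,3),(101,1,3),(99,3,2),(98,7,2),(97,4,2),(95,2,3),(94,1,3),(93,0,3),(91,3,2),(90,4,2),(89,5,2),(87,2,1),(86,3,1),(85,7,1),(84,4,1),(83,3,1),(81,1,2),(80,0,2),(79,4,2),(106,2,7),(109,4,2),(107,2,3),(105,3,7),(104,4,7),(103,5,7),(102,1,7),(101,2,7),(99,7,3),(97,3,4),(96,2,4),(95,1,4),(94,0,4),(93,2,4),(91,4,3),(90,5,3),(89,1,3),(87,3,2),(86,7,2),(85,4,2),(83,2,3),(82,1,3),(81,0,3),(99,4,7),(110,4,5),(109,3,5),(108,2,5),(107,7,5),(106,3,5),(104,5,4),(103,1,4),(102,2,4),(100,4,3),(98,3,7),(97,2,7),(96,1,7),(95,0,7),(94,2,7),(112,5,3),(110,3,4),(109,2,4),(108,7,4),(106,4,3),(105,5,3),(104,1,3),(102,3,2),(101,4,2),(100,7,2),(98,2,3),(97,1,3),(96,0,3),(109,7,2),(119,5,7),(118,4,7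),(120,5,3),(121,5,4),(119,4,3),(117,3,7),(116,2,7),(115,1,7),(114,0,7),(113,5,7),(112,4,7),(110,7,3),(108,3,2),(107,4,2),(106,5,2),(104,2,1),(103,3,1),(102,4,1),(101,7,1),(100,3,1),(98,1,2),(97,0,2),(95,2,3),(93,3,7),(92,4,7),(91,5,7),(90,1,7),(89,2,7),(87,7,3),(85,3,4),(84,2,4),(83,1,4),(82,0,4),(80,4,3),(78,3,2),(77,7,2),(76,5,2),(75,4,2),(73,2,3),(72,1,3),(71,0,3),(69,3,4),(67,4,5),(66,7,5),(65,3,5),(64,2,5),(63,1,5),(62,0,5),(61,5,5),(65,7,4),(67,5,3),(75,5,7),(74,4,7),(76,5,3),(78,2,4),(89,1,5),(88,2,5),(87,3,5),(86,7,5),(90,1,4),(89,2,4),(91,1,3),(93,7,2),(112,5,0),(111,4,0),(110,3,0),(109,7,0),(108,2,0),(107,3,0),(106,4,0),(105,5,0),(113,5,1),(112,4,1),(111,3,1),(110,7,1),(114,5,2),(113,4,2),(115,5,3),(117,7,4),(119,3,5),(118,7,5),(116,5,4),(114,4,3),(112,3,2),(111,7,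2),(109,2,1),(108,3,1),(107,4,1),(106,5,1),(104,1,0),(103,2,0),(102,3,0),(101,4,0),(100,7,0),(99,3,0),(98,2,0),(96,0,1),(95,3,1),(94,7,1),(92,1,2),(90,2,3),(88,3,4),(87,7,4),(85,4,5),(84,3,5),(83,2,5),(82,1,5),(81,0,5),(80,3,5),(79,2,5),(77,5,4),(75,4,3),(73,3,7),(72,2,7),(71,1,7),(70,0,7),(69,4,7),(68,5,7),(66,7,3),(64,3,4),(63,2,4),(62,1,4),(61,0,4),(60,4,4),(94,3,0),(93,7,0),(92,2,0),(95,3,1),(94,7,1),(96,3,2),(95,7,2),(93,2,1),(91,1,0),(90,3,0),(89,2,0),(88,4,0),(87,3,0),(86,7,0),(85,5,0),(84,4,0),(83,3,0),(82,2,0),(80,0,1),(79,3,1),(91,3,1),(93,0,2),(98,2,7),(96,7,3),(95,1,3),(94,0,3),(92,3,2),(90,2,1),(89,4,1),(88,3,1),(87,7,1),(86,5,1),(85,4,1),(84,3,1),(82,1,2),(81,0,2),(90,4,2),(92,1,3),(99,2,4),(100,2,3),(98,3,4),(97,7,4),(96,1,4),(95,0,4),(94,2,4),(93,1,4),(91,4,3),(89,3,2)]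

theorem step1 : reduces 10 adj mv1 (mid0) (mid1) 2 = true := by decide +kernel

/-- intermediate word -/
def mid2 : List ℕ := [0,1,2,3,4,5,7,0,1,2,3,4,5,7,0,1,2,3,4,5,7,0,1,2,3,4,5,7,0,1,2,3,4,5,7,0,1,2,3,4,5,7,0,1,2,3,4,5,7,0,1,2,3,4,5,7,1,2,3,7,4,3,2,1,0,5,4,3,2,1,3,4,7,5,3,2,1,4,3,2,7,3,4,0,1,2,3,1,5,4,3,2,7,3,4,0,1,2,3,7,5,4,3,0,1,2,3,5,4,7,3,4]

/-- moves -/
def mv2 : List (ℕ × ℕ × ℕ) := [(88,7,2),(87,5,2),(86,4,2),(84,2,3),(83,1,3),(82,0,3),(80,3,2),(78,2,1),(77,4,1),(76,5,1),(75,3,1),(74,4,1),(73,7,1),(72,3,1),(70,1,2),(69,0,2),(68,4,2),(67,5,2),(78,4,2),(77,5,2),(80,1,3),(97,1,7),(96,0,7),(95,2,7),(94,1,7),(98,1,3),(97,0,3),(100,4,2),(102,3,1),(101,4,1),(99,1,2),(98,0,2),(96,2,3),(95,1,3),(93,3,7),(92,4,7),(91,2,7),(89,7,3),(88,5,3),(86,3,4),(85,2,4),(84,1,4),(83,0,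4),(82,2,4),(81,1,4),(79,4,3),(78,5,3),(76,3,2),(75,4,2),(74,7,2),(72,2,3),(71,1,3),(70,0,3),(75,7,4),(89,5,7),(88,4,7),(90,5,3),(92,2,4),(104,0,5),(103,3,5),(105,0,4),(106,0,3),(104,3,4),(102,4,5),(101,2,5),(100,1,5),(99,0,5),(98,3,5),(97,2,5),(96,1,5),(95,7,5),(94,3,5),(93,2,5),(91,5,4),(89,4,3),(87,3,7),(86,2,7),(85,1,7),(84,0,7),(83,2,7),(82,1,7),(93,4,2),(92,5,2),(102,2,4),(101,1,4),(100,0,4),(104,5,3),(107,0,2),(106,4,2),(105,5,2),(103,2,3),(102,1,3),(101,0,3),(99,3,4),(98,2,4),(97,1,4),(96,7,4),(94,4,3),(93,5,3),(91,3,2),(90,4,2),(89,7,2),(87,2,3),(86,1,3),(85,0,3),(97,7,1),(96,3,1),(95,4,1),(94,5,1),(98,7,2),(109,1,7),(108,0,7),(107,4,7),(106,5,7),(110,1,3),(109,0,3),(112,2,4),(111,1,4),(110,0,4),(108,4,3),(107,5,3),(105,3,7),(104,2,7),(103,1,7),(102,0,7),(101,4,7),(9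9,7,3),(97,3,2),(96,4,2),(95,5,2),(93,2,1),(92,3,1),(91,4,1),(90,7,1),(89,3,1),(87,1,2),(86,0,2),(84,2,3),(83,1,3),(81,3,7),(80,4,7),(79,5,7),(78,2,7),(76,7,3),(74,3,4),(73,2,4),(72,1,4),(71,0,4),(69,4,3),(68,5,3),(66,3,2),(65,7,2),(64,4,2),(62,2,3),(61,1,3),(60,0,3),(59,3,3),(84,3,0),(83,2,0),(85,3,1),(86,3,2),(84,2,1),(82,1,0),(81,7,0),(80,3,0),(79,4,0),(78,5,0),(77,2,0),(76,3,0),(75,7,0),(74,4,0),(73,3,0),(72,2,0),(70,0,1),(69,3,1),(68,4,1),(67,5,1),(82,7,1),(81,3,1),(80,4,1),(79,5,1),(84,0,2),(83,7,2),(86,1,3),(85,0,3),(88,2,7),(87,1,7),(86,0,7),(84,7,3),(82,3,2),(81,4,2),(80,5,2),(78,2,1),(77,3,1),(76,7,1),(75,4,1),(74,3,1),(72,1,2),(71,0,2),(89,2,4),(88,1,4),(87,0,4),(90,2,3),(89,1,3),(88,0,3),(86,3,4),(85,7,4),(84,2,4),(82,4,3),(81,5,3),(80,1,3),(78,3,2),(77,7,2),(76,4,2),(74,2,3),(73,1,3),(72,0,3),(70,3,2),(69,4,2),(68,5,2),(66,2,1),(65,3,1),(64,7,1),(63,4,1),(62,3,1),(60,1,2),(59,0,2),(58,2,2),(70,2,0),(69,3,0),(68,4,0),(67,5,0),(71,2,1),(70,3,1),(69,4,1),(68,5,1),(66,1,0),(65,2,0),(64,3,0),(63,7,0),(62,4,0),(61,3,0),(60,2,0),(58,0,1),(57,1,1),(56,0,0),(59,4,7),(75,1,5),(74,2,5),(73,3,5)]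

theorem step2 : reduces 10 adj mv2 (mid1) (mid2) 4 = true := by decide +kernel

/-- intermediate word -/
def mid3 : List ℕ := [0,1,2,3,4,5,7,0,1,2,3,4,5,7,0,1,2,3,4,5,7,0,1,2,3,4,5,7,0,1,2,3,4,5,7,0,1,2,3,4,5,7,0,1,2,3,4,5,7,0,1,2,3,1,2,3,4,7,3,2,5,4,3,7,1,2,3,4,0,1,2,7,3,2,1,5,4,3,2,7,0,1,3,4,2,3,7,5,4,3,1,2,3,4,0,1,2,3,5,4,7,3,2,7,4,3]

/-- moves -/
def mv3 : List (ℕ × ℕ × ℕ) := [(72,7,5),(76,1,4),(75,2,4),(77,1,3),(94,4,0),(93,3,0),(92,7,0),(91,2,0),(90,3,0),(89,4,0),(88,5,0),(95,4,1),(94,3,1),(93,7,1),(96,4,2),(106,3,5),(105,2,5),(104,1,5),(103,0,5),(102,3,5),(100,5,4),(99,7,4),(97,4,3),(95,3,2),(94,7,2),(92,2,1),(91,3,1),(90,4,1),(89,5,1),(87,1,0),(86,3,0),(85,2,0),(83,0,1),(82,4,1),(81,3,1),(80,7,1),(78,1,2),(76,2,3),(74,3,4),(73,7,4),(71,4,5),(70,3,5),(69,1,5),(68,2,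5),(67,3,5),(65,5,4),(64,0,4),(63,1,4),(62,2,4),(60,4,3),(58,3,7),(57,2,7),(56,1,7),(55,7,7),(63,0,5),(62,1,5),(61,2,5),(60,3,5),(64,0,4),(63,1,4),(62,2,4),(65,0,3),(64,1,3),(66,0,2),(81,4,0),(80,3,0),(79,7,0),(78,2,0),(82,4,1),(81,3,1),(80,7,1),(83,4,2),(98,7,5),(97,3,5),(99,7,4),(106,4,7),(107,4,3),(105,3,7),(104,2,7),(103,1,7),(102,0,7),(100,7,3),(98,3,4),(96,4,5),(95,2,5),(94,3,5),(93,7,5),(92,1,5),(91,2,5),(90,3,5),(88,5,4),(87,0,4),(86,1,4),(84,4,3),(82,3,2),(81,7,2),(79,2,1),(77,1,0),(76,3,0),(75,2,0),(74,4,0),(73,3,0),(72,7,0),(71,5,0),(70,4,0),(69,3,0),(67,0,1),(65,1,2),(63,2,3),(61,3,4),(59,4,5),(58,7,5),(57,3,5),(56,2,5),(55,1,5),(54,5,5),(57,7,4),(59,5,3),(70,5,7),(69,4,7),(71,5,3),(86,0,5),(85,1,5),(84,3,5),(87,0,4),(86,1,4),(88,0,3),(87,1,3),(85,3,4),(83,4,5),(8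2,2,5),(81,3,5),(80,7,5),(79,1,5),(78,2,5),(77,0,5),(76,1,5),(75,3,5),(74,2,5),(72,5,4),(70,4,3),(68,3,7),(67,1,7),(66,0,7),(65,2,7),(64,1,7),(68,1,3),(67,0,3),(74,4,2),(73,5,2),(83,2,4),(85,5,3),(89,0,2),(100,3,0),(99,7,0),(98,4,0),(97,3,0),(96,5,0),(95,4,0),(94,2,0),(93,3,0),(92,7,0),(90,0,1),(88,1,2),(87,4,2),(86,5,2),(84,2,3),(82,3,4),(81,7,4),(80,1,4),(79,2,4),(78,0,4),(77,1,4),(75,4,3),(74,5,3),(72,3,2),(71,4,2),(70,7,2),(77,3,1),(76,4,1),(75,5,1),(79,0,2),(92,1,7),(91,0,7),(90,2,7),(89,1,7),(88,4,7),(87,5,7),(93,1,3),(92,0,3),(101,3,1),(100,7,1),(99,4,1),(98,3,1),(97,5,1),(96,4,1),(94,1,2),(93,0,2),(91,2,3),(90,1,3),(96,2,4),(95,1,4),(94,0,4),(98,5,3),(102,3,2),(101,7,2),(100,4,2),(99,5,2),(97,2,3),(96,1,3),(95,0,3),(93,3,4),(92,2,4),(91,1,4),(89,4,3),(88,5,3),(86,3,7),(85,2,7),(84,4,7),(82,7,3),(81,1,3),(80,0,3),(78,3,2),(77,4,2),(76,5,2),(74,2,1),(73,3,1),(72,4,1),(71,7,1),(69,1,2),(68,0,2),(66,2,3),(65,1,3),(63,3,7),(62,2,7),(61,4,7),(60,5,7),(58,7,3),(56,3,4),(55,2,4),(54,1,4),(53,4,4),(60,4,2),(59,5,2),(70,7,4),(69,2,4),(68,1,4),(67,0,4),(80,1,7),(79,0,7)]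

theorem step3 : reduces 10 adj mv3 (mid2) (mid3) 3 = true := by decide +kernel

/-- intermediate word -/
def mid4 : List ℕ := [0,1,2,3,4,5,7,0,1,2,3,4,5,7,0,1,2,3,4,5,7,0,1,2,3,4,5,7,0,1,2,3,4,5,7,0,1,2,3,4,5,7,0,1,2,3,4,2,3,4,7,3,5,4,2,3,1,2,0,7,1,3,2,4,5,3,4,7,3,2,3,7,1,0,2,1,3,2,4,3,5,4,7,3,2,1,4,5,3,4,7,3,2,3]

/-- moves -/
def mv4 : List (ℕ × ℕ × ℕ) := [(78,2,7),(81,1,3),(80,0,3),(83,4,2),(89,3,1),(88,4,1),(87,5,1),(86,7,1),(85,3,1),(84,4,1),(82,1,2),(81,0,2),(79,2,3),(77,3,7),(76,4,7),(75,5,7),(74,1,7),(73,2,7),(71,7,3),(84,2,4),(83,1,4),(82,0,4),(90,3,2),(89,4,2),(88,5,2),(87,7,2),(85,2,3),(84,1,3),(83,0,3),(81,3,4),(80,2,4),(79,7,4),(77,4,3),(76,5,3),(75,1,3),(73,3,2),(72,7,2),(70,2,3),(69,1,3),(68,0,3),(66,3,4),(65,2,4),(64,1,4),(63,7,4),(61,4,3),(60,5,3),(58,3,2),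(57,7,2),(56,4,2),(54,2,3),(53,1,3),(52,3,3),(62,7,1),(61,3,1),(60,4,1),(59,5,1),(63,7,2),(70,3,7),(69,2,7),(68,1,7),(67,0,7),(66,4,7),(64,7,3),(62,3,2),(61,4,2),(60,5,2),(58,2,1),(57,3,1),(56,7,1),(55,4,1),(54,3,1),(52,1,2),(51,2,2),(50,1,1),(63,4,0),(62,3,0),(61,7,0),(60,2,0),(59,3,0),(58,4,0),(57,5,0),(64,4,1),(63,3,1),(62,7,1),(65,4,2),(82,7,5),(81,3,5),(80,2,5),(79,1,5),(78,0,5),(83,7,4),(93,4,7),(92,5,7),(97,7,4),(96,2,4),(94,4,3),(93,5,3),(91,3,7),(90,2,7),(89,1,7),(88,0,7),(87,4,7),(86,2,7),(84,7,3),(82,3,4),(81,2,4),(80,1,4),(79,0,4),(77,4,5),(76,3,5),(75,2,5),(74,7,5),(73,3,5),(71,5,4),(70,1,4),(69,2,4),(68,7,4),(66,4,3),(64,3,2),(63,7,2),(61,2,1),(60,3,1),(59,4,1),(58,5,1),(56,1,0),(55,2,0),(54,3,0),(53,7,0),(52,4,0),(51,3,0),(50,2,0),(49,0,0),(51,4,7),(69,1,5),(68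,2,5),(67,7,5),(66,3,5),(70,1,4),(69,2,4),(68,7,4),(71,1,3),(73,7,2),(86,4,0),(85,2,0),(84,3,0),(83,7,0),(82,4,0),(81,3,0),(80,2,0),(78,0,1),(77,5,1),(76,4,1),(75,3,1),(74,7,1),(72,1,2),(70,2,3),(74,2,7),(73,1,7),(87,4,1),(88,4,2),(86,2,1),(85,3,1),(84,7,1),(83,4,1),(82,3,1),(80,1,2),(79,0,2),(78,5,2),(77,4,2),(75,2,3),(74,1,3),(72,3,7),(71,2,7),(69,7,3),(67,3,4),(65,4,5),(64,2,5),(63,3,5),(62,7,5),(61,1,5),(60,2,5),(59,3,5),(57,5,4),(56,0,4),(55,1,4),(54,2,4),(52,4,3),(50,3,7),(49,2,7),(48,7,7),(55,0,5),(54,1,5),(53,2,5),(52,3,5),(56,0,4),(55,1,4),(54,2,4),(57,0,3),(56,1,3),(58,0,2),(77,5,0),(76,4,0),(75,3,0),(74,2,0),(78,5,1),(77,4,1),(76,3,1),(79,5,2),(78,4,2),(80,5,3),(89,7,5),(88,3,5),(90,7,4),(93,2,7),(91,7,3),(89,3,4),(87,4,5),(86,1,5),(85,2,5),(84,3,5),(83,7,5),(81,5,4),(79,4,3),(77,3,2),(75,2,1),(73,1,0),(72,7,0),(71,3,0),(70,2,0),(69,3,0),(68,7,0),(67,4,0),(66,3,0),(65,5,0),(64,4,0),(63,2,0),(62,3,0),(61,7,0),(59,0,1),(57,1,2),(55,2,3),(53,3,4),(51,4,5),(50,7,5),(49,3,5),(48,2,5),(47,5,5),(49,7,4),(51,5,3),(59,1,7)]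

theorem step4 : reduces 10 adj mv4 (mid3) (mid4) 6 = true := by decide +kernel

/-- intermediate word -/
def mid5 : List ℕ := [0,1,2,3,4,5,7,0,1,2,3,4,5,7,0,1,2,3,4,5,7,0,1,2,3,4,5,7,0,1,2,3,4,5,7,0,1,2,3,4,3,4,7,3,5,4,2,7,3,7,1,2,3,0,1,2,4,5,3,4,7,3,2,1,0,1,3,2,4,3,5,4,7,3,2,1,4,3,2,3]

/-- moves -/
def mv5 : List (ℕ × ℕ × ℕ) := [(58,0,7),(57,2,7),(56,1,7),(60,1,3),(59,0,3),(71,7,1),(70,3,1),(73,0,2),(72,7,2),(75,1,3),(74,0,3),(81,4,7),(80,5,7),(85,1,4),(84,2,4),(82,4,3),(81,5,3),(79,3,7),(78,4,7),(77,2,7),(76,1,7),(75,0,7),(73,7,3),(71,3,2),(69,2,1),(68,3,1),(67,7,1),(66,4,1),(65,3,1),(64,5,1),(63,4,1),(61,1,2),(60,0,2),(58,2,3),(57,1,3),(55,3,7),(54,2,7),(53,4,7),(52,5,7),(50,7,3),(48,3,4),(47,2,4),(46,4,4),(52,4,2),(51,5,2),(61,2,4),(60,1,4),(59,0,4),(63,5,3),(69,1,3),(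67,3,2),(66,7,2),(65,4,2),(64,5,2),(62,2,3),(61,1,3),(60,0,3),(58,3,4),(57,2,4),(56,1,4),(55,7,4),(53,4,3),(52,5,3),(50,3,2),(49,7,2),(48,4,2),(46,2,3),(45,3,3),(44,2,2),(52,7,1),(51,3,1),(50,4,1),(49,5,1),(53,7,2),(62,4,7),(61,5,7),(72,2,4),(71,1,4),(70,0,4),(81,5,3),(80,1,3),(78,3,2),(77,4,2),(76,5,2),(75,7,2),(73,2,3),(72,1,3),(71,0,3),(69,3,4),(68,7,4),(67,2,4),(66,1,4),(65,2,4),(63,4,3),(62,5,3),(60,3,7),(59,2,7),(58,1,7),(57,0,7),(56,4,7),(54,7,3),(52,3,2),(51,4,2),(50,5,2),(48,2,1),(47,3,1),(46,7,1),(45,4,1),(44,3,1),(43,1,1),(55,4,0),(54,3,0),(53,7,0),(52,2,0),(51,3,0),(50,4,0),(49,5,0),(56,4,1),(55,3,1),(54,7,1),(57,4,2),(74,7,5),(73,3,5),(72,2,5),(71,1,5),(70,0,5),(75,7,4),(81,4,7),(80,5,7),(79,1,7),(78,2,7),(76,7,3),(74,3,4),(73,2,4),(72,1,4),(71,0,4),(69,4,5),(68,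3,5),(67,7,5),(66,2,5),(65,1,5),(64,2,5),(63,3,5),(61,5,4),(60,7,4),(58,4,3),(56,3,2),(55,7,2),(53,2,1),(52,3,1),(51,4,1),(50,5,1),(48,1,0),(47,2,0),(46,3,0),(45,7,0),(44,4,0),(43,3,0),(42,0,0),(43,4,7),(59,7,5),(58,3,5),(60,7,4),(65,2,7),(64,1,7),(63,2,7),(61,7,3),(59,3,4),(57,4,5),(56,2,5),(55,3,5),(54,7,5),(53,1,5),(52,2,5),(51,3,5),(49,5,4),(48,0,4),(47,1,4),(46,2,4),(44,4,3),(42,3,7),(41,7,7),(47,0,5),(46,1,5),(45,2,5),(44,3,5),(48,0,4),(47,1,4),(46,2,4),(49,0,3),(48,1,3),(50,0,2),(67,5,0),(66,4,0),(65,3,0),(64,2,0),(68,5,1),(67,4,1),(66,3,1),(69,5,2),(68,4,2),(70,5,3),(76,1,5),(75,2,5),(74,3,5),(73,7,5),(71,5,4),(69,4,3),(67,3,2),(65,2,1),(63,1,0),(62,2,0),(61,3,0),(60,7,0),(59,4,0),(58,3,0),(57,5,0),(56,4,0),(55,2,0),(54,3,0),(53,7,0),(51,0,1),(49,1,2),(47,2,3),(45,3,4),(43,4,5),(42,7,5),(41,3,5),(40,5,5),(41,7,4),(43,5,3),(51,1,7),(50,0,7),(49,2,7),(48,1,7),(52,1,3),(51,0,3),(63,0,2),(61,2,1),(60,3,1),(59,7,1),(58,4,1),(57,3,1),(56,5,1),(55,4,1),(53,1,2),(52,0,2),(50,2,3),(49,1,3),(47,3,7)]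

theorem step5 : reduces 10 adj mv5 (mid4) (mid5) 7 = true := by decide +kernel

/-- intermediate word -/
def mid6 : List ℕ := [0,1,2,3,4,5,7,0,1,2,3,4,5,7,7,4,3,7,5,4,3,2,1,0,7,3,2,1]

/-- moves -/
def mv6 : List (ℕ × ℕ × ℕ) := [(46,2,7),(45,4,7),(44,5,7),(42,7,3),(40,3,4),(39,4,4),(38,3,3),(42,4,2),(41,5,2),(51,2,4),(50,1,4),(49,0,4),(53,5,3),(61,1,3),(60,0,3),(59,1,3),(57,3,2),(56,7,2),(55,4,2),(54,5,2),(52,2,3),(51,1,3),(50,0,3),(48,3,4),(47,2,4),(46,1,4),(45,7,4),(43,4,3),(42,5,3),(40,3,2),(39,7,2),(38,4,2),(37,2,2),(44,7,1),(43,3,1),(42,4,1),(41,5,1),(45,7,2),(54,4,7),(53,5,7),(61,2,4),(60,1,4),(59,0,4),(58,1,4),(57,2,4),(55,4,3),(54,5,3),(52,3,7),(51,2,7),(50,1,7),(49,0,7),(48,4,7),(46,7,3),(44,3,2),(43,4,2),(42,5,2),(40,2,1),(39,3,1),(38,7,1),(37,4,1),(36,1,1),(47,4,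0),(46,3,0),(45,7,0),(44,2,0),(43,3,0),(42,4,0),(41,5,0),(48,4,1),(47,3,1),(46,7,1),(49,4,2),(61,3,5),(60,2,5),(59,1,5),(58,0,5),(57,1,5),(56,2,5),(55,3,5),(53,5,4),(52,7,4),(50,4,3),(48,3,2),(47,7,2),(45,2,1),(44,3,1),(43,4,1),(42,5,1),(40,1,0),(39,2,0),(38,3,0),(37,7,0),(36,4,0),(35,0,0),(35,4,7),(34,7,7),(38,0,5),(37,1,5),(36,2,5),(35,3,5),(39,0,4),(38,1,4),(37,2,4),(40,0,3),(39,1,3),(41,0,2),(54,1,0),(53,2,0),(52,3,0),(51,4,0),(50,5,0),(49,7,0),(48,3,0),(47,4,0),(46,2,0),(45,3,0),(44,7,0),(42,0,1),(40,1,2),(38,2,3),(36,3,4),(34,4,5),(33,5,5),(32,4,4),(32,5,3),(31,3,3),(32,4,2),(31,5,2),(30,2,2),(32,3,1),(31,4,1),(30,5,1),(29,1,1),(32,2,0),(31,3,0),(30,4,0),(29,5,0),(28,0,0),(32,1,7),(31,2,7),(33,1,3),(44,0,2),(42,2,1),(41,3,1),(40,4,1),(39,5,1),(38,7,1),(37,3,1),(36,4,1),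(34,1,2),(32,2,3),(30,3,7),(29,4,7),(28,5,7),(27,7,7),(26,5,5),(25,4,4),(24,3,3),(24,7,2),(23,2,2),(24,3,1),(23,7,1),(22,1,1),(41,3,2),(40,4,2),(38,2,1),(37,3,1),(36,7,1),(35,4,1),(34,3,1),(32,1,0),(31,2,0),(30,3,0),(29,4,0),(28,5,0),(27,7,0),(26,3,0),(25,4,0),(24,2,0),(23,3,0),(22,7,0),(21,0,0),(20,7,7),(24,7,5),(23,3,5),(25,7,4),(32,4,7),(36,1,4),(35,2,4),(33,4,3),(31,3,7),(30,0,7),(29,1,7),(28,2,7),(26,7,3),(24,3,4),(22,4,5),(21,2,5),(20,3,5),(19,5,5),(20,2,4),(22,5,3),(29,0,3),(28,1,3),(26,3,2),(25,7,2),(24,4,2),(23,5,2),(21,2,3),(19,3,4),(18,4,4),(17,3,3),(17,4,2),(16,2,2),(29,1,3),(27,3,2),(26,4,2),(25,7,2),(24,0,2),(22,2,1),(21,3,1),(20,7,1),(19,4,1),(18,5,1),(17,3,1),(16,4,1),(15,1,1),(27,2,1),(26,3,1),(25,4,1),(24,7,1),(22,1,0),(21,2,0),(20,3,0),(19,7,0),(18,4,0),(17,5,0),(16,3,0),(15,4,0),(14,0,0),(17,4,7),(16,5,7),(23,7,4),(22,0,4),(21,1,4),(20,2,4),(18,4,3),(17,5,3),(15,3,7),(14,4,7)]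

theorem step6 : reduces 10 adj mv6 (mid5) (mid6) 26 = true := by decide +kernel

/-- moves -/
def mv7 : List (ℕ × ℕ × ℕ) := [(13,7,7),(15,7,5),(14,3,5),(16,7,4),(21,0,7),(20,1,7),(19,2,7),(17,7,3),(15,3,4),(13,4,5),(12,5,5),(11,4,4),(11,5,3),(10,3,3),(16,0,3),(15,1,3),(13,3,2),(12,7,2),(11,4,2),(10,5,2),(9,2,2),(15,0,2),(13,2,1),(12,3,1),(11,7,1),(10,4,1),(9,5,1),(8,1,1),(13,1,0),(12,2,0),(11,3,0),(10,7,0),(9,4,0),(8,5,0),(7,0,0),(8,4,7),(7,5,7),(6,7,7),(5,5,5),(4,4,4),(3,3,3),(2,2,2),(1,1,1),(0,0,0)]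

theorem step7 : reduces 10 adj mv7 (mid6) ([]) 14 = true := by decide +kernel

theorem red.{u} : RedP.{u} 10 adj (relTwo ++ relTwo) ([]) 63 :=
  RedP.trans (RedP.trans (RedP.trans (RedP.trans (RedP.trans (RedP.trans (RedP.trans (RedP.of_reduces step0) (RedP.of_reduces step1)) (RedP.of_reduces step2)) (RedP.of_reduces step3)) (RedP.of_reduces step4)) (RedP.of_reduces step5)) (RedP.of_reduces step6)) (RedP.of_reduces step7)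

end CfsgLib.Fi23Mult.Sq
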