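import Cfsg.Agent.Fi23Mult.Words

/-! Generated: kernel checks of one rewriting certificate, in pieces. -/

set_option autoImplicit false
set_option maxRecDepth 100000
set_option maxHeartbeats 2000000
set_option Elab.async false

namespace CfsgLib.Fi23Mult.Three

open CfsgLib.Schur.CoxLift

/-- intermediate word -/
def mid0 : List ℕ := [3,2,1,3,4,5,3,7,8,3,2,1,3,4,5,3,7,8,3,2,1,3,4,5,3,7,8,3,2,1,3,4,5,3,7,8,3,2,1,3,4,5,3,7,8,3,2,1,3,4,5,3,7,8,3,2,1,3,4,5,3,7,8,3,2,1,3,4,5,3,7,8,3,2,1,3,4,5,3,7,8,3,2,1,3,4,5,3,7,8,8,7,5,1,3,2,1,3,4,5,3,7,8,3,2,1,3,4,5,3,7,8,3,2,1,3,4,5,3,7,8,3,2,1,3,4,5,3,7,8,3,2,1,3,4,5,3,7,8,3,2,1,3,4,5,3,7,8,3,2,1,3,4,5,3,7,2,3,7,1,2,3,5,4,3,2,8,7,3,4,1,2,3,5,4,3,7,8,7,3,2,1,4,5,3,7,3,8,2,1,3,4,5,3,7,8,3,2,1,3,4,5,3,7,8,3,2,1,3,4,5,3,7,8,3,2,1,3,4,5,3,7,8,3,2,1,3,4,5,3,7,8,3,2,1,4,3,2]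

/-- moves -/
def mv0 : List (ℕ × ℕ × ℕ) := [(285,4,8),(284,5,8),(283,2,8),(282,8,8),(284,4,7),(283,5,7),(282,2,7),(281,7,7),(281,2,5),(280,3,5),(279,5,5),(280,2,4),(278,4,3),(277,3,3),(195,1,3),(193,3,2),(192,2,2),(187,8,7),(186,7,7),(185,5,8),(184,1,8),(183,8,8),(184,5,7),(183,1,7),(182,7,7),(185,5,3),(188,1,4),(187,2,4),(189,1,5),(188,2,5),(186,5,4),(184,4,3),(183,5,3),(182,1,3),(181,3,3),(181,1,5),(180,5,5),(180,1,4),(179,4,4),(179,1,3),(178,3,3),(177,1,1),(178,4,2),(177,5,2),(176,2,2),(175,3,5),(174,8,5),(173,7,5),(172,3,5),(171,5,5),(176,1,3),(174,3,4),(173,8,4),(172,7,4),(174,8,3),(177,1,7),(176,4,7),(178,1,8),(177,4,8),(175,8,7),(173,7,3),(171,3,4),(170,4,4),(169,3,3),(174,4,1),(173,7,1),(172,8,1),(171,3,1),(170,7,1),(169,4,1),(168,1,1),(176,1,3),(174,3,2),(173,4,2),(172,7,2),(171,8,2),(177,1,4),(176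,2,4),(174,4,3),(182,8,3),(180,3,7),(179,5,7),(178,1,7),(177,2,7),(180,5,3),(179,1,3),(183,8,2),(182,7,2),(181,5,2),(184,8,1),(183,7,1),(182,5,1),(180,1,2),(178,2,3),(176,3,7),(175,4,7),(173,7,3),(172,8,3),(170,3,2),(169,7,2),(168,4,2),(167,2,2),(170,2,8),(169,3,8),(171,2,7),(176,7,2),(181,5,7),(180,2,7),(179,1,7),(177,7,3),(175,3,2),(174,4,2),(172,2,3),(170,3,7),(168,7,8),(167,4,8),(166,3,8),(165,8,8),(166,4,7),(168,8,3),(172,3,4),(171,2,4),(170,7,4),(169,8,4),(167,4,3),(165,3,7),(164,7,7),(163,3,3),(163,7,4),(175,2,5),(174,1,5),(173,3,5),(172,7,5),(171,2,5),(180,5,3),(178,3,4),(177,8,4),(176,2,4),(175,1,4),(178,8,3),(186,1,3),(184,3,2),(183,8,2),(182,7,2),(181,5,2),(180,4,2),(179,8,2),(177,2,3),(176,1,3),(174,3,4),(173,7,4),(172,2,4),(170,4,5),(169,3,5),(168,2,5),(167,7,5),(166,8,5),(165,3,5),(164,7,5),(162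,5,4),(161,4,4),(159,1,3),(166,7,2),(165,8,2),(171,2,7),(170,5,7),(169,4,7),(167,7,3),(166,8,3),(164,3,2),(163,7,2),(162,4,2),(161,5,2),(174,4,1),(173,3,1),(175,4,2),(178,8,4),(176,4,3),(174,3,2),(172,2,1),(171,5,1),(170,4,1),(169,3,1),(168,7,1),(167,8,1),(172,5,2),(171,4,2),(174,1,3),(173,5,3),(176,2,4),(175,1,4),(179,8,5),(178,3,5),(177,2,5),(176,1,5),(174,5,4),(172,4,3),(170,3,2),(169,7,2),(168,8,2),(166,2,1),(165,3,1),(164,7,1),(163,4,1),(162,5,1),(160,1,2),(158,2,3),(157,3,3),(166,1,8),(165,2,8),(164,3,8),(167,1,7),(166,2,7),(168,1,3),(174,4,1),(173,5,1),(172,3,1),(171,4,1),(169,1,2),(167,2,3),(165,3,7),(163,7,8),(162,4,8),(161,5,8),(160,2,8),(159,1,8),(158,3,8),(157,2,8),(156,8,8),(161,4,7),(160,5,7),(159,2,7),(158,1,7),(163,8,3),(169,2,4),(168,1,4),(173,4,2),(172,5,2),(170,2,3),(169,1,3),(167,3,4),(166,2,4),(165,7,4),(164,8,4),(162,4,3),(161,5,3),(166,7,2),(165,8,2),(176,8,7),(186,8,3)]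

theorem step0 : reduces 10 adj mv0 (conjs threeConj) (mid0) 25 = true := by decide +kernel

/-- intermediate word -/
def mid1 : List ℕ := [3,2,1,3,4,5,3,7,8,3,2,1,3,4,5,3,7,8,3,2,1,3,4,5,3,7,8,3,2,1,3,4,5,3,7,8,3,2,1,3,4,5,3,7,8,3,2,1,3,4,5,3,7,8,3,2,1,3,4,5,3,7,8,3,2,1,3,4,5,3,7,8,3,2,1,3,4,5,3,7,8,3,2,1,3,4,5,3,7,8,8,7,5,1,3,2,1,3,4,5,3,7,8,3,2,1,3,4,5,3,7,8,3,2,1,3,4,5,3,7,8,3,2,1,3,4,5,3,7,8,3,2,1,3,4,5,3,7,8,3,2,1,3,4,5,3,7,8,7,1,2,3,7,8,4,3,7,8,2,3,7,4,3,1,2,3,4,7,8,5,4,3,2,1,7,3,4,8,7,3,2,3,7,4,3,5,4,8,2,1,3,7,8,3,2,1,3,4,5,3,7,8,3,2,1,3,4,5,3,7,8,3,2,1,3,4,5,3,7,8,3,2,1,4,3,2]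

/-- moves -/
def mv1 : List (ℕ × ℕ × ℕ) := [(184,3,7),(183,5,7),(182,4,7),(181,1,7),(180,2,7),(178,7,3),(177,8,3),(175,3,7),(174,4,7),(173,5,7),(182,1,4),(181,2,4),(184,5,3),(183,1,3),(187,8,2),(186,7,2),(185,5,2),(188,8,1),(187,7,1),(186,5,1),(184,1,2),(182,2,3),(180,3,4),(179,7,4),(178,8,4),(177,7,4),(175,4,3),(174,5,3),(172,3,7),(171,2,7),(170,1,7),(169,4,7),(167,7,3),(166,8,3),(164,3,2),(163,4,2),(162,5,2),(160,2,3),(159,1,3),(157,3,7),(156,2,7),(155,7,7),(160,3,5),(159,2,5),(158,1,5),(157,7,5),(156,3,5),(155,2,5),(154,3,5),(153,5,5),(159,3,4),(158,2,4),(157,1,4),(156,7,4),(161,4,2),(159,2,3),(158,1,3),(174,7,8),(173,3,8),(172,4,8),(171,5,8),(176,8,3),(174,3,7),(173,4,7),(172,5,7),(170,7,8),(169,3,8),(168,2,8),(167,1,8),(166,4,8),(165,3,8),(163,8,7),(162,4,7),(177,8,4),(176,7,4),(174,4,3),(173,5,3),(172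,8,3),(170,3,7),(169,2,7),(168,1,7),(167,4,7),(165,7,3),(164,8,3),(178,8,2),(177,7,2),(179,8,3),(183,5,7),(182,2,7),(181,1,7),(184,5,8),(183,2,8),(182,1,8),(180,8,7),(178,7,3),(176,3,2),(175,4,2),(174,5,2),(173,8,2),(172,7,2),(170,2,3),(169,1,3),(167,3,4),(166,7,4),(165,8,4),(163,4,3),(161,3,7),(160,2,7),(159,1,7),(157,7,3),(155,3,4),(154,2,4),(169,4,1),(168,3,1),(167,7,1),(166,8,1),(165,3,1),(164,4,1),(163,7,1),(162,3,1),(160,1,2),(170,4,2),(184,2,5),(183,1,5),(182,7,5),(181,8,5),(180,3,5),(179,7,5),(178,2,5),(177,3,5),(175,5,4),(174,8,4),(173,7,4),(171,4,3),(169,3,2),(168,7,2),(167,8,2),(188,5,3),(186,3,4),(185,2,4),(184,1,4),(183,7,4),(182,8,4),(194,1,3),(192,3,2),(191,8,2),(190,7,2),(189,5,2),(188,4,2),(186,2,3),(185,1,3),(190,5,7),(189,4,7),(192,8,3),(191,5,3),(195,1,4),(194,2,4),(193,8,4),(196,1,5),(195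,2,5),(194,8,5),(192,5,4),(190,4,3),(188,3,7),(187,2,7),(186,1,7),(184,7,3),(183,8,3),(181,3,4),(180,7,4),(179,2,4),(177,4,3),(176,5,3),(175,8,3),(173,3,7),(172,4,7),(171,2,7),(169,7,3),(168,8,3),(166,3,2),(165,4,2),(164,7,2),(162,2,3),(161,1,3),(159,3,2),(158,7,2),(157,4,2),(155,2,3),(153,3,4),(152,4,4),(151,3,3),(151,4,2),(157,2,1),(156,3,1),(155,7,1),(154,4,1),(153,3,1),(152,4,1),(150,1,2),(149,2,2),(151,4,3),(157,1,3),(155,3,2),(154,7,2),(158,1,7),(157,2,7),(155,7,3),(153,3,2),(152,4,2),(150,2,3),(149,1,3),(148,3,3),(153,2,7),(154,2,3),(152,3,7),(151,4,7),(157,1,4),(158,1,3),(156,3,4),(155,2,4),(154,7,4),(152,4,3),(150,3,7),(149,2,7),(148,1,7),(160,2,8),(159,1,8),(158,4,8),(157,3,8),(156,2,8),(161,2,7),(160,1,7),(159,4,7),(162,2,3),(161,1,3),(164,3,4),(163,2,4),(162,1,4),(160,4,3),(158,3,7),(157,2,7),(155,7,8),(154,3,8),(153,4,8),(178,3,1),(177,7,1),(176,8,1),(175,4,1),(174,3,1),(173,7,1)]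

theorem step1 : reduces 10 adj mv1 (mid0) (mid1) 6 = true := by decide +kernel

/-- intermediate word -/
def mid2 : List ℕ := [3,2,1,3,4,5,3,7,8,3,2,1,3,4,5,3,7,8,3,2,1,3,4,5,3,7,8,3,2,1,3,4,5,3,7,8,3,2,1,3,4,5,3,7,8,3,2,1,3,4,5,3,7,8,3,2,1,3,4,5,3,7,8,3,2,1,3,4,5,3,7,8,3,2,1,3,4,5,3,7,8,3,2,1,3,4,5,3,7,8,8,7,5,1,3,2,1,3,4,5,3,7,8,3,2,1,3,4,5,3,7,8,3,2,1,3,4,5,3,7,8,3,2,1,3,4,5,3,7,8,3,2,1,3,4,5,3,7,8,3,2,3,2,4,3,5,4,2,8,7,3,4,5,8,7,8,2,3,4,7,3,5,4,2,3,7,1,2,3,7,4,3,2,5,4,3,1,8,7,3,4,5,2,3,7,4,3,2,8,7,3,2,1,2,3,7,4,3,5,4,5,8,2,1,3,7,8,3,2,1,3,4,5,3,7,8,3,2,1,4,3,2]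

/-- moves -/
def mv2 : List (ℕ × ℕ × ℕ) := [(179,3,2),(178,7,2),(177,8,2),(176,4,2),(181,2,7),(179,7,3),(178,8,3),(182,2,4),(187,8,2),(186,4,2),(185,5,2),(183,2,3),(181,3,4),(180,7,4),(179,8,4),(177,4,3),(175,3,2),(174,7,2),(172,2,1),(171,3,1),(170,4,1),(169,5,1),(168,8,1),(167,7,1),(166,4,1),(165,3,1),(163,1,2),(187,4,8),(186,5,8),(185,3,8),(184,2,8),(183,4,8),(182,3,8),(180,8,7),(192,8,3),(190,3,7),(189,1,7),(188,4,7),(187,5,7),(190,1,3),(198,5,3),(196,3,4),(195,1,4),(194,2,4),(193,8,4),(192,7,4),(191,1,4),(189,4,3),(188,5,3),(186,3,7),(185,2,7),(184,4,7),(182,7,3),(181,8,3),(179,3,7),(178,4,7),(177,2,7),(175,7,3),(174,1,3),(172,3,2),(171,4,2),(170,5,2),(169,8,2),(168,7,2),(167,4,2),(165,2,3),(164,1,3),(162,3,2),(161,4,2),(160,7,2),(158,2,3),(157,8,3),(155,3,7),(154,4,7),(152,7,8),(151,3,8),(150,2,8),(149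,1,8),(147,8,7),(146,7,7),(147,7,1),(146,8,1),(145,3,1),(144,5,1),(143,4,1),(142,3,1),(141,1,1),(146,7,2),(145,8,2),(147,7,3),(146,8,3),(144,3,2),(143,5,2),(142,4,2),(144,5,3),(150,8,4),(151,8,3),(149,3,4),(148,7,4),(147,8,4),(146,2,4),(166,8,5),(165,7,5),(167,8,4),(166,7,4),(164,4,5),(163,3,5),(162,2,5),(161,1,5),(160,2,5),(159,3,5),(168,8,3),(171,1,7),(170,2,7),(177,7,8),(176,3,8),(175,4,8),(174,2,8),(173,3,8),(172,1,8),(171,2,8),(169,8,7),(167,7,3),(166,5,3),(164,3,4),(163,2,4),(162,1,4),(161,2,4),(171,7,2),(170,8,2),(173,1,3),(179,8,3),(177,3,7),(176,4,7),(175,2,7),(174,1,7),(172,7,3),(171,8,3),(169,3,2),(168,7,2),(167,5,2),(166,4,2),(164,2,3),(163,1,3),(174,3,1),(173,7,1),(172,8,1),(180,8,4),(179,7,4),(177,4,3),(175,3,2),(174,7,2),(173,8,2),(171,2,1),(170,3,1),(169,7,1),(168,5,1),(167,4,1),(166,3,1),(164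,1,2),(162,2,3),(160,3,4),(158,4,5),(157,7,5),(156,3,5),(155,2,5),(154,8,5),(153,7,5),(152,8,5),(158,7,4),(160,5,3),(169,5,7),(168,4,7),(170,5,3),(177,2,4),(181,8,2),(180,7,2),(178,2,3),(176,3,4),(175,7,4),(174,8,4),(173,1,4),(172,2,4),(184,7,5),(183,3,5),(182,8,5),(181,7,5),(180,3,5),(179,2,5),(185,7,4),(188,1,7),(186,7,3),(184,3,4),(183,8,4),(182,7,4),(184,8,3),(186,4,7),(189,1,8),(188,3,8),(187,4,8),(185,8,7),(183,7,3),(181,3,4),(180,2,4),(178,4,5),(177,3,5),(176,7,5),(175,8,5),(174,1,5),(173,2,5),(171,5,4),(169,4,3),(167,3,7),(166,2,7),(165,1,7),(173,4,2),(172,5,2),(183,4,7),(187,7,4),(186,8,4),(184,4,3),(182,3,7),(181,2,7),(180,5,7),(179,4,7),(177,7,3),(176,8,3),(175,1,3),(190,1,2),(200,1,3),(198,3,2),(197,8,2),(196,7,2),(195,5,2),(194,4,2),(192,2,3),(191,1,3),(189,3,2),(188,7,2),(187,8,2),(196,5,7),(195,4,7),(198,8,3),(197,5,3),(201,1,4),(200,2,4),(199,8,4),(202,1,5),(201,2,5),(200,8,5)]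

theorem step2 : reduces 10 adj mv2 (mid1) (mid2) 2 = true := by decide +kernel

/-- intermediate word -/
def mid3 : List ℕ := [3,2,1,3,4,5,3,7,8,3,2,1,3,4,5,3,7,8,3,2,1,3,4,5,3,7,8,3,2,1,3,4,5,3,7,8,3,2,1,3,4,5,3,7,8,3,2,1,3,4,5,3,7,8,3,2,1,3,4,5,3,7,8,3,2,1,3,4,5,3,7,8,3,2,1,3,4,5,3,7,8,3,2,1,3,4,5,3,7,8,8,7,5,1,3,2,1,3,4,5,3,7,8,3,2,1,3,4,5,3,7,8,3,2,1,3,4,5,3,7,8,3,2,1,3,4,5,3,7,8,3,2,1,3,4,5,3,2,4,5,3,4,7,3,2,3,7,4,3,5,8,7,3,4,3,5,4,2,3,7,8,1,2,3,7,8,4,3,7,2,3,4,5,4,3,2,7,3,4,1,2,3,4,7,3,2,1,8,7,3,4,2,3,7,1,2,3,5,4,3,2,7,3,8,7,1,4,5,3,2,1,4,3,2]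

/-- moves -/
def mv3 : List (ℕ × ℕ × ℕ) := [(198,5,4),(196,4,3),(194,3,7),(193,2,7),(192,1,7),(191,2,7),(189,7,3),(188,8,3),(186,3,2),(185,4,2),(184,7,2),(182,2,3),(181,5,3),(179,3,4),(178,7,4),(177,8,4),(176,1,4),(174,4,3),(173,5,3),(171,3,2),(170,4,2),(169,7,2),(167,2,3),(166,1,3),(164,3,7),(163,2,7),(162,4,7),(161,5,7),(159,7,3),(157,3,4),(156,2,4),(155,8,4),(154,7,4),(153,8,4),(151,4,5),(150,3,5),(149,7,5),(148,8,5),(147,2,5),(145,5,4),(143,4,3),(141,3,2),(140,2,2),(139,3,3),(144,2,8),(143,4,8),(142,5,8),(141,3,8),(140,4,8),(139,2,8),(138,8,8),(143,2,7),(142,4,7),(141,5,7),(150,8,2),(149,7,2),(148,8,2),(147,5,2),(146,4,2),(144,2,3),(151,8,3),(153,4,7),(171,1,8),(170,3,8),(169,4,8),(168,5,8),(167,2,8),(166,3,8),(165,4,8),(172,1,7),(173,1,3),(171,3,7),(170,4,7),(169,5,7),(168,2,7),(174,1,4),(173,7,4),(171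,4,3),(170,5,3),(176,5,2),(186,2,1),(185,3,1),(184,7,1),(183,8,1),(188,1,3),(186,3,2),(185,7,2),(184,8,2),(182,2,1),(181,3,1),(180,4,1),(179,7,1),(178,3,1),(177,5,1),(175,1,2),(174,7,2),(178,5,3),(189,1,7),(188,2,7),(186,7,3),(185,8,3),(184,1,3),(182,3,2),(181,4,2),(180,7,2),(179,5,2),(177,2,3),(176,1,3),(180,5,7),(190,1,4),(189,2,4),(191,1,3),(195,8,2),(194,4,2),(193,5,2),(196,8,1),(195,4,1),(194,5,1),(192,1,2),(190,2,3),(188,3,4),(187,7,4),(186,8,4),(185,1,4),(184,2,4),(182,4,3),(181,5,3),(179,3,7),(178,2,7),(177,1,7),(175,7,3),(173,3,2),(172,4,2),(171,5,2),(169,2,3),(167,3,7),(166,4,7),(164,7,8),(163,3,8),(162,2,8),(161,1,8),(181,7,5),(180,3,5),(179,2,5),(178,1,5),(177,3,5),(176,7,5),(175,2,5),(174,3,5),(172,5,4),(182,7,4),(196,4,8),(195,5,8),(194,2,8),(193,1,8),(192,3,8),(191,2,8),(190,4,8),(189,3,8),(187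,8,7),(186,1,7),(185,2,7),(183,7,3),(181,3,4),(180,2,4),(179,1,4),(200,8,3),(198,3,7),(197,4,7),(196,5,7),(195,2,7),(194,1,7),(206,5,3),(204,3,4),(203,1,4),(202,2,4),(201,8,4),(200,7,4),(198,4,3),(197,5,3),(202,8,2),(201,7,2),(204,1,3),(203,8,3),(207,5,7),(206,4,7),(205,1,7),(208,5,8),(207,4,8),(206,1,8),(204,8,7),(202,7,3),(200,3,2),(199,4,2),(198,5,2),(196,2,3),(195,1,3),(193,3,7),(192,2,7),(191,4,7),(189,7,3),(188,8,3),(187,1,3),(185,3,2),(184,7,2),(183,4,2),(181,2,3),(180,1,3),(178,3,4),(177,7,4),(176,2,4),(174,4,3),(173,5,3),(171,3,4),(170,2,4),(169,7,4),(167,4,3),(166,8,3),(164,3,7),(163,2,7),(162,1,7),(160,7,8),(159,3,8),(158,2,8),(157,4,8),(156,5,8),(155,3,8),(154,4,8),(152,8,7),(150,7,3),(149,8,3),(148,5,3),(146,3,4),(145,2,4),(143,4,3),(142,5,3),(140,3,7),(139,4,7),(138,2,7),(137,7,7),(140,7,5),(139,3,5),(141,7,4),(150,3,8),(148,8,7),(147,5,7),(146,4,7),(150,7,3),(149,8,3),(148,5,3)]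

theorem step3 : reduces 10 adj mv3 (mid2) (mid3) 4 = true := by decide +kernel

/-- intermediate word -/
def mid4 : List ℕ := [3,2,1,3,4,5,3,7,8,3,2,1,3,4,5,3,7,8,3,2,1,3,4,5,3,7,8,3,2,1,3,4,5,3,7,8,3,2,1,3,4,5,3,7,8,3,2,1,3,4,5,3,7,8,3,2,1,3,4,5,3,7,8,3,2,1,3,4,5,3,7,8,3,2,1,3,4,5,3,7,8,3,2,1,3,4,5,3,7,8,8,7,5,1,3,2,1,3,4,5,3,7,8,3,2,1,3,4,5,3,7,8,3,2,1,3,4,5,3,8,7,3,2,3,7,8,4,3,2,7,3,4,1,2,3,5,4,3,2,1,8,7,3,4,7,2,3,7,1,5,4,3,8,7,3,4,2,3,4,5,7,3,4,1,2,3,4,7,3,2,1,8,7,3,4,2,3,7,1,2,3,5,4,3,2,7,3,8,7,1,4,5,3,2,1,4,3,2]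

/-- moves -/
def mv4 : List (ℕ × ℕ × ℕ) := [(152,3,4),(151,7,4),(150,8,4),(154,4,5),(153,3,5),(152,7,5),(151,8,5),(149,5,4),(147,4,3),(145,3,7),(144,2,7),(142,7,3),(140,3,4),(138,4,5),(137,2,5),(136,3,5),(135,5,5),(136,2,4),(138,5,3),(142,3,2),(141,7,2),(140,4,2),(139,5,2),(137,2,3),(135,3,4),(134,4,4),(133,3,3),(129,8,3),(137,4,7),(136,5,7),(141,7,4),(140,2,4),(138,4,3),(137,5,3),(135,3,7),(134,2,7),(133,4,7),(132,1,7),(131,2,7),(145,4,8),(144,5,8),(143,3,8),(146,4,7),(145,5,7),(147,4,3),(146,5,3),(144,3,7),(142,7,8),(141,2,8),(140,3,8),(139,4,8),(138,5,8),(142,2,7),(144,8,3),(150,5,2),(151,5,3),(149,3,2),(148,4,2),(147,5,2),(146,7,2),(145,8,2),(143,2,3),(141,3,7),(140,4,7),(139,5,7),(137,7,8),(136,3,8),(135,2,8),(134,4,8),(133,1,8),(132,2,8),(130,8,7),(128,7,3),(127,3,3),(137,8,5),(136,7,5),(135,3,5),(134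,2,5),(138,8,4),(137,7,4),(139,8,3),(143,3,8),(142,2,8),(140,8,7),(138,7,3),(136,3,4),(135,2,4),(133,4,5),(132,1,5),(131,2,5),(130,7,5),(129,8,5),(128,3,5),(127,7,5),(126,5,5),(133,5,2),(132,4,2),(130,2,1),(129,7,1),(128,8,1),(127,3,1),(126,7,1),(125,4,1),(124,3,1),(123,1,1),(128,7,2),(127,8,2),(132,5,3),(141,7,5),(140,3,5),(139,2,5),(138,7,5),(137,8,5),(136,3,5),(135,7,5),(133,5,4),(131,4,3),(130,1,3),(135,4,7),(134,5,7),(142,7,4),(146,5,7),(145,2,7),(143,7,3),(141,3,4),(140,2,4),(139,7,4),(138,8,4),(136,4,3),(135,5,3),(133,3,7),(132,4,7),(131,1,7),(129,7,3),(128,8,3),(126,3,2),(125,7,2),(124,4,2),(122,2,3),(121,3,3),(123,4,7),(130,1,4),(131,1,3),(129,3,4),(128,7,4),(127,8,4),(126,2,4),(124,4,3),(122,3,7),(121,2,7),(127,2,8),(126,3,8),(125,4,8),(128,2,7),(138,7,2),(137,8,2),(141,4,7),(139,7,3),(138,8,3),(136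,3,2),(135,4,2),(134,5,2),(133,7,2),(146,8,1),(145,5,1),(147,8,2),(146,5,2),(144,2,1),(143,3,1),(142,4,1),(141,3,1),(140,7,1),(139,8,1),(148,8,3),(147,5,3),(146,1,3),(144,3,2),(143,4,2),(151,8,4),(150,7,4),(149,8,4),(157,4,5),(156,3,5),(155,2,5),(154,7,5),(153,3,5),(152,8,5),(151,7,5),(150,8,5),(148,5,4),(147,1,4),(146,2,4),(144,4,3),(142,3,2),(141,7,2),(140,8,2),(138,2,1),(137,3,1),(136,4,1),(135,5,1),(134,7,1),(132,1,2),(131,4,2),(129,2,3),(127,3,7),(126,4,7),(124,7,8),(123,3,8),(122,2,8),(120,8,7),(119,7,7),(127,7,2),(132,2,7),(131,1,7),(130,4,7),(128,7,3),(126,3,2),(125,4,2),(124,8,2),(123,7,2),(121,2,3),(142,2,4),(143,2,3),(141,3,4),(140,7,4),(139,8,4),(138,1,4),(137,2,4),(135,4,3),(134,5,3),(149,8,7),(148,4,7),(147,5,7),(146,1,7),(151,7,3),(150,8,3),(157,5,3),(155,3,4),(154,2,4),(158,5,2),(157,4,2),(155,2,3),(153,3,4),(152,7,4),(151,8,4),(149,4,3),(148,5,3),(147,1,3),(145,3,7),(144,2,7)]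

theorem step4 : reduces 10 adj mv4 (mid3) (mid4) 8 = true := by decide +kernel

/-- intermediate word -/
def mid5 : List ℕ := [3,2,1,3,4,5,3,7,8,3,2,1,3,4,5,3,7,8,3,2,1,3,4,5,3,7,8,3,2,1,3,4,5,3,7,8,3,2,1,3,4,5,3,7,8,3,2,1,3,4,5,3,7,8,3,2,1,3,4,5,3,7,8,3,2,1,3,4,5,3,7,8,3,2,1,3,4,5,3,7,8,3,2,1,3,4,5,3,7,8,8,7,5,1,3,2,1,3,4,5,3,7,8,3,2,1,3,4,7,3,2,1,3,2,7,3,4,3,7,5,4,3,2,3,4,7,3,8,7,3,4,2,3,5,4,1,2,3,4,5,7,8,3,7,4,3,2,3,4,1,2,3,7,3,2,4,3,5,4,3,7,2,1,8,7,3,4,2,3,7,1,2,5,3,4,3,2,7,3,8,7,1,4,5,3,2,1,4,3,2]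

/-- moves -/
def mv5 : List (ℕ × ℕ × ℕ) := [(143,4,7),(141,7,3),(140,8,3),(139,1,3),(137,3,2),(136,4,2),(135,5,2),(133,2,3),(132,1,3),(130,3,4),(129,7,4),(128,2,4),(126,4,3),(125,8,3),(123,3,7),(122,2,7),(120,7,3),(119,8,3),(118,3,3),(117,5,8),(116,4,8),(115,3,8),(114,1,8),(113,2,8),(112,3,8),(111,8,8),(116,5,7),(115,4,7),(117,5,3),(122,8,4),(121,7,4),(123,8,3),(125,2,7),(136,1,8),(135,2,8),(134,3,8),(133,4,8),(132,5,8),(131,3,8),(130,2,8),(129,1,8),(128,4,8),(127,3,8),(126,2,8),(124,8,7),(122,7,3),(120,3,4),(119,2,4),(132,3,5),(131,2,5),(130,1,5),(133,3,4),(132,2,4),(131,1,4),(129,4,5),(128,3,5),(127,2,5),(126,7,5),(125,8,5),(124,3,5),(123,7,5),(135,4,2),(133,2,3),(132,1,3),(131,5,3),(129,3,4),(128,2,4),(127,7,4),(126,8,4),(136,4,1),(135,3,1),(133,1,2),(132,5,2),(131,4,2),(129,2,3),(137,4,7),(138,4,3),(136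,3,7),(135,2,7),(134,1,7),(133,5,7),(132,4,7),(140,3,2),(139,4,2),(138,7,2),(136,2,3),(135,1,3),(134,5,3),(139,7,4),(142,2,7),(140,7,3),(138,3,4),(137,2,4),(136,1,4),(144,1,5),(143,2,5),(142,3,5),(141,7,5),(145,1,4),(144,2,4),(146,1,3),(151,4,2),(152,4,3),(150,3,2),(149,7,2),(148,8,2),(158,4,1),(157,3,1),(156,7,1),(155,5,1),(154,3,1),(153,4,1),(159,4,2),(160,4,3),(158,3,2),(157,7,2),(156,5,2),(162,3,7),(161,4,7),(160,2,7),(158,7,3),(157,5,3),(155,3,2),(154,4,2),(152,2,1),(151,3,1),(150,7,1),(149,8,1),(147,1,2),(145,2,3),(143,3,4),(142,7,4),(140,4,5),(139,3,5),(138,2,5),(137,1,5),(135,5,4),(133,4,3),(131,3,7),(130,2,7),(128,7,3),(127,8,3),(125,3,4),(124,7,4),(122,4,5),(121,3,5),(120,2,5),(118,5,4),(116,4,3),(114,3,7),(113,1,7),(112,2,7),(110,7,3),(109,3,3),(116,3,5),(128,3,2),(127,7,2),(126,8,2),(125,4,2),(130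,2,7),(128,7,3),(127,8,3),(131,2,4),(145,3,1),(156,5,7),(155,2,7),(157,5,3),(158,5,2),(156,2,3),(154,3,7),(153,4,7),(152,1,7),(151,2,7),(149,7,3),(148,8,3),(146,3,2),(144,2,1),(143,4,1),(142,3,1),(141,7,1),(140,5,1),(139,4,1),(138,3,1),(136,1,2),(135,4,2),(134,5,2),(132,2,3),(130,3,4),(129,7,4),(128,8,4),(126,4,3),(124,3,2),(123,7,2),(122,5,2),(121,4,2),(119,2,3),(117,3,4),(115,4,5),(114,7,5),(113,3,5),(112,1,5),(111,2,5),(110,3,5),(109,7,5),(108,5,5),(117,4,2),(118,4,3),(116,3,2),(115,5,2),(114,4,2),(113,7,2),(116,5,3),(118,2,4),(120,3,5),(119,2,5),(117,5,4),(115,4,3),(121,3,7),(120,2,7),(119,4,7),(118,5,7),(123,7,2),(121,2,3),(124,7,4),(146,2,8),(145,3,8),(144,1,8),(143,2,8),(142,4,8),(141,3,8),(147,2,7),(148,2,3),(146,3,7),(145,1,7),(144,2,7),(143,4,7),(146,1,3),(148,7,2),(150,3,1),(149,7,1),(147,1,2),(145,2,3),(151,3,4),(150,7,4),(149,2,4),(148,1,4),(153,4,7),(151,7,3),(154,4,2),(172,3,5)]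

theorem step5 : reduces 10 adj mv5 (mid4) (mid5) 4 = true := by decide +kernel

/-- intermediate word -/
def mid6 : List ℕ := [3,2,1,3,4,5,3,7,8,3,2,1,3,4,5,3,7,8,3,2,1,3,4,5,3,7,8,3,2,1,3,4,5,3,7,8,3,2,1,3,4,5,3,7,8,3,2,1,3,4,5,3,7,8,3,2,1,3,4,5,3,7,8,3,2,1,3,4,5,3,7,8,3,2,1,3,4,5,3,7,8,3,2,1,3,4,5,3,7,8,8,7,5,1,3,2,1,3,4,3,5,4,7,8,2,3,7,3,4,5,2,3,4,1,2,3,4,5,7,3,2,1,4,3,2,8,7,3,4,2,3,7,1,2,3,5,4,3,2,1,7,3,8,7,3,2,1,3,4,3,7,8,2,3,7,5,4,3,7,8,2,3,4,1,2,3,5,4,7,3,2,7,4,3,8,7,1,5,3,2,1,4,3,2]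

/-- moves -/
def mv6 : List (ℕ × ℕ × ℕ) := [(171,2,5),(170,1,5),(169,7,5),(168,3,5),(167,2,5),(173,3,4),(172,2,4),(171,1,4),(170,7,4),(175,4,2),(173,2,3),(172,1,3),(176,4,7),(181,1,4),(180,7,4),(179,8,4),(177,4,3),(175,3,7),(174,2,7),(173,1,7),(171,7,3),(169,3,4),(168,2,4),(166,4,5),(165,3,5),(164,7,5),(163,8,5),(162,1,5),(161,2,5),(160,7,5),(159,3,5),(157,5,4),(155,4,3),(153,3,2),(152,7,2),(150,2,3),(149,1,3),(147,3,4),(146,2,4),(144,4,3),(142,3,7),(140,7,8),(139,5,8),(138,4,8),(137,3,8),(136,2,8),(135,1,8),(134,4,8),(133,5,8),(132,3,8),(131,2,8),(130,4,8),(129,3,8),(127,8,7),(125,7,3),(123,3,4),(122,2,4),(120,4,3),(119,5,3),(117,3,7),(116,4,7),(114,7,3),(112,3,2),(110,2,1),(109,3,1),(108,7,1),(107,4,1),(106,3,1),(105,1,1),(110,1,3),(108,3,2),(107,7,2),(106,4,2),(112,2,7),(111,1,7),(110,2,7),(108,7,3),(114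,3,4),(113,2,4),(112,1,4),(111,2,4),(120,3,2),(119,4,2),(118,5,2),(117,7,2),(116,4,2),(114,2,3),(113,1,3),(133,4,1),(132,5,1),(131,3,1),(134,4,2),(133,5,2),(135,4,3),(134,5,3),(132,3,2),(130,2,1),(129,4,1),(128,3,1),(127,7,1),(126,8,1),(125,3,1),(124,7,1),(123,4,1),(130,4,2),(132,1,3),(137,3,5),(135,5,4),(134,2,4),(133,1,4),(131,4,3),(129,3,2),(128,7,2),(127,8,2),(140,8,3),(138,3,7),(137,4,7),(136,5,7),(135,2,7),(134,1,7),(142,7,4),(141,8,4),(140,7,4),(138,4,3),(137,5,3),(144,3,2),(143,7,2),(142,8,2),(141,7,2),(150,3,7),(149,2,7),(148,1,7),(147,4,7),(146,2,7),(144,7,3),(143,8,3),(161,1,8),(160,2,8),(162,1,7),(161,2,7),(159,7,8),(158,3,8),(157,4,8),(156,5,8),(155,3,8),(154,4,8),(153,2,8),(163,1,3),(166,5,2),(165,4,2),(171,3,1),(170,7,1),(169,4,1),(168,3,1),(167,5,1),(166,4,1),(164,1,2),(162,2,3),(161,8,3),(159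,3,7),(158,4,7),(157,5,7),(166,2,4),(165,1,4),(168,5,3),(172,3,2),(171,7,2),(170,4,2),(169,5,2),(167,2,3),(166,1,3),(164,3,4),(163,2,4),(162,8,4),(161,7,4),(159,4,3),(158,5,3),(156,3,7),(155,4,7),(154,2,7),(152,7,8),(151,3,8),(150,2,8),(149,1,8),(148,4,8),(147,2,8),(146,3,8),(144,8,7),(142,7,3),(140,3,2),(139,4,2),(138,5,2),(136,2,3),(135,1,3),(133,3,7),(132,4,7),(131,2,7),(129,7,3),(128,8,3),(126,3,2),(125,7,2),(124,4,2),(122,2,1),(121,3,1),(120,4,1),(119,5,1),(118,7,1),(117,4,1),(116,3,1),(114,1,2),(112,2,3),(110,3,4),(109,7,4),(107,4,3),(105,3,2),(104,2,2),(103,3,3),(99,5,3),(103,2,4),(102,8,4),(101,7,4),(115,7,5),(116,7,4),(114,4,5),(113,3,5),(112,2,5),(111,1,5),(110,3,5),(109,2,5),(121,4,7),(120,1,7),(119,2,7),(117,7,3),(116,5,3),(114,3,4),(113,2,4),(112,1,4),(128,2,4),(145,4,1),(146,4,2),(144,2,1),(143,3,1),(142,7,1),(141,8,1),(140,3,1),(139,7,1),(151,2,4),(150,8,4),(149,7,4),(147,4,3)]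

theorem step6 : reduces 10 adj mv6 (mid5) (mid6) 3 = true := by decide +kernel

/-- intermediate word -/
def mid7 : List ℕ := [3,2,1,3,4,5,3,7,8,3,2,1,3,4,5,3,7,8,3,2,1,3,4,5,3,7,8,3,2,1,3,4,5,3,7,8,3,2,1,3,4,5,3,7,8,3,2,1,3,4,5,3,7,8,3,2,1,3,4,5,3,7,8,3,2,1,3,4,5,3,7,8,3,2,1,3,4,5,3,7,8,5,4,7,8,1,3,7,2,3,2,4,3,7,5,4,3,1,2,3,4,7,3,1,2,8,7,3,4,2,3,7,8,1,2,3,7,5,4,3,7,2,3,4,1,2,3,8,7,3,2,4,3,8,7,5,4,3,2,7,3,8,7,4,5,1,2,3,4,7,3,8,7,2,3,7,1,2,5,4,3,2]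

/-- moves -/
def mv7 : List (ℕ × ℕ × ℕ) := [(146,1,3),(144,3,2),(143,7,2),(142,8,2),(159,8,2),(158,7,2),(160,8,3),(167,4,7),(166,5,7),(171,7,4),(170,2,4),(168,4,3),(167,5,3),(165,3,7),(164,2,7),(163,1,7),(162,4,7),(173,3,8),(177,5,3),(176,1,3),(174,3,7),(172,7,8),(171,2,8),(170,3,8),(169,4,8),(168,5,8),(172,2,7),(174,8,3),(178,5,2),(179,5,1),(177,1,2),(176,7,2),(175,8,2),(173,2,3),(171,3,7),(170,4,7),(169,5,7),(167,7,8),(166,3,8),(165,2,8),(164,1,8),(163,4,8),(161,8,7),(159,7,3),(157,3,2),(156,4,2),(155,5,2),(154,7,2),(152,2,3),(151,8,3),(149,3,7),(148,4,7),(147,1,7),(146,2,7),(144,7,3),(143,8,3),(141,3,2),(140,7,2),(138,2,1),(137,3,1),(136,4,1),(135,5,1),(134,3,1),(132,1,2),(131,7,2),(129,2,3),(127,3,4),(126,7,4),(125,8,4),(124,2,4),(122,4,3),(121,1,3),(119,3,2),(118,7,2),(117,5,2),(116,4,2),(114,2,3),(113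,1,3),(111,3,4),(110,2,4),(108,4,5),(107,3,5),(106,7,5),(105,3,5),(104,2,5),(103,8,5),(102,7,5),(100,5,4),(98,4,3),(97,3,3),(111,4,1),(110,3,1),(112,4,2),(113,4,3),(111,3,2),(109,2,1),(108,5,1),(107,4,1),(106,3,1),(105,7,1),(104,3,1),(109,5,2),(108,4,2),(111,1,3),(110,5,3),(113,2,4),(112,1,4),(115,3,5),(114,2,5),(113,1,5),(111,5,4),(109,4,3),(107,3,2),(106,7,2),(116,3,7),(115,2,7),(114,1,7),(113,4,7),(112,5,7),(118,7,2),(116,2,3),(115,1,3),(120,1,4),(119,7,4),(121,1,3),(141,2,8),(140,3,8),(142,2,7),(143,2,3),(141,3,7),(139,7,8),(138,1,8),(137,2,8),(136,3,8),(135,4,8),(134,5,8),(133,3,8),(132,2,8),(131,1,8),(139,1,7),(138,2,7),(141,8,3),(140,1,3),(143,7,2),(142,8,2),(145,3,1),(144,7,1),(143,8,1),(141,1,2),(139,2,3),(137,3,7),(136,4,7),(135,5,7),(146,3,4),(145,7,4),(144,8,4),(143,2,4),(142,1,4),(148,4,7),(146,7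,3),(145,8,3),(150,8,2),(149,4,2),(151,8,3),(167,8,5),(166,7,5),(165,3,5),(164,2,5),(163,1,5),(168,8,4),(167,7,4),(169,8,3),(173,3,8),(172,2,8),(170,8,7),(168,7,3),(166,3,4),(165,2,4),(164,1,4),(162,4,5),(161,7,5),(160,8,5),(159,3,5),(158,7,5),(157,2,5),(156,3,5),(154,5,4),(153,7,4),(152,8,4),(150,4,3),(148,3,2),(147,7,2),(146,8,2),(144,2,3),(143,1,3),(141,3,4),(140,2,4),(139,7,4),(137,4,3),(136,5,3),(134,3,7),(133,2,7),(132,1,7),(130,7,8),(129,3,8),(128,2,8),(127,4,8),(126,3,8),(124,8,7),(123,2,7),(122,1,7),(120,7,3),(118,3,4),(117,2,4),(116,1,4),(114,4,3),(113,5,3),(111,3,7),(110,4,7),(109,2,7),(107,7,3),(105,3,2),(103,2,1),(102,8,1),(101,7,1),(100,4,1),(99,5,1),(98,3,1),(97,4,1),(96,1,1),(89,8,8),(88,7,7),(89,1,3),(88,5,3),(87,3,3),(86,5,5),(87,2,4),(86,1,4),(85,4,4),(91,8,2),(90,7,2),(89,4,2),(88,5,2),(86,2,3),(85,1,3),(84,3,3),(83,1,1),(82,2,2),(81,3,3),(87,2,7)]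

theorem step7 : reduces 10 adj mv7 (mid6) (mid7) 11 = true := by decide +kernel

/-- moves -/
def mv8 : List (ℕ × ℕ × ℕ) := [(88,2,3),(86,3,7),(85,1,7),(83,7,8),(82,4,8),(81,5,8),(80,8,8),(81,4,7),(80,5,7),(79,7,7),(82,1,3),(81,8,3),(86,3,4),(85,2,4),(84,7,4),(83,1,4),(82,8,4),(80,4,3),(79,5,3),(78,3,3),(77,5,5),(76,4,4),(75,3,3),(75,8,1),(74,1,1),(75,7,2),(74,8,2),(73,2,2),(76,4,7),(74,7,3),(73,8,3),(72,3,3),(71,8,8),(70,7,7),(69,3,3),(69,4,5),(68,5,5),(67,4,4),(67,5,3),(66,3,3),(66,5,1),(65,1,1),(65,5,2),(64,2,2),(64,5,3),(63,3,3),(68,2,8),(67,1,8),(66,3,8),(69,2,7),(68,1,7),(72,4,2),(70,2,3),(69,1,3),(67,3,7),(65,7,8),(64,4,8),(63,5,8),(62,8,8),(63,4,7),(62,5,7),(61,7,7),(63,8,3),(68,3,4),(67,2,4),(66,1,4),(65,7,4),(64,8,4),(62,4,3),(61,5,3),(60,3,3),(59,5,5),(58,4,4),(57,3,3),(58,7,1),(57,8,1),(56,1,1),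(57,7,2),(56,8,2),(55,2,2),(58,4,7),(56,7,3),(55,8,3),(54,3,3),(53,8,8),(52,7,7),(51,3,3),(56,7,5),(55,3,5),(54,2,5),(53,1,5),(52,8,5),(57,7,4),(58,7,3),(56,3,4),(55,2,4),(54,1,4),(53,8,4),(51,4,5),(50,5,5),(49,4,4),(56,3,2),(55,7,2),(54,4,2),(52,2,3),(51,1,3),(50,8,3),(49,5,3),(48,3,3),(49,8,1),(48,5,1),(47,1,1),(48,8,2),(47,5,2),(46,2,2),(47,8,3),(46,5,3),(45,3,3),(45,5,8),(44,8,8),(45,4,7),(44,5,7),(43,7,7),(46,2,4),(44,4,3),(43,5,3),(42,3,3),(41,5,5),(40,4,4),(39,3,3),(39,2,1),(38,1,1),(37,2,2),(37,1,3),(36,3,3),(36,1,8),(35,8,8),(35,1,7),(34,7,7),(34,1,3),(33,3,3),(38,7,5),(37,8,5),(36,3,5),(39,7,4),(38,8,4),(42,2,7),(40,7,3),(39,8,3),(37,3,4),(35,4,5),(34,2,5),(33,1,5),(32,5,5),(33,2,4),(32,1,4),(31,4,4),(33,5,3),(38,3,2),(37,7,2),(36,8,2),(35,4,2),(34,5,2),(32,2,3),(31,1,3),(30,3,3),(29,1,1),(28,2,2),(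27,3,3),(28,4,8),(27,5,8),(26,8,8),(27,4,7),(26,5,7),(25,7,7),(30,7,4),(29,8,4),(28,2,4),(26,4,3),(25,5,3),(24,3,3),(23,5,5),(22,4,4),(21,3,3),(24,5,1),(23,7,1),(22,8,1),(25,5,2),(24,7,2),(23,8,2),(21,2,1),(20,1,1),(19,2,2),(22,5,3),(24,4,7),(23,5,7),(21,7,3),(20,8,3),(19,1,3),(18,3,3),(18,1,8),(17,8,8),(17,1,7),(16,7,7),(16,1,3),(15,3,3),(15,1,5),(14,5,5),(14,1,4),(13,4,4),(13,1,3),(12,3,3),(11,1,1),(12,7,2),(11,8,2),(10,2,2),(11,7,3),(10,8,3),(9,3,3),(8,8,8),(7,7,7),(6,3,3),(7,2,5),(6,1,5),(5,5,5),(6,2,4),(5,1,4),(4,4,4),(5,2,3),(4,1,3),(3,3,3),(2,1,1),(1,2,2),(0,3,3)]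

theorem step8 : reduces 10 adj mv8 (mid7) ([]) 81 = true := by decide +kernel

theorem red.{u} : RedP.{u} 10 adj (conjs threeConj) ([]) 144 :=
  RedP.trans (RedP.trans (RedP.trans (RedP.trans (RedP.trans (RedP.trans (RedP.trans (RedP.trans (RedP.of_reduces step0) (RedP.of_reduces step1)) (RedP.of_reduces step2)) (RedP.of_reduces step3)) (RedP.of_reduces step4)) (RedP.of_reduces step5)) (RedP.of_reduces step6)) (RedP.of_reduces step7)) (RedP.of_reduces step8)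

end CfsgLib.Fi23Mult.Three
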